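import Cfsg.Agent.S0100
import Cfsg.Prelude.Def_CaseTheorems

/-!
# `p`-groups of rank at least 3 (`p` odd) -- helper97

* `index_centralizer_le`: a normal elementary abelian subgroup of order `p²` of a `p`-group has
  centralizer of index at most `p`.
* `exists_normal_elemAb_card_cube`: rank `≥ 3` (odd `p`) gives a normal elementary abelian subgroup
  of order `p³`.
* `exists_normal_elemAb_gt`: every normal elementary abelian subgroup of order `p²` lies in a normal
  elementary abelian subgroup of order `> p²`.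
-/

set_option autoImplicit false
set_option linter.style.haveILetI false

namespace Cfsg.Agent.Lib.Helper97.PRank

open scoped Pointwise

variable {P : Type*} [Group P] [Finite P] {p : ℕ} [hpf : Fact p.Prime]

/-- A normal elementary abelian subgroup of order `p²` has centralizer of index at most `p`. -/
theorem index_centralizer_le (hP : IsPGroup p P) (A : Subgroup P) [hAn : A.Normal]
    (hAe : ∀ a ∈ A, a ^ p = 1) (hAcard : Nat.card A = p ^ 2) :
    (Subgroup.centralizer (A : Set P)).index ≤ p := by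
  classical
  have hpp : p.Prime := hpf.out
  by_cases hAZ : A ≤ Subgroup.center P
  · have : Subgroup.centralizer (A : Set P) = ⊤ := by
      rw [eq_top_iff]
      intro g _
      rw [Subgroup.mem_centralizer_iff]
      intro a ha
      exact (Subgroup.mem_center_iff.mp (hAZ ha) g).symm
    rw [this, Subgroup.index_top]
    exact hpp.pos
  · obtain ⟨a₁, ha₁, ha₁Z⟩ := SetLike.not_le_iff_exists.mp hAZ
    have hA1 : A ≠ ⊥ := by
      rintro rfl
      exact ha₁Z ((Subgroup.mem_bot.mp ha₁) ▸ Subgroup.one_mem _)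
    obtain ⟨a₀, ha₀A, ha₀Z, ha₀1⟩ :=
      Cfsg.Agent.Lib.Helper32.exists_ne_one_mem_normal_inf_center hP A hA1
    have ha₀o : orderOf a₀ = p := orderOf_eq_prime (hAe a₀ ha₀A) ha₀1
    have hZ₀c : Nat.card (Subgroup.zpowers a₀) = p := by rw [Nat.card_zpowers, ha₀o]
    have hZ₀Z : Subgroup.zpowers a₀ ≤ Subgroup.center P := (Subgroup.zpowers_le).mpr ha₀Z
    have ha₁Z₀ : a₁ ∉ Subgroup.zpowers a₀ := fun h => ha₁Z (hZ₀Z h)
    have hZ₀A : Subgroup.zpowers a₀ ≤ A := Subgroup.zpowers_le.mpr ha₀A
    have hgen : A = Subgroup.zpowers a₀ ⊔ Subgroup.zpowers a₁ := by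
      symm
      apply Subgroup.eq_of_le_of_card_ge (sup_le hZ₀A (Subgroup.zpowers_le.mpr ha₁))
      have h2 : Nat.card (Subgroup.zpowers a₀) <
          Nat.card (Subgroup.zpowers a₀ ⊔ Subgroup.zpowers a₁ : Subgroup P) := by
        by_contra hge
        push Not at hge
        have := Subgroup.eq_of_le_of_card_ge
          (le_sup_left : Subgroup.zpowers a₀ ≤ Subgroup.zpowers a₀ ⊔ Subgroup.zpowers a₁) hge
        apply ha₁Z₀
        rw [this]
        exact (le_sup_right : Subgroup.zpowers a₁ ≤ Subgroup.zpowers a₀ ⊔ Subgroup.zpowers a₁)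
          (Subgroup.mem_zpowers a₁)
      obtain ⟨j, hj⟩ := (hP.to_subgroup
        (Subgroup.zpowers a₀ ⊔ Subgroup.zpowers a₁ : Subgroup P)).exists_card_eq
      rw [hZ₀c, hj] at h2
      rw [hAcard, hj]
      exact Nat.pow_le_pow_right hpp.pos (Cfsg.Agent.S0100.lt_pow_imp hpp h2)
    have hC' : Subgroup.centralizer ({a₁} : Set P) ≤ Subgroup.centralizer (A : Set P) := by
      intro g hg
      rw [Subgroup.mem_centralizer_iff]
      intro a ha
      have hle : A ≤ Subgroup.centralizer ({g} : Set P) := by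
        rw [hgen]
        apply sup_le
        · rw [Subgroup.zpowers_le, Subgroup.mem_centralizer_singleton_iff]
          exact (Subgroup.mem_center_iff.mp ha₀Z g).symm
        · rw [Subgroup.zpowers_le, Subgroup.mem_centralizer_singleton_iff]
          exact (Subgroup.mem_centralizer_singleton_iff.mp hg).symm
      exact Subgroup.mem_centralizer_singleton_iff.mp (hle ha)
    have hidx : (Subgroup.centralizer ({a₁} : Set P)).index ≤ p := by
      have hsub : (ConjClasses.mk a₁).carrier ⊆
          (A : Set P) \ (Subgroup.zpowers a₀ : Set P) := by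
        intro y hy
        rw [ConjClasses.mem_carrier_iff_mk_eq, ConjClasses.mk_eq_mk_iff_isConj, isConj_iff] at hy
        obtain ⟨c, hc⟩ := hy
        constructor
        · have h3 : c⁻¹ * a₁ * c⁻¹⁻¹ ∈ A := hAn.conj_mem a₁ ha₁ c⁻¹
          have h4 : c⁻¹ * a₁ * c⁻¹⁻¹ = y := by rw [← hc]; group
          rw [← h4]; exact h3
        · intro hyZ
          apply ha₁Z
          have hyc : y ∈ Subgroup.center P := hZ₀Z hyZ
          have : a₁ = y := by
            rw [← hc]
            have := Subgroup.mem_center_iff.mp hyc c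
            calc c * y * c⁻¹ = (y * c) * c⁻¹ := by rw [this]
              _ = y := by group
          rw [this]; exact hyc
      have hcard : ((A : Set P) \ (Subgroup.zpowers a₀ : Set P)).ncard = p ^ 2 - p := by
        rw [Set.ncard_sdiff (by exact_mod_cast hZ₀A) (Set.toFinite _)]
        rw [← _root_.Nat.card_coe_set_eq, ← _root_.Nat.card_coe_set_eq]
        show Nat.card A - Nat.card (Subgroup.zpowers a₀) = _
        rw [hAcard, hZ₀c]
      have h1 := Set.ncard_le_ncard hsub (Set.toFinite _)
      rw [hcard, ← Cfsg.Agent.S0100.index_centralizer_eq] at h1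
      obtain ⟨j, hj⟩ := hP.index (Subgroup.centralizer ({a₁} : Set P))
      rw [hj] at h1 ⊢
      have hj1 : j ≤ 1 := by
        by_contra hj2
        push Not at hj2
        have : p ^ 2 ≤ p ^ j := Nat.pow_le_pow_right hpp.pos hj2
        have hp0 := hpp.pos
        have : p ≤ p ^ 2 := by nlinarith
        omega
      calc p ^ j ≤ p ^ 1 := Nat.pow_le_pow_right hpp.pos hj1
        _ = p := pow_one p
    have hdvd := Subgroup.index_dvd_of_le hC'
    exact (Nat.le_of_dvd (Nat.pos_of_ne_zero Subgroup.index_ne_zero_of_finite) hdvd).trans hidx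

/-- For odd `p`, a `p`-group of rank at least 3 has a normal elementary abelian subgroup of order
`p³`. -/
theorem exists_normal_elemAb_card_cube (hp : p ≠ 2) (hP : IsPGroup p P)
    (hr : ¬ Cfsg.PRankLE p 2 P) :
    ∃ M : Subgroup P, M.Normal ∧ IsMulCommutative M ∧ (∀ a ∈ M, a ^ p = 1) ∧
      Nat.card M = p ^ 3 := by
  by_contra hcon
  apply hr
  intro E hE hEe
  apply Cfsg.Agent.S0100.result hp hP _ E hE hEe
  intro A hAn hAc hAe hcard
  exact hcon ⟨A, hAn, hAc, hAe, hcard⟩

/-- For odd `p`, in a `p`-group of rank at least 3 every normal elementary abelian subgroup of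
order `p²` lies in a normal elementary abelian subgroup of larger order. -/
theorem exists_normal_elemAb_gt (hp : p ≠ 2) (hP : IsPGroup p P) (hr : ¬ Cfsg.PRankLE p 2 P)
    (E : Subgroup P) [hEn : E.Normal] (hEc : ∀ a ∈ E, ∀ b ∈ E, a * b = b * a)
    (hEe : ∀ a ∈ E, a ^ p = 1) (hE2 : Nat.card E = p ^ 2) :
    ∃ B : Subgroup P, B.Normal ∧ E ≤ B ∧ (∀ a ∈ B, ∀ b ∈ B, a * b = b * a) ∧
      (∀ a ∈ B, a ^ p = 1) ∧ p ^ 2 < Nat.card B := by
  classical
  have hpp : p.Prime := hpf.out
  obtain ⟨M, hMn, hMc, hMe, hMcard⟩ := exists_normal_elemAb_card_cube hp hP hr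
  haveI := hMn
  have hMcomm : ∀ a ∈ M, ∀ b ∈ M, a * b = b * a := by
    intro a ha b hb
    exact congrArg Subtype.val (hMc.is_comm.comm ⟨a, ha⟩ ⟨b, hb⟩)
  obtain ⟨F, hFdef⟩ : ∃ F : Subgroup P, F = M ⊓ Subgroup.centralizer (E : Set P) := ⟨_, rfl⟩
  haveI hCn : (Subgroup.centralizer (E : Set P)).Normal := Subgroup.normal_centralizer
  haveI hFn : F.Normal := by rw [hFdef]; infer_instance
  have hFM : F ≤ M := hFdef ▸ inf_le_left
  have hFC : F ≤ Subgroup.centralizer (E : Set P) := hFdef ▸ inf_le_right
  have hcomm : ∀ f ∈ F, ∀ e ∈ E, e * f = f * e := by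
    intro f hf e he
    exact Subgroup.mem_centralizer_iff.mp (hFC hf) e he
  have hset : ((E ⊔ F : Subgroup P) : Set P) = (E : Set P) * (F : Set P) :=
    Subgroup.normal_mul E F
  have hmem : ∀ b ∈ E ⊔ F, ∃ e ∈ E, ∃ f ∈ F, b = e * f := by
    intro b hb
    have hb' : b ∈ ((E ⊔ F : Subgroup P) : Set P) := hb
    rw [hset, Set.mem_mul] at hb'
    obtain ⟨e, he, f, hf, rfl⟩ := hb'
    exact ⟨e, he, f, hf, rfl⟩
  refine ⟨E ⊔ F, inferInstance, le_sup_left, ?_, ?_, ?_⟩
  · intro b hb b' hb'
    obtain ⟨e, he, f, hf, rfl⟩ := hmem b hb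
    obtain ⟨e', he', f', hf', rfl⟩ := hmem b' hb'
    have e1 : e' * f = f * e' := hcomm f hf e' he'
    have e2 : e * f' = f' * e := hcomm f' hf' e he
    calc e * f * (e' * f') = e * (f * e') * f' := by group
      _ = e * (e' * f) * f' := by rw [e1]
      _ = (e * e') * (f * f') := by group
      _ = (e' * e) * (f' * f) := by rw [hEc e he e' he', hMcomm f (hFM hf) f' (hFM hf')]
      _ = e' * (e * f') * f := by group
      _ = e' * (f' * e) * f := by rw [e2]
      _ = e' * f' * (e * f) := by group
  · intro b hb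
    obtain ⟨e, he, f, hf, rfl⟩ := hmem b hb
    have hc : Commute e f := hcomm f hf e he
    rw [hc.mul_pow, hEe e he, hMe f (hFM hf), one_mul]
  · by_contra hle
    push Not at hle
    have hEB : E = E ⊔ F := Subgroup.eq_of_le_of_card_ge le_sup_left (by rw [hE2]; exact hle)
    have hFE : F ≤ E := by
      rw [hEB]; exact le_sup_right
    -- `|F| ≥ p²`
    have hrel : F.relIndex M ≤ p := by
      rw [hFdef, Subgroup.inf_relIndex_left]
      have h1 := Subgroup.relIndex_le_of_le_right (H := Subgroup.centralizer (E : Set P))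
        (le_top : M ≤ ⊤)
        (by rw [Subgroup.relIndex_top_right]; exact Subgroup.index_ne_zero_of_finite)
      rw [Subgroup.relIndex_top_right] at h1
      exact h1.trans (index_centralizer_le hP E hEe hE2)
    have hmul : Nat.card F * F.relIndex M = Nat.card M := by
      have h1 := Subgroup.relIndex_mul_relIndex (⊥ : Subgroup P) F M bot_le hFM
      rwa [Subgroup.relIndex_bot_left, Subgroup.relIndex_bot_left] at h1
    have hFc : p ^ 2 ≤ Nat.card F := by
      have h1 : Nat.card M ≤ Nat.card F * p := by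
        rw [← hmul]; exact Nat.mul_le_mul_left _ hrel
      have h2 : p ^ 3 = p ^ 2 * p := by ring
      have h3 : p ^ 2 * p ≤ Nat.card F * p := by omega
      exact Nat.le_of_mul_le_mul_right h3 hpp.pos
    have hFeq : F = E := Subgroup.eq_of_le_of_card_ge hFE (by rw [hE2]; exact hFc)
    have hEM : E ≤ M := hFeq ▸ hFM
    have hMC : M ≤ Subgroup.centralizer (E : Set P) := by
      intro m hm
      rw [Subgroup.mem_centralizer_iff]
      intro e he
      exact hMcomm e (hEM he) m hm
    have hFM' : F = M := by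
      rw [hFdef]; exact inf_of_le_left hMC
    have : Nat.card M = Nat.card E := by rw [← hFM', hFeq]
    rw [hMcard, hE2] at this
    have h3 : p ^ 3 = p ^ 2 * p := by ring
    have hp2 : 0 < p ^ 2 := pow_pos hpp.pos 2
    have hp1 := hpp.one_lt
    nlinarith

end Cfsg.Agent.Lib.Helper97.PRank
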