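import Mathlib
import Cfsg.Agent.S0035
import Cfsg.Agent.S0878
import Cfsg.Agent.S0740

set_option autoImplicit false

namespace Cfsg.Agent.Lib.Helper97.Zass

open scoped Pointwise

/-- elementwise Zassenhaus hypotheses -/
structure Hyp (G Ω : Type*) [Group G] [MulAction G Ω] : Prop where
  faith : ∀ g : G, (∀ a : Ω, g • a = a) → g = 1
  h2 : ∀ {a b c d : Ω}, a ≠ b → c ≠ d → ∃ g : G, g • a = c ∧ g • b = d
  h3 : ∀ g : G, ∀ a b c : Ω, a ≠ b → b ≠ c → a ≠ c → g • a = a → g • b = b → g • c = c → g = 1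
  h4 : ∃ g : G, g ≠ 1 ∧ ∃ a b : Ω, a ≠ b ∧ g • a = a ∧ g • b = b
  h5 : ∀ N : Subgroup G, N.Normal → (∀ a b : Ω, ∃ x ∈ N, x • a = b) →
    ∃ a : Ω, ∃ x ∈ N, x ≠ 1 ∧ x • a = a
  three : ∃ a b c : Ω, a ≠ b ∧ b ≠ c ∧ a ≠ c

theorem mem_conj_smul {G : Type*} [Group G] (H : Subgroup G) (g x : G) :
    x ∈ MulAut.conj g • H ↔ g⁻¹ * x * g ∈ H := by
  rw [Subgroup.mem_pointwise_smul_iff_inv_smul_mem, ← map_inv, MulAut.smul_def, MulAut.conj_apply,
    inv_inv]

variable {G Ω : Type*} [Group G] [MulAction G Ω]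

theorem hyp_of_zass [Finite Ω] (hZ : Cfsg.IsZassenhausGroup G Ω) : Hyp G Ω := by
  classical
  have := Fintype.ofFinite Ω
  have h3c := Cfsg.Agent.S0878.three_le_card hZ
  obtain ⟨hf, h2, h3, h4, h5⟩ := hZ
  rw [MulAction.is_two_pretransitive_iff] at h2
  refine ⟨?_, @h2, h3, h4, ?_, ?_⟩
  · intro g hg
    apply hf.eq_of_smul_eq_smul
    intro a
    rw [hg a, one_smul]
  · intro N hN ht
    have : MulAction.IsPretransitive N Ω := by
      refine ⟨fun a b => ?_⟩
      obtain ⟨x, hx, hxa⟩ := ht a b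
      exact ⟨⟨x, hx⟩, hxa⟩
    obtain ⟨a, ha⟩ := h5 N hN this
    obtain ⟨x, hx1⟩ := (Subgroup.ne_bot_iff_exists_ne_one).mp ha
    refine ⟨a, x.1.1, x.1.2, ?_, ?_⟩
    · intro h
      apply hx1
      apply Subtype.ext
      apply Subtype.ext
      exact h
    · exact x.2
  · have h3' : 2 < Fintype.card Ω := by omega
    rw [Fintype.two_lt_card_iff] at h3'
    obtain ⟨a, b, c, hab, hac, hbc⟩ := h3'
    exact ⟨a, b, c, hab, hbc, hac⟩

theorem finite_of_hyp [Finite Ω] (hy : Hyp G Ω) : Finite G := by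
  have hinj : Function.Injective (MulAction.toPermHom G Ω) := by
    rw [injective_iff_map_eq_one]
    intro g hg
    apply hy.faith
    intro a
    have := congrArg (fun σ : Equiv.Perm Ω => σ a) hg
    simpa using this
  exact Finite.of_injective _ hinj

theorem exists_ne (hy : Hyp G Ω) (a : Ω) : ∃ b : Ω, b ≠ a := by
  obtain ⟨x, y, z, hxy, hyz, hxz⟩ := hy.three
  by_cases h : x = a
  · exact ⟨y, fun h' => hxy (h.trans h'.symm)⟩
  · exact ⟨x, h⟩

theorem exists_ne2 (hy : Hyp G Ω) (a b : Ω) : ∃ c : Ω, c ≠ a ∧ c ≠ b := by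
  obtain ⟨x, y, z, hxy, hyz, hxz⟩ := hy.three
  by_cases hxa : x = a
  · by_cases hyb : y = b
    · refine ⟨z, ?_, ?_⟩
      · intro h; exact hxz (hxa.trans h.symm)
      · intro h; exact hyz (hyb.trans h.symm)
    · by_cases hya : y = a
      · exact absurd (hxa.trans hya.symm) hxy
      · exact ⟨y, hya, hyb⟩
  · by_cases hxb : x = b
    · by_cases hya : y = a
      · refine ⟨z, ?_, ?_⟩
        · intro h; exact hyz (hya.trans h.symm)
        · intro h; exact hxz (hxb.trans h.symm)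
      · by_cases hyb : y = b
        · exact absurd (hxb.trans hyb.symm) hxy
        · exact ⟨y, hya, hyb⟩
    · exact ⟨x, hxa, hxb⟩

/-- a nontrivial normal subgroup is transitive -/
theorem trans_of_normal (hy : Hyp G Ω) (N : Subgroup G) [N.Normal] (hN : N ≠ ⊥) (a b : Ω) :
    ∃ x ∈ N, x • a = b := by
  by_cases hab : a = b
  · exact ⟨1, N.one_mem, by rw [one_smul, hab]⟩
  obtain ⟨m, hm1⟩ := (Subgroup.ne_bot_iff_exists_ne_one).mp hN
  have hmove : ∃ c : Ω, (m : G) • c ≠ c := by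
    by_contra hcon
    push Not at hcon
    apply hm1
    apply Subtype.ext
    exact hy.faith _ hcon
  obtain ⟨c, hc⟩ := hmove
  obtain ⟨g, hgc, hgm⟩ := hy.h2 (Ne.symm hc) hab
  refine ⟨g * m * g⁻¹, ‹N.Normal›.conj_mem _ m.2 g, ?_⟩
  rw [mul_smul, mul_smul, ← hgc, inv_smul_smul, hgm]

/-- the Frobenius kernel of a point stabiliser -/
theorem exists_kernel [Finite G] (hy : Hyp G Ω) (α : Ω) :
    ∃ K : Subgroup G, (∀ x, x ∈ K ↔ x • α = α ∧ (x = 1 ∨ ∀ c, x • c = c → c = α)) ∧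
      (∀ b c, b ≠ α → c ≠ α → ∃ k ∈ K, k • b = c) := by
  obtain ⟨β, hβ⟩ := exists_ne hy α
  have hH : Cfsg.IsFrobeniusComplement
      (MulAction.stabilizer (MulAction.stabilizer G α) β) := by
    refine ⟨?_, ?_, ?_⟩
    · obtain ⟨g, hg1, a, b, hab, hga, hgb⟩ := hy.h4
      obtain ⟨x, hxa, hxb⟩ := hy.h2 hab (Ne.symm hβ)
      have h1 : (x * g * x⁻¹) • α = α := by
        rw [mul_smul, mul_smul, ← hxa, inv_smul_smul, hga]
      have h2 : (x * g * x⁻¹) • β = β := by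
        rw [mul_smul, mul_smul, ← hxb, inv_smul_smul, hgb]
      intro hbot
      have hmem : (⟨x * g * x⁻¹, h1⟩ : MulAction.stabilizer G α) ∈
          MulAction.stabilizer (MulAction.stabilizer G α) β := h2
      rw [hbot, Subgroup.mem_bot] at hmem
      have h3 : x * g * x⁻¹ = 1 := congrArg Subtype.val hmem
      apply hg1
      calc g = x⁻¹ * (x * g * x⁻¹) * x := by group
        _ = 1 := by rw [h3]; group
    · obtain ⟨γ, hγα, hγβ⟩ := exists_ne2 hy α β
      obtain ⟨g, hgα, hgβ⟩ := hy.h2 (Ne.symm hβ) (Ne.symm hγα)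
      intro htop
      have hmem : (⟨g, hgα⟩ : MulAction.stabilizer G α) ∈
          MulAction.stabilizer (MulAction.stabilizer G α) β := by
        rw [htop]; exact Subgroup.mem_top _
      have h1 : g • β = β := hmem
      exact hγβ (hgβ.symm.trans h1)
    · intro g hg
      rw [eq_bot_iff]
      intro x hx
      rw [Subgroup.mem_inf, mem_conj_smul] at hx
      obtain ⟨hx1, hx2⟩ := hx
      have h1 : (x : G) • β = β := hx1
      have h2 : ((g : G)⁻¹ * (x : G) * (g : G)) • β = β := hx2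
      have h3 : (x : G) • ((g : G) • β) = (g : G) • β := by
        rw [mul_smul, mul_smul, inv_smul_eq_iff] at h2
        exact h2
      have h4 : (g : G) • β ≠ β := fun h => hg h
      have h5 : (g : G) • β ≠ α := by
        intro h
        have hgα : (g : G) • α = α := g.2
        exact hβ (smul_left_cancel (g : G) (h.trans hgα.symm))
      have h6 : (x : G) = 1 := hy.h3 _ α β ((g : G) • β) (Ne.symm hβ) (Ne.symm h4) (Ne.symm h5)
        x.2 h1 h3
      rw [Subgroup.mem_bot]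
      exact Subtype.ext h6
  obtain ⟨K₀, hK₀, hK₀n, hK₀c⟩ := Cfsg.Agent.S0035.result _ hH
  have hmemK₀ : ∀ s : MulAction.stabilizer G α, s ∈ K₀ ↔
      (s = 1 ∨ ∀ c, (s : G) • c = c → c = α) := by
    intro s
    have h1 : s ∈ K₀ ↔ s ∈ Cfsg.frobeniusKernel
        (MulAction.stabilizer (MulAction.stabilizer G α) β) := by
      rw [← hK₀]; rfl
    rw [h1]
    have h2 : (∀ g : MulAction.stabilizer G α,
        s ∉ MulAut.conj g • MulAction.stabilizer (MulAction.stabilizer G α) β) ↔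
        (∀ c, (s : G) • c = c → c = α) := by
      constructor
      · intro h c hc
        by_contra hcα
        obtain ⟨g, hgα, hgβ⟩ := hy.h2 (Ne.symm hβ) (Ne.symm hcα)
        apply h ⟨g, hgα⟩
        rw [mem_conj_smul]
        show (g⁻¹ * (s : G) * g) • β = β
        rw [mul_smul, mul_smul, hgβ, hc, ← hgβ, inv_smul_smul]
      · intro h g hmem
        rw [mem_conj_smul] at hmem
        have h2 : ((g : G)⁻¹ * (s : G) * (g : G)) • β = β := hmem
        have h3 : (s : G) • ((g : G) • β) = (g : G) • β := by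
          rw [mul_smul, mul_smul, inv_smul_eq_iff] at h2
          exact h2
        have h4 := h _ h3
        have hgα : (g : G) • α = α := g.2
        exact hβ (smul_left_cancel (g : G) (h4.trans hgα.symm))
    show (s = 1 ∨ _) ↔ _
    rw [h2]
  have htr : ∀ c, c ≠ α → ∃ k ∈ K₀, (k : G) • β = c := by
    intro c hc
    obtain ⟨g, hgα, hgβ⟩ := hy.h2 (Ne.symm hβ) (Ne.symm hc)
    obtain ⟨⟨k, h⟩, hkh, -⟩ := (Subgroup.isComplement'_def.mp hK₀c).existsUnique
      (⟨g, hgα⟩ : MulAction.stabilizer G α)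
    refine ⟨k.1, k.2, ?_⟩
    have h1 : ((k : MulAction.stabilizer G α) : G) * ((h : MulAction.stabilizer G α) : G) = g :=
      congrArg Subtype.val hkh
    have h2 : ((h : MulAction.stabilizer G α) : G) • β = β := h.2
    rw [← hgβ, ← h1, mul_smul, h2]
  refine ⟨K₀.map (MulAction.stabilizer G α).subtype, ?_, ?_⟩
  · intro x
    rw [Subgroup.mem_map]
    constructor
    · rintro ⟨s, hs, rfl⟩
      refine ⟨s.2, ?_⟩
      rcases (hmemK₀ s).mp hs with h | h
      · left; rw [h]; rfl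
      · right; exact h
    · rintro ⟨hxα, hx⟩
      refine ⟨⟨x, hxα⟩, ?_, rfl⟩
      rw [hmemK₀]
      rcases hx with h | h
      · left; exact Subtype.ext h
      · right; exact h
  · intro b c hb hc
    obtain ⟨k1, hk1, hk1b⟩ := htr b hb
    obtain ⟨k2, hk2, hk2c⟩ := htr c hc
    refine ⟨((k2 * k1⁻¹ : MulAction.stabilizer G α) : G), ?_, ?_⟩
    · rw [Subgroup.mem_map]
      exact ⟨k2 * k1⁻¹, K₀.mul_mem hk2 (K₀.inv_mem hk1), rfl⟩
    · rw [← hk1b]
      show ((k2 : G) * (k1 : G)⁻¹) • ((k1 : G) • β) = c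
      rw [mul_smul, inv_smul_smul, hk2c]

/-- if some nonidentity element of the normal subgroup `N` fixes `α` and another point,
then the Frobenius kernel of the stabiliser of `α` lies in `N` -/
theorem kernel_le [Finite G] (hy : Hyp G Ω) (α : Ω) (K : Subgroup G)
    (hK : ∀ x, x ∈ K ↔ x • α = α ∧ (x = 1 ∨ ∀ c, x • c = c → c = α))
    (N : Subgroup G) [N.Normal] (m : G) (hm : m ∈ N) (hm1 : m ≠ 1) (β : Ω) (hβ : β ≠ α)
    (hmα : m • α = α) (hmβ : m • β = β) : K ≤ N := by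
  have hKm : ∀ k ∈ K, m⁻¹ * k * m ∈ K := by
    intro k hk
    rw [hK] at hk ⊢
    obtain ⟨hkα, hk⟩ := hk
    refine ⟨?_, ?_⟩
    · rw [mul_smul, mul_smul, hmα, hkα, inv_smul_eq_iff, hmα]
    · rcases hk with h | h
      · left; rw [h]; group
      · right
        intro c hc
        rw [mul_smul, mul_smul, inv_smul_eq_iff] at hc
        have h1 := h _ hc
        exact smul_left_cancel m (h1.trans hmα.symm)
  let f : K → K := fun k => ⟨(k : G)⁻¹ * (m⁻¹ * k * m), K.mul_mem (K.inv_mem k.2) (hKm k k.2)⟩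
  have hinj : Function.Injective f := by
    intro k k' hkk
    have h1 : (k : G)⁻¹ * (m⁻¹ * k * m) = (k' : G)⁻¹ * (m⁻¹ * k' * m) := congrArg Subtype.val hkk
    have h2a : (k' : G) * (k : G)⁻¹ * m⁻¹ = m⁻¹ * ((k' : G) * (k : G)⁻¹) := by
      calc (k' : G) * (k : G)⁻¹ * m⁻¹
          = (k' : G) * ((k : G)⁻¹ * (m⁻¹ * k * m)) * m⁻¹ * (k : G)⁻¹ := by group
        _ = (k' : G) * ((k' : G)⁻¹ * (m⁻¹ * k' * m)) * m⁻¹ * (k : G)⁻¹ := by rw [h1]
        _ = m⁻¹ * ((k' : G) * (k : G)⁻¹) := by group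
    have h2 : ((k' : G) * (k : G)⁻¹) * m = m * ((k' : G) * (k : G)⁻¹) := by
      calc ((k' : G) * (k : G)⁻¹) * m = m * (m⁻¹ * ((k' : G) * (k : G)⁻¹)) * m := by group
        _ = m * ((k' : G) * (k : G)⁻¹ * m⁻¹) * m := by rw [h2a]
        _ = m * ((k' : G) * (k : G)⁻¹) := by group
    have h3 : m • (((k' : G) * (k : G)⁻¹) • β) = ((k' : G) * (k : G)⁻¹) • β := by
      rw [← mul_smul, ← h2, mul_smul, hmβ]
    have hd : (k' : G) * (k : G)⁻¹ ∈ K := K.mul_mem k'.2 (K.inv_mem k.2)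
    have hdα := ((hK _).mp hd).1
    have h4 : ((k' : G) * (k : G)⁻¹) • β = β := by
      by_contra hne
      have h5 : ((k' : G) * (k : G)⁻¹) • β ≠ α := by
        intro h; exact hβ (smul_left_cancel _ (h.trans hdα.symm))
      exact hm1 (hy.h3 m α β _ (Ne.symm hβ) (Ne.symm hne) (Ne.symm h5) hmα hmβ h3)
    have h6 : (k' : G) * (k : G)⁻¹ = 1 := by
      rcases ((hK _).mp hd).2 with h | h
      · exact h
      · exact absurd (h β h4) hβ
    apply Subtype.ext
    rw [mul_inv_eq_one] at h6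
    exact h6.symm
  have hsurj := Finite.injective_iff_surjective.mp hinj
  intro k hk
  obtain ⟨k0, hk0⟩ := hsurj ⟨k, hk⟩
  have h1 : (k0 : G)⁻¹ * (m⁻¹ * k0 * m) = k := congrArg Subtype.val hk0
  rw [← h1]
  have h2 : (k0 : G)⁻¹ * (m⁻¹ * k0 * m) = ((k0 : G)⁻¹ * m⁻¹ * (k0 : G)⁻¹⁻¹) * m := by group
  rw [h2]
  exact N.mul_mem (‹N.Normal›.conj_mem _ (N.inv_mem hm) _) hm

/-- a nontrivial normal subgroup contains a nonidentity element with two fixed points -/
theorem exists_two_fixed [Finite G] (hy : Hyp G Ω) (N : Subgroup G) [N.Normal] (hN : N ≠ ⊥) :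
    ∃ m ∈ N, m ≠ 1 ∧ ∃ a b : Ω, a ≠ b ∧ m • a = a ∧ m • b = b := by
  by_contra hcon
  push Not at hcon
  have htr := trans_of_normal hy N hN
  obtain ⟨a, x, hxN, hx1, hxa⟩ := hy.h5 N inferInstance htr
  have hH : Cfsg.IsFrobeniusComplement (MulAction.stabilizer N a) := by
    refine ⟨?_, ?_, ?_⟩
    · intro hbot
      have hmem : (⟨x, hxN⟩ : N) ∈ MulAction.stabilizer N a := hxa
      rw [hbot, Subgroup.mem_bot] at hmem
      exact hx1 (congrArg Subtype.val hmem)
    · obtain ⟨b, hb⟩ := exists_ne hy a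
      obtain ⟨y, hyN, hya⟩ := htr a b
      intro htop
      have hmem : (⟨y, hyN⟩ : N) ∈ MulAction.stabilizer N a := by
        rw [htop]; exact Subgroup.mem_top _
      have h1 : y • a = a := hmem
      exact hb (hya.symm.trans h1)
    · intro g hg
      rw [eq_bot_iff]
      intro z hz
      rw [Subgroup.mem_inf, mem_conj_smul] at hz
      obtain ⟨hz1, hz2⟩ := hz
      have h1 : (z : G) • a = a := hz1
      have h2 : ((g : G)⁻¹ * (z : G) * (g : G)) • a = a := hz2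
      have h3 : (z : G) • ((g : G) • a) = (g : G) • a := by
        rw [mul_smul, mul_smul, inv_smul_eq_iff] at h2; exact h2
      have h4 : (g : G) • a ≠ a := fun h => hg h
      rw [Subgroup.mem_bot]
      by_contra hz1'
      have h5 : (z : G) ≠ 1 := fun h => hz1' (Subtype.ext h)
      exact hcon z z.2 h5 a _ (Ne.symm h4) h1 h3
  obtain ⟨M₀, hM₀, hM₀n, hM₀c⟩ := Cfsg.Agent.S0035.result _ hH
  have hmemM₀ : ∀ s : N, s ∈ M₀ ↔ (s = 1 ∨ ∀ c : Ω, (s : G) • c ≠ c) := by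
    intro s
    have h1 : s ∈ M₀ ↔ s ∈ Cfsg.frobeniusKernel (MulAction.stabilizer N a) := by
      rw [← hM₀]; rfl
    rw [h1]
    have h2 : (∀ g : N, s ∉ MulAut.conj g • MulAction.stabilizer N a) ↔
        (∀ c : Ω, (s : G) • c ≠ c) := by
      constructor
      · intro h c hc
        obtain ⟨g, hgN, hga⟩ := htr a c
        apply h ⟨g, hgN⟩
        rw [mem_conj_smul]
        show (g⁻¹ * (s : G) * g) • a = a
        rw [mul_smul, mul_smul, hga, hc, ← hga, inv_smul_smul]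
      · intro h g hmem
        rw [mem_conj_smul] at hmem
        have h2 : ((g : G)⁻¹ * (s : G) * (g : G)) • a = a := hmem
        rw [mul_smul, mul_smul, inv_smul_eq_iff] at h2
        exact h _ h2
    show (s = 1 ∨ _) ↔ _
    rw [h2]
  have hmemM : ∀ x : G, x ∈ M₀.map N.subtype ↔ x ∈ N ∧ (x = 1 ∨ ∀ c : Ω, x • c ≠ c) := by
    intro x
    rw [Subgroup.mem_map]
    constructor
    · rintro ⟨s, hs, rfl⟩
      refine ⟨s.2, ?_⟩
      rcases (hmemM₀ s).mp hs with h | h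
      · left; rw [h]; rfl
      · right; exact h
    · rintro ⟨hxN, hx⟩
      refine ⟨⟨x, hxN⟩, ?_, rfl⟩
      rw [hmemM₀]
      rcases hx with h | h
      · left; exact Subtype.ext h
      · right; exact h
  have hMnormal : (M₀.map N.subtype).Normal := by
    refine ⟨fun x hx g => ?_⟩
    rw [hmemM] at hx ⊢
    refine ⟨‹N.Normal›.conj_mem _ hx.1 g, ?_⟩
    rcases hx.2 with h | h
    · left; rw [h]; group
    · right
      intro c hc
      rw [mul_smul, mul_smul, ← eq_inv_smul_iff] at hc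
      exact h _ hc
  have hMtr : ∀ b c : Ω, ∃ x ∈ M₀.map N.subtype, x • b = c := by
    have h0 : ∀ c, ∃ k ∈ M₀, (k : G) • a = c := by
      intro c
      obtain ⟨g, hgN, hga⟩ := htr a c
      obtain ⟨⟨k, h⟩, hkh, -⟩ := (Subgroup.isComplement'_def.mp hM₀c).existsUnique (⟨g, hgN⟩ : N)
      refine ⟨k.1, k.2, ?_⟩
      have h1 : ((k : N) : G) * ((h : N) : G) = g := congrArg Subtype.val hkh
      have h2 : ((h : N) : G) • a = a := h.2
      rw [← hga, ← h1, mul_smul, h2]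
    intro b c
    obtain ⟨k1, hk1, hk1b⟩ := h0 b
    obtain ⟨k2, hk2, hk2c⟩ := h0 c
    refine ⟨((k2 * k1⁻¹ : N) : G), ?_, ?_⟩
    · rw [Subgroup.mem_map]; exact ⟨k2 * k1⁻¹, M₀.mul_mem hk2 (M₀.inv_mem hk1), rfl⟩
    · rw [← hk1b]
      show ((k2 : G) * (k1 : G)⁻¹) • ((k1 : G) • a) = c
      rw [mul_smul, inv_smul_smul, hk2c]
  obtain ⟨c, y, hyM, hy1, hyc⟩ := hy.h5 _ hMnormal hMtr
  rcases ((hmemM y).mp hyM).2 with h | h
  · exact hy1 h
  · exact h c hyc

/-- a nontrivial normal subgroup contains all the Frobenius kernels of point stabilisers and is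
doubly transitive -/
theorem core [Finite G] (hy : Hyp G Ω) (N : Subgroup G) [N.Normal] (hN : N ≠ ⊥) :
    (∀ x : G, ∀ δ : Ω, x • δ = δ → (∀ c, x • c = c → c = δ) → x ∈ N) ∧
    (∀ {a b c d : Ω}, a ≠ b → c ≠ d → ∃ x ∈ N, x • a = c ∧ x • b = d) := by
  obtain ⟨m, hmN, hm1, a, b, hab, hma, hmb⟩ := exists_two_fixed hy N hN
  have hK : ∀ δ : Ω, ∀ K : Subgroup G,
      (∀ x, x ∈ K ↔ x • δ = δ ∧ (x = 1 ∨ ∀ c, x • c = c → c = δ)) → K ≤ N := by
    intro δ K hK
    obtain ⟨g, hgN, hga⟩ := trans_of_normal hy N hN a δ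
    have h1 : g * m * g⁻¹ ∈ N := ‹N.Normal›.conj_mem _ hmN g
    have h2 : g * m * g⁻¹ ≠ 1 := by
      intro h
      apply hm1
      calc m = g⁻¹ * (g * m * g⁻¹) * g := by group
        _ = 1 := by rw [h]; group
    have h3 : g • b ≠ δ := by
      intro h
      exact hab (smul_left_cancel g (hga.trans h.symm))
    have h4 : (g * m * g⁻¹) • δ = δ := by
      rw [mul_smul, mul_smul, ← hga, inv_smul_smul, hma]
    have h5 : (g * m * g⁻¹) • (g • b) = g • b := by
      rw [mul_smul, mul_smul, inv_smul_smul, hmb]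
    exact kernel_le hy δ K hK N (g * m * g⁻¹) h1 h2 (g • b) h3 h4 h5
  constructor
  · intro x δ hxδ hx
    obtain ⟨K, hKmem, -⟩ := exists_kernel hy δ
    exact hK δ K hKmem ((hKmem x).mpr ⟨hxδ, Or.inr hx⟩)
  · intro a b c d hab hcd
    obtain ⟨x1, hx1N, hx1a⟩ := trans_of_normal hy N hN a c
    obtain ⟨K, hKmem, hKtr⟩ := exists_kernel hy c
    have h1 : x1 • b ≠ c := fun h => hab (smul_left_cancel x1 (hx1a.trans h.symm))
    obtain ⟨k, hk, hkb⟩ := hKtr (x1 • b) d h1 (Ne.symm hcd)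
    refine ⟨k * x1, N.mul_mem (hK c K hKmem hk) hx1N, ?_, ?_⟩
    · rw [mul_smul, hx1a]; exact ((hKmem k).mp hk).1
    · rw [mul_smul, hkb]

/-- two regular subgroups normalised by a doubly transitive subgroup containing them coincide -/
theorem regular_le (hy : Hyp G Ω) (N M M' : Subgroup G)
    (hN2 : ∀ {a b c d : Ω}, a ≠ b → c ≠ d → ∃ x ∈ N, x • a = c ∧ x • b = d)
    (hMN : M ≤ N) (hM'N : M' ≤ N)
    (hMn : ∀ y ∈ N, ∀ x ∈ M, y * x * y⁻¹ ∈ M) (hM'n : ∀ y ∈ N, ∀ x ∈ M', y * x * y⁻¹ ∈ M')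
    (hMt : ∀ a b : Ω, ∃ x ∈ M, x • a = b) (hM't : ∀ a b : Ω, ∃ x ∈ M', x • a = b)
    (hMs : ∀ x ∈ M, ∀ a : Ω, x • a = a → x = 1) :
    M ≤ M' := by
  obtain ⟨α, β, γ, hαβ, hβγ, hαγ⟩ := hy.three
  have hint : ∃ m₁ ∈ M, m₁ ∈ M' ∧ m₁ ≠ 1 := by
    by_contra hcon
    push Not at hcon
    have hcomm : ∀ m ∈ M, ∀ m' ∈ M', m * m' = m' * m := by
      intro m hm m' hm'
      have h1 : m * m' * m⁻¹ * m'⁻¹ ∈ M := by
        have h0 : m * m' * m⁻¹ * m'⁻¹ = m * (m' * m⁻¹ * m'⁻¹) := by group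
        rw [h0]
        exact M.mul_mem hm (hMn m' (hM'N hm') _ (M.inv_mem hm))
      have h2 : m * m' * m⁻¹ * m'⁻¹ ∈ M' :=
        M'.mul_mem (hM'n m (hMN hm) _ hm') (M'.inv_mem hm')
      have h3 := hcon _ h1 h2
      calc m * m' = (m * m' * m⁻¹ * m'⁻¹) * (m' * m) := by group
        _ = m' * m := by rw [h3, one_mul]
    have hmx : ∃ m ∈ M, ∃ x ∈ M, m ≠ 1 ∧ x ≠ 1 ∧ x ≠ m ∧ m⁻¹ * x * m = x := by
      by_cases hsq : ∃ m ∈ M, m * m ≠ 1
      · obtain ⟨m, hm, hmm⟩ := hsq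
        refine ⟨m, hm, m * m, M.mul_mem hm hm, ?_, hmm, ?_, by group⟩
        · intro h; apply hmm; rw [h, one_mul]
        · intro h
          have h1 : m = 1 := by simpa using h
          apply hmm; rw [h1, one_mul]
      · push Not at hsq
        obtain ⟨m, hm, hmα⟩ := hMt α β
        obtain ⟨x, hx, hxα⟩ := hMt α γ
        refine ⟨m, hm, x, hx, ?_, ?_, ?_, ?_⟩
        · intro h; rw [h, one_smul] at hmα; exact hαβ hmα
        · intro h; rw [h, one_smul] at hxα; exact hαγ hxα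
        · intro h; rw [h, hmα] at hxα; exact hβγ hxα
        · have h1 := hsq m hm
          have h2 := hsq x hx
          have h3 := hsq (x * m) (M.mul_mem hx hm)
          have e1 : m⁻¹ = m := inv_eq_of_mul_eq_one_right h1
          have e2 : x⁻¹ = x := inv_eq_of_mul_eq_one_right h2
          have e3 : (x * m)⁻¹ = x * m := inv_eq_of_mul_eq_one_right h3
          rw [mul_inv_rev, e1, e2] at e3
          rw [e1, e3, mul_assoc, h1, mul_one]
    obtain ⟨m, hm, x, hx, hm1, hx1, hxm, hconj⟩ := hmx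
    obtain ⟨m', hm', hm'α⟩ := hM't α (m • α)
    have hc1 : (m⁻¹ * m') • α = α := by rw [mul_smul, hm'α, inv_smul_smul]
    have hc2 : (m⁻¹ * m') • (m • α) = m • α := by
      rw [mul_smul, ← mul_smul m' m, ← hcomm m hm m' hm', mul_smul, hm'α, inv_smul_smul]
    have hc3 : (m⁻¹ * m') • (x • α) = x • α := by
      rw [mul_smul, ← mul_smul m' x, ← hcomm x hx m' hm', mul_smul, hm'α, ← mul_smul, ← mul_smul]
      rw [hconj]
    have hd1 : α ≠ m • α := fun h => hm1 (hMs m hm α h.symm)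
    have hd2 : m • α ≠ x • α := by
      intro h
      have h1 : (x⁻¹ * m) • α = α := by rw [mul_smul, h, inv_smul_smul]
      have h2 := hMs _ (M.mul_mem (M.inv_mem hx) hm) α h1
      apply hxm
      rw [inv_mul_eq_one] at h2; exact h2
    have hd3 : α ≠ x • α := fun h => hx1 (hMs x hx α h.symm)
    have hc := hy.h3 _ α (m • α) (x • α) hd1 hd2 hd3 hc1 hc2 hc3
    have h7 : m = m' := by rw [inv_mul_eq_one] at hc; exact hc
    exact hm1 (hcon m hm (h7 ▸ hm'))
  obtain ⟨m₁, hm₁, hm₁', hm₁1⟩ := hint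
  intro m₂ hm₂
  by_cases hm₂1 : m₂ = 1
  · rw [hm₂1]; exact M'.one_mem
  have h1 : α ≠ m₁ • α := fun h => hm₁1 (hMs m₁ hm₁ α h.symm)
  have h2 : α ≠ m₂ • α := fun h => hm₂1 (hMs m₂ hm₂ α h.symm)
  obtain ⟨h, hhN, hhα, hhm⟩ := hN2 h1 h2
  have h3 : (m₂⁻¹ * (h * m₁ * h⁻¹)) • α = α := by
    rw [mul_smul, mul_smul, mul_smul]
    have h0 : h⁻¹ • α = α := by rw [inv_smul_eq_iff, hhα]
    rw [h0, hhm, inv_smul_smul]
  have h4 := hMs _ (M.mul_mem (M.inv_mem hm₂) (hMn h hhN m₁ hm₁)) α h3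
  have h5 : m₂ = h * m₁ * h⁻¹ := by rw [inv_mul_eq_one] at h4; exact h4
  rw [h5]
  exact hM'n h hhN m₁ hm₁'

/-- a nontrivial normal subgroup has no regular normal subgroup -/
theorem no_regular [Finite G] (hy : Hyp G Ω) (N : Subgroup G) [N.Normal] (hN : N ≠ ⊥)
    (M : Subgroup G) (hMN : M ≤ N) (hMn : ∀ y ∈ N, ∀ x ∈ M, y * x * y⁻¹ ∈ M)
    (hMt : ∀ a b : Ω, ∃ x ∈ M, x • a = b) (hMs : ∀ x ∈ M, ∀ a : Ω, x • a = a → x = 1) :
    False := by
  obtain ⟨-, hN2⟩ := core hy N hN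
  have hnormal : M.Normal := by
    refine ⟨fun x hx g => ?_⟩
    have hle : (MulAut.conj g • M) ≤ M := by
      apply regular_le hy N (MulAut.conj g • M) M hN2 ?_ hMN ?_ hMn ?_ hMt ?_
      · intro z hz
        rw [mem_conj_smul] at hz
        have h1 := ‹N.Normal›.conj_mem _ (hMN hz) g
        have h2 : g * (g⁻¹ * z * g) * g⁻¹ = z := by group
        rw [h2] at h1
        exact h1
      · intro y hyN z hz
        rw [mem_conj_smul] at hz ⊢
        have h1 : g⁻¹ * y * g ∈ N := by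
          have h0 := ‹N.Normal›.conj_mem _ hyN g⁻¹
          rw [inv_inv] at h0
          exact h0
        have h2 := hMn _ h1 _ hz
        have h3 : g⁻¹ * y * g * (g⁻¹ * z * g) * (g⁻¹ * y * g)⁻¹ = g⁻¹ * (y * z * y⁻¹) * g := by
          group
        rw [h3] at h2
        exact h2
      · intro a b
        obtain ⟨x, hx, hxa⟩ := hMt (g⁻¹ • a) (g⁻¹ • b)
        refine ⟨g * x * g⁻¹, ?_, ?_⟩
        · rw [mem_conj_smul]
          have h0 : g⁻¹ * (g * x * g⁻¹) * g = x := by group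
          rw [h0]; exact hx
        · rw [mul_smul, mul_smul, hxa, smul_inv_smul]
      · intro z hz a hza
        rw [mem_conj_smul] at hz
        have h0 : (g⁻¹ * z * g) • (g⁻¹ • a) = g⁻¹ • a := by
          rw [mul_smul, mul_smul, smul_inv_smul, hza]
        have h1 := hMs _ hz _ h0
        calc z = g * (g⁻¹ * z * g) * g⁻¹ := by group
          _ = 1 := by rw [h1]; group
    apply hle
    rw [mem_conj_smul]
    have h0 : g⁻¹ * (g * x * g⁻¹) * g = x := by group
    rw [h0]; exact hx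
  obtain ⟨a, x, hxM, hx1, hxa⟩ := hy.h5 M hnormal hMt
  exact hx1 (hMs x hxM a hxa)

end Cfsg.Agent.Lib.Helper97.Zass
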