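import Mathlib
import Cfsg.Agent.Lib.Helper97.Zass
import Cfsg.Agent.S0042

set_option autoImplicit false

namespace Cfsg.Agent.Lib.Helper97.Zass

open scoped Pointwise

variable {G Ω : Type*} [Group G] [MulAction G Ω]

/-- the two point stabiliser is a Frobenius complement in the point stabiliser -/
theorem frob_compl (hy : Hyp G Ω) (α β : Ω) (hβ : β ≠ α) :
    Cfsg.IsFrobeniusComplement (MulAction.stabilizer (MulAction.stabilizer G α) β) := by
  refine ⟨?_, ?_, ?_⟩
  · obtain ⟨g, hg1, a, b, hab, hga, hgb⟩ := hy.h4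
    obtain ⟨x, hxa, hxb⟩ := hy.h2 hab (Ne.symm hβ)
    have h1 : (x * g * x⁻¹) • α = α := by
      rw [mul_smul, mul_smul, ← hxa, inv_smul_smul, hga]
    have h2 : (x * g * x⁻¹) • β = β := by
      rw [mul_smul, mul_smul, ← hxb, inv_smul_smul, hgb]
    intro hbot
    have hmem : (⟨x * g * x⁻¹, h1⟩ : MulAction.stabilizer G α) ∈
        MulAction.stabilizer (MulAction.stabilizer G α) β := h2
    rw [hbot, Subgroup.mem_bot] at hmem
    have h3 : x * g * x⁻¹ = 1 := congrArg Subtype.val hmem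
    apply hg1
    calc g = x⁻¹ * (x * g * x⁻¹) * x := by group
      _ = 1 := by rw [h3]; group
  · obtain ⟨γ, hγα, hγβ⟩ := exists_ne2 hy α β
    obtain ⟨g, hgα, hgβ⟩ := hy.h2 (Ne.symm hβ) (Ne.symm hγα)
    intro htop
    have hmem : (⟨g, hgα⟩ : MulAction.stabilizer G α) ∈
        MulAction.stabilizer (MulAction.stabilizer G α) β := by
      rw [htop]; exact Subgroup.mem_top _
    have h1 : g • β = β := hmem
    exact hγβ (hgβ.symm.trans h1)
  · intro g hg
    rw [eq_bot_iff]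
    intro x hx
    rw [Subgroup.mem_inf, mem_conj_smul] at hx
    obtain ⟨hx1, hx2⟩ := hx
    have h1 : (x : G) • β = β := hx1
    have h2 : ((g : G)⁻¹ * (x : G) * (g : G)) • β = β := hx2
    have h3 : (x : G) • ((g : G) • β) = (g : G) • β := by
      rw [mul_smul, mul_smul, inv_smul_eq_iff] at h2
      exact h2
    have h4 : (g : G) • β ≠ β := fun h => hg h
    have h5 : (g : G) • β ≠ α := by
      intro h
      have hgα : (g : G) • α = α := g.2
      exact hβ (smul_left_cancel (g : G) (h.trans hgα.symm))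
    have h6 : (x : G) = 1 := hy.h3 _ α β ((g : G) • β) (Ne.symm hβ) (Ne.symm h4) (Ne.symm h5)
      x.2 h1 h3
    rw [Subgroup.mem_bot]
    exact Subtype.ext h6

/-- membership in the Frobenius kernel of a point stabiliser -/
theorem kernel_mem (hy : Hyp G Ω) (α β : Ω) (hβ : β ≠ α) (s : MulAction.stabilizer G α) :
    s ∈ Cfsg.frobeniusKernel (MulAction.stabilizer (MulAction.stabilizer G α) β) ↔
      (s = 1 ∨ ∀ c, (s : G) • c = c → c = α) := by
  have h2 : (∀ g : MulAction.stabilizer G α,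
      s ∉ MulAut.conj g • MulAction.stabilizer (MulAction.stabilizer G α) β) ↔
      (∀ c, (s : G) • c = c → c = α) := by
    constructor
    · intro h c hc
      by_contra hcα
      obtain ⟨g, hgα, hgβ⟩ := hy.h2 (Ne.symm hβ) (Ne.symm hcα)
      apply h ⟨g, hgα⟩
      rw [mem_conj_smul]
      show (g⁻¹ * (s : G) * g) • β = β
      rw [mul_smul, mul_smul, hgβ, hc, ← hgβ, inv_smul_smul]
    · intro h g hmem
      rw [mem_conj_smul] at hmem
      have h2 : ((g : G)⁻¹ * (s : G) * (g : G)) • β = β := hmem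
      have h3 : (s : G) • ((g : G) • β) = (g : G) • β := by
        rw [mul_smul, mul_smul, inv_smul_eq_iff] at h2
        exact h2
      have h4 := h _ h3
      have hgα : (g : G) • α = α := g.2
      exact hβ (smul_left_cancel (g : G) (h4.trans hgα.symm))
  show (s = 1 ∨ _) ↔ _
  rw [h2]

omit [MulAction G Ω] in
/-- a semiregular orbit outside an invariant subgroup -/
theorem inj_card [Finite G] (H A B : Subgroup G) (hAB : A ≤ B) (y : G) (hyB : y ∈ B) (hyA : y ∉ A)
    (hHA : ∀ h ∈ H, ∀ c ∈ A, h * c * h⁻¹ ∈ A) (hHB : ∀ h ∈ H, h * y * h⁻¹ ∈ B)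
    (hsemi : ∀ h ∈ H, h * y * h⁻¹ = y → h = 1) : Nat.card A + Nat.card H ≤ Nat.card B := by
  rw [← Nat.card_sum]
  let f : A ⊕ H → B := fun o => Sum.elim (fun c : A => (⟨c, hAB c.2⟩ : B))
    (fun h : H => (⟨h * y * h⁻¹, hHB h h.2⟩ : B)) o
  apply Nat.card_le_card_of_injective f
  rintro (c | h) (c' | h') hcc
  · have h1 : (c : G) = c' := congrArg (fun z : B => (z : G)) hcc
    rw [Subtype.ext h1]
  · exfalso
    have h1 : (c : G) = h' * y * (h' : G)⁻¹ := congrArg (fun z : B => (z : G)) hcc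
    apply hyA
    have h2 := hHA (h' : G)⁻¹ (H.inv_mem h'.2) c c.2
    rw [h1] at h2
    have h3 : (h' : G)⁻¹ * (h' * y * (h' : G)⁻¹) * (h' : G)⁻¹⁻¹ = y := by group
    rw [h3] at h2; exact h2
  · exfalso
    have h1 : h * y * (h : G)⁻¹ = (c' : G) := congrArg (fun z : B => (z : G)) hcc
    apply hyA
    have h2 := hHA (h : G)⁻¹ (H.inv_mem h.2) c' c'.2
    rw [← h1] at h2
    have h3 : (h : G)⁻¹ * (h * y * (h : G)⁻¹) * (h : G)⁻¹⁻¹ = y := by group
    rw [h3] at h2; exact h2
  · have h1 : h * y * (h : G)⁻¹ = h' * y * (h' : G)⁻¹ := congrArg (fun z : B => (z : G)) hcc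
    have h2 : ((h' : G)⁻¹ * h) * y * ((h' : G)⁻¹ * h)⁻¹ = y := by
      calc ((h' : G)⁻¹ * h) * y * ((h' : G)⁻¹ * h)⁻¹
          = (h' : G)⁻¹ * (h * y * (h : G)⁻¹) * h' := by group
        _ = (h' : G)⁻¹ * (h' * y * (h' : G)⁻¹) * h' := by rw [h1]
        _ = y := by group
    have h3 := hsemi _ (H.mul_mem (H.inv_mem h'.2) h.2) h2
    rw [inv_mul_eq_one] at h3
    rw [Subtype.ext h3]

omit [MulAction G Ω] in
/-- with at most two semiregular orbits, invariant subgroups are trivial or everything -/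
theorem inv_sub_eq [Finite G] (F H C : Subgroup G)
    (hsemi : ∀ h ∈ H, ∀ u ∈ F, u ≠ 1 → h * u * h⁻¹ = u → h = 1)
    (hHF : ∀ h ∈ H, ∀ u ∈ F, h * u * h⁻¹ ∈ F)
    (hcard : Nat.card F ≤ 2 * Nat.card H + 1)
    (hCF : C ≤ F) (hHC : ∀ h ∈ H, ∀ c ∈ C, h * c * h⁻¹ ∈ C) (hC : C ≠ ⊥) : F ≤ C := by
  by_contra hne
  obtain ⟨y, hyF, hyC⟩ := SetLike.not_le_iff_exists.mp hne
  obtain ⟨x, hx1⟩ := (Subgroup.ne_bot_iff_exists_ne_one).mp hC
  have hx1' : (x : G) ≠ 1 := fun h => hx1 (Subtype.ext h)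
  have hy1 : y ≠ 1 := fun h => hyC (h ▸ C.one_mem)
  have h1 : Nat.card (⊥ : Subgroup G) + Nat.card H ≤ Nat.card C := by
    apply inj_card H ⊥ C bot_le (x : G) x.2
    · rw [Subgroup.mem_bot]; exact hx1'
    · intro h _ c hc
      rw [Subgroup.mem_bot] at hc ⊢
      rw [hc]; group
    · intro h hh; exact hHC h hh x x.2
    · intro h hh hxx; exact hsemi h hh x (hCF x.2) hx1' hxx
  have h2 : Nat.card C + Nat.card H ≤ Nat.card F := by
    apply inj_card H C F hCF y hyF hyC hHC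
    · intro h hh; exact hHF h hh y hyF
    · intro h hh hyy; exact hsemi h hh y hyF hy1 hyy
  rw [Subgroup.card_bot] at h1
  have h3 : Nat.card C ∣ Nat.card F := Subgroup.card_dvd_of_le hCF
  have hd : 0 < Nat.card H := Nat.card_pos
  obtain ⟨k, hk⟩ := h3
  have hc : Nat.card C = Nat.card H + 1 := by omega
  have hf : Nat.card F = 2 * Nat.card H + 1 := by omega
  rw [hc, hf] at hk
  rcases Nat.lt_or_ge k 2 with hk2 | hk2
  · interval_cases k
    · omega
    · omega
  · have h4 : (Nat.card H + 1) * 2 ≤ (Nat.card H + 1) * k := Nat.mul_le_mul_left _ hk2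
    omega

omit [MulAction G Ω] in
/-- a nilpotent group with a semiregular group of automorphisms having at most two orbits on the
nonidentity elements is elementary abelian -/
theorem elemAb_of_two_orbits [Finite G] (F H : Subgroup G)
    (hsemi : ∀ h ∈ H, ∀ u ∈ F, u ≠ 1 → h * u * h⁻¹ = u → h = 1)
    (hHF : ∀ h ∈ H, ∀ u ∈ F, h * u * h⁻¹ ∈ F)
    (hcard : Nat.card F ≤ 2 * Nat.card H + 1)
    (hnil : Group.IsNilpotent F) (hF : F ≠ ⊥) :
    (∀ u ∈ F, ∀ v ∈ F, u * v = v * u) ∧ ∃ p : ℕ, p.Prime ∧ ∀ u ∈ F, u ^ p = 1 := by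
  have hntF : Nontrivial F := (Subgroup.nontrivial_iff_ne_bot F).mpr hF
  have hcomm : ∀ u ∈ F, ∀ v ∈ F, u * v = v * u := by
    have hle : F ≤ F ⊓ Subgroup.centralizer (F : Set G) := by
      apply inv_sub_eq F H _ hsemi hHF hcard inf_le_left
      · intro h hh c hc
        rw [Subgroup.mem_inf, Subgroup.mem_centralizer_iff] at hc ⊢
        refine ⟨hHF h hh c hc.1, ?_⟩
        intro u hu
        have hu' : h⁻¹ * u * h⁻¹⁻¹ ∈ F := hHF h⁻¹ (H.inv_mem hh) u hu
        have h1 := hc.2 _ hu'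
        calc u * (h * c * h⁻¹) = h * ((h⁻¹ * u * h⁻¹⁻¹) * c) * h⁻¹ := by group
          _ = h * (c * (h⁻¹ * u * h⁻¹⁻¹)) * h⁻¹ := by rw [h1]
          _ = h * c * h⁻¹ * u := by group
      · have hz := Group.IsNilpotent.center_ne_bot (G := F)
        obtain ⟨z, hz1⟩ := (Subgroup.ne_bot_iff_exists_ne_one).mp hz
        intro hbot
        have hmem : ((z : F) : G) ∈ F ⊓ Subgroup.centralizer (F : Set G) := by
          rw [Subgroup.mem_inf, Subgroup.mem_centralizer_iff]
          refine ⟨(z : F).2, ?_⟩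
          intro u hu
          have h1 := (Subgroup.mem_center_iff.mp z.2) ⟨u, hu⟩
          exact congrArg Subtype.val h1
        rw [hbot, Subgroup.mem_bot] at hmem
        apply hz1
        apply Subtype.ext
        apply Subtype.ext
        exact hmem
    intro u hu v hv
    have h1 := hle hv
    rw [Subgroup.mem_inf, Subgroup.mem_centralizer_iff] at h1
    exact h1.2 u hu
  refine ⟨hcomm, ?_⟩
  have hcardF : 1 < Nat.card F := Finite.one_lt_card
  obtain ⟨p, hp, hpdvd⟩ := Nat.exists_prime_and_dvd (Nat.ne_of_gt hcardF)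
  have : Fact p.Prime := ⟨hp⟩
  obtain ⟨x, hx⟩ := exists_prime_orderOf_dvd_card' (G := F) p hpdvd
  refine ⟨p, hp, ?_⟩
  let C : Subgroup G :=
    { carrier := {u | u ∈ F ∧ u ^ p = 1}
      mul_mem' := by
        rintro u v ⟨hu, hup⟩ ⟨hv, hvp⟩
        refine ⟨F.mul_mem hu hv, ?_⟩
        have hc : Commute u v := hcomm u hu v hv
        rw [hc.mul_pow, hup, hvp, one_mul]
      one_mem' := ⟨F.one_mem, one_pow p⟩
      inv_mem' := by
        rintro u ⟨hu, hup⟩
        exact ⟨F.inv_mem hu, by rw [inv_pow, hup, inv_one]⟩ }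
  have hmemC : ∀ u : G, u ∈ C ↔ u ∈ F ∧ u ^ p = 1 := fun u => Iff.rfl
  have hle : F ≤ C := by
    apply inv_sub_eq F H C hsemi hHF hcard (fun u hu => ((hmemC u).mp hu).1)
    · intro h hh c hc
      rw [hmemC] at hc ⊢
      refine ⟨hHF h hh c hc.1, ?_⟩
      rw [conj_pow, hc.2]; group
    · intro hbot
      have hmem : (x : G) ∈ C := by
        rw [hmemC]
        refine ⟨x.2, ?_⟩
        have h1 : x ^ p = 1 := by rw [← hx]; exact pow_orderOf_eq_one x
        have h2 := congrArg Subtype.val h1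
        exact h2
      rw [hbot, Subgroup.mem_bot] at hmem
      have h3 : x = 1 := Subtype.ext hmem
      rw [h3, orderOf_one] at hx
      exact hp.one_lt.ne hx
  intro u hu
  exact ((hmemC u).mp (hle hu)).2

end Cfsg.Agent.Lib.Helper97.Zass
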