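import Mathlib
import Cfsg.Agent.Lib.Helper15.CycSylDefs

/-! # S4016 hive (helper15), leaf W7: the numerical lemma (helper97) -/

set_option autoImplicit false

namespace Cfsg.Agent.Lib.Helper15.CycSyl

/-- [W7] (pure arithmetic) -/
theorem numeric_aux (q e t : ℕ) (hq : q.Prime) (he : e ∣ q - 1) (ht : t ∣ e) (ht1 : 1 < t)
    (h : e * t ≡ 1 [MOD q]) : e = q - 1 ∧ t = q - 1 := by
  have hq2 : 2 ≤ q := hq.two_le
  obtain ⟨a, ha⟩ := he
  obtain ⟨b, hb⟩ := ht
  have hq1 : 0 < q - 1 := by omega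
  have hepos : 0 < e := by
    rcases Nat.eq_zero_or_pos e with h0 | h0
    · rw [h0, zero_mul] at ha; omega
    · exact h0
  have hapos : 0 < a := by
    rcases Nat.eq_zero_or_pos a with h0 | h0
    · rw [h0, mul_zero] at ha; omega
    · exact h0
  have hbpos : 0 < b := by
    rcases Nat.eq_zero_or_pos b with h0 | h0
    · rw [h0, mul_zero] at hb; omega
    · exact h0
  have hte : t ≤ e := by rw [hb]; exact Nat.le_mul_of_pos_right t hbpos
  have heq : e ≤ q - 1 := by rw [ha]; exact Nat.le_mul_of_pos_right e hapos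
  -- `q ∣ e * (a + t)`
  have h1 : e * (a + t) ≡ 0 [MOD q] := by
    have h2 : e * (a + t) = (q - 1) + e * t := by rw [ha]; ring
    rw [h2]
    have h3 : (q - 1) + e * t ≡ (q - 1) + 1 [MOD q] := Nat.ModEq.add_left _ h
    have h4 : (q - 1) + 1 = q := by omega
    rw [h4] at h3
    exact h3.trans (Nat.modEq_zero_iff_dvd.mpr dvd_rfl)
  have h5 : q ∣ e * (a + t) := Nat.modEq_zero_iff_dvd.mp h1
  have h6 : q ∣ a + t := by
    rcases (Nat.Prime.dvd_mul hq).mp h5 with h7 | h7
    · exfalso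
      have := Nat.le_of_dvd hepos h7
      omega
    · exact h7
  have h8 : q ≤ a + t := Nat.le_of_dvd (by omega) h6
  -- `a = 1`
  have ha1 : a = 1 := by
    by_contra hne
    have ha2 : 2 ≤ a := by omega
    have he2 : 2 ≤ e := by omega
    have h9 : a + e ≤ e * a := by nlinarith
    omega
  subst ha1
  rw [mul_one] at ha
  refine ⟨ha.symm, ?_⟩
  omega

end Cfsg.Agent.Lib.Helper15.CycSyl
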