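import Mathlib
import Cfsg.Agent.Lib.Helper6.Nc.Defs

/-! Nc hive (S3894), leaf NC-LS2: explicit description of the stabilisers of the coordinate lines in `GL_2`. -/

set_option autoImplicit false

namespace Cfsg.Agent.Lib.Helper6.Nc

open Matrix

variable {F : Type*} [Field F]

theorem ncls2_mulVec (M : Matrix (Fin 2) (Fin 2) F) (v : Fin 2 → F) :
    M *ᵥ v = ![M 0 0 * v 0 + M 0 1 * v 1, M 1 0 * v 0 + M 1 1 * v 1] := by
  funext i
  fin_cases i <;> simp [Matrix.mulVec, dotProduct, Fin.sum_univ_two]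

theorem ncls2_det_ne (g : GL (Fin 2) F) : (g : Matrix (Fin 2) (Fin 2) F).det ≠ 0 :=
  ((Matrix.isUnit_iff_isUnit_det _).mp g.isUnit).ne_zero

/-- NC-LS2 (a). -/
theorem mem_lineStab_e0 (g : GL (Fin 2) F) :
    g ∈ lineStab ![(1 : F), 0] ↔ (g : Matrix (Fin 2) (Fin 2) F) 1 0 = 0 := by
  rw [mem_lineStab, ncls2_mulVec]
  constructor
  · rintro ⟨c, hc⟩
    have h1 := congrFun hc 1
    simpa using h1
  · intro h
    have hdet := ncls2_det_ne g
    rw [Matrix.det_fin_two, h, mul_zero, sub_zero] at hdet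
    have h00 : (g : Matrix (Fin 2) (Fin 2) F) 0 0 ≠ 0 := left_ne_zero_of_mul hdet
    refine ⟨Units.mk0 _ h00, ?_⟩
    funext i
    fin_cases i <;> simp [h]

/-- NC-LS2 (b). -/
theorem mem_lineStab_e1 (g : GL (Fin 2) F) :
    g ∈ lineStab ![(0 : F), 1] ↔ (g : Matrix (Fin 2) (Fin 2) F) 0 1 = 0 := by
  rw [mem_lineStab, ncls2_mulVec]
  constructor
  · rintro ⟨c, hc⟩
    have h1 := congrFun hc 0
    simpa using h1
  · intro h
    have hdet := ncls2_det_ne g
    rw [Matrix.det_fin_two, h, zero_mul, sub_zero] at hdet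
    have h11 : (g : Matrix (Fin 2) (Fin 2) F) 1 1 ≠ 0 := right_ne_zero_of_mul hdet
    refine ⟨Units.mk0 _ h11, ?_⟩
    funext i
    fin_cases i <;> simp [h]

/-- NC-LS2 (c). -/
theorem mem_diagSub (g : GL (Fin 2) F) :
    g ∈ diagSub F ↔ (g : Matrix (Fin 2) (Fin 2) F) 0 1 = 0 ∧ (g : Matrix (Fin 2) (Fin 2) F) 1 0 = 0 := by
  unfold diagSub
  rw [Subgroup.mem_inf, mem_lineStab_e0, mem_lineStab_e1, and_comm]

end Cfsg.Agent.Lib.Helper6.Nc
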