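import Mathlib
import Cfsg.Agent.Lib.Helper99.BMDefs

/-! # S2733 hive (helper99), leaf BM-UNIV: a nondegenerate symmetric form of dimension at least two over a
finite field of odd characteristic represents every nonzero scalar (helper97) -/

set_option autoImplicit false

namespace Cfsg.Agent.Lib.Helper99.BM

universe u v

open Polynomial in
/-- the equation `a x² + b y² = c` is solvable over a finite field of odd characteristic -/
theorem univ_exists_sum_sq {K : Type u} [Field K] [Finite K] (h2 : (2 : K) ≠ 0) (a b c : K)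
    (ha : a ≠ 0) (hb : b ≠ 0) : ∃ x y : K, a * x ^ 2 + b * y ^ 2 = c := by
  classical
  letI : Fintype K := Fintype.ofFinite K
  have hchar : ringChar K ≠ 2 := by
    intro h
    apply h2
    have h3 : ((ringChar K : ℕ) : K) = 0 := CharP.cast_eq_zero K (ringChar K)
    rw [h] at h3
    exact_mod_cast h3
  have hcard : Fintype.card K % 2 = 1 := FiniteField.odd_card_of_char_ne_two hchar
  have hf : (C a * X ^ 2 - C c : K[X]).degree = 2 := by
    rw [degree_sub_C (by rw [degree_C_mul_X_pow 2 ha]; norm_num)]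
    exact degree_C_mul_X_pow 2 ha
  have hg : (C b * X ^ 2 : K[X]).degree = 2 := degree_C_mul_X_pow 2 hb
  obtain ⟨x, y, hxy⟩ := FiniteField.exists_root_sum_quadratic hf hg hcard
  refine ⟨x, y, ?_⟩
  simp only [eval_sub, eval_mul, eval_C, eval_pow, eval_X] at hxy
  linear_combination hxy

/-! ### BM-UNIV -/
theorem exists_norm_eq {K : Type u} [Field K] [Finite K] (h2 : (2 : K) ≠ 0) {V : Type v}
    [AddCommGroup V] [Module K V] [FiniteDimensional K V] (B : LinearMap.BilinForm K V)
    (hs : B.IsSymm) (hnd : B.Nondegenerate) (hdim : 2 ≤ Module.finrank K V) (c : K) (hc : c ≠ 0) :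
    ∃ v : V, B v v = c := by
  letI : Invertible (2 : K) := invertibleOfNonzero h2
  obtain ⟨e, he⟩ := LinearMap.BilinForm.exists_orthogonal_basis (LinearMap.BilinForm.isSymm_iff.mp hs)
  have hne : ∀ i, B (e i) (e i) ≠ 0 := fun i =>
    LinearMap.BilinForm.iIsOrtho.not_isOrtho_basis_self_of_nondegenerate he hnd i
  set i0 : Fin (Module.finrank K V) := ⟨0, by omega⟩ with hi0
  set i1 : Fin (Module.finrank K V) := ⟨1, by omega⟩ with hi1
  have h01 : i0 ≠ i1 := by
    intro h
    have := congrArg Fin.val h
    simp [hi0, hi1] at this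
  have ho1 : B (e i0) (e i1) = 0 := he h01
  have ho2 : B (e i1) (e i0) = 0 := he h01.symm
  obtain ⟨x, y, hxy⟩ := univ_exists_sum_sq h2 (B (e i0) (e i0)) (B (e i1) (e i1)) c (hne i0) (hne i1)
  refine ⟨x • e i0 + y • e i1, ?_⟩
  simp only [map_add, map_smul, LinearMap.add_apply, LinearMap.smul_apply, smul_eq_mul, ho1, ho2,
    mul_zero, add_zero, zero_add]
  rw [← hxy]
  ring

end Cfsg.Agent.Lib.Helper99.BM
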