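import Cfsg.Agent.Lib.Helper65.RU.Defs

set_option autoImplicit false
set_option linter.unusedSectionVars false
set_option linter.unusedSimpArgs false

namespace Cfsg.Agent.Lib.Helper65.RU

open Matrix Module

variable {K : Type*} [Field K]

/-- a basis of `Fin (n+1) → K` with first vector `a` and first coordinate functional `φ` -/
theorem br_exists_basis {n : ℕ} (a φ : Fin (n + 1) → K) (h : φ ⬝ᵥ a = 1) :
    ∃ B : Basis (Fin (n + 1)) K (Fin (n + 1) → K), B 0 = a ∧ ∀ v, B.repr v 0 = φ ⬝ᵥ v := by
  classical
  set φl : Module.Dual K (Fin (n + 1) → K) := dualOf φ with hφl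
  have hφ0 : φl ≠ 0 := by
    intro h0
    have : φl a = 1 := by rw [hφl, dualOf_apply, h]
    rw [h0] at this
    simp at this
  have hfr : finrank K (LinearMap.ker φl) = n := by
    have := Module.Dual.finrank_ker_add_one_of_ne_zero hφ0
    rw [Module.finrank_fintype_fun_eq_card, Fintype.card_fin] at this
    omega
  let b' : Basis (Fin n) K (LinearMap.ker φl) := Module.finBasisOfFinrankEq K _ hfr
  have hli' : LinearIndependent K (fun j : Fin n => ((b' j : LinearMap.ker φl) : Fin (n + 1) → K)) := by
    have := b'.linearIndependent.map' (LinearMap.ker φl).subtype (Submodule.ker_subtype _)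
    exact this
  have hnot : a ∉ Submodule.span K (Set.range (fun j : Fin n => ((b' j : LinearMap.ker φl) : Fin (n + 1) → K))) := by
    intro ha
    have hle : Submodule.span K (Set.range (fun j : Fin n => ((b' j : LinearMap.ker φl) : Fin (n + 1) → K)))
        ≤ LinearMap.ker φl := by
      rw [Submodule.span_le]
      rintro _ ⟨j, rfl⟩
      exact (b' j).2
    have := hle ha
    rw [LinearMap.mem_ker, hφl, dualOf_apply, h] at this
    exact one_ne_zero this
  have hli : LinearIndependent K (Fin.cons a (fun j : Fin n => ((b' j : LinearMap.ker φl) : Fin (n + 1) → K)) :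
      Fin (n + 1) → (Fin (n + 1) → K)) := linearIndependent_finCons.mpr ⟨hli', hnot⟩
  let B : Basis (Fin (n + 1)) K (Fin (n + 1) → K) :=
    basisOfLinearIndependentOfCardEqFinrank hli (by simp)
  have hB : ⇑B = Fin.cons a (fun j : Fin n => ((b' j : LinearMap.ker φl) : Fin (n + 1) → K)) :=
    coe_basisOfLinearIndependentOfCardEqFinrank hli _
  refine ⟨B, by rw [hB]; rfl, ?_⟩
  have hcoord : B.coord 0 = φl := by
    apply B.ext
    intro i
    rw [Basis.coord_apply, Basis.repr_self]
    refine Fin.cases ?_ (fun j => ?_) i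
    · rw [Finsupp.single_eq_same, hB, Fin.cons_zero, hφl, dualOf_apply, h]
    · rw [Finsupp.single_eq_of_ne (Fin.succ_ne_zero j).symm, hB, Fin.cons_succ]
      exact (LinearMap.mem_ker.mp (b' j).2).symm
  intro v
  have := congrArg (fun f : Module.Dual K (Fin (n + 1) → K) => f v) hcoord
  simpa [Basis.coord_apply, hφl] using this

/-- a linear map vanishing on `B j.succ` for all `j` vanishes on vectors with zero first coordinate -/
theorem br_vanish {n : ℕ} {V W : Type*} [AddCommGroup V] [Module K V] [AddCommGroup W] [Module K W]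
    (B : Basis (Fin (n + 1)) K V) (f : V →ₗ[K] W) (hf : ∀ j : Fin n, f (B j.succ) = 0) (v : V)
    (hv : B.repr v 0 = 0) : f v = 0 := by
  conv_lhs => rw [← B.sum_repr v]
  rw [map_sum, Fin.sum_univ_succ, hv, zero_smul, map_zero, zero_add]
  apply Finset.sum_eq_zero
  intro j _
  rw [map_smul, hf, smul_zero]

/-- BR: from an abstract good pair to a change of basis. -/
theorem exists_conj_of_peel {m : ℕ} (g : Matrix (Fin (m + 2)) (Fin (m + 2)) K) (x ψ a φ : Fin (m + 2) → K)
    (h : Peel (Matrix.toLin' g) x (dualOf ψ) a (dualOf φ)) :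
    ∃ P₁ : GL (Fin (m + 2)) K,
      ((P₁⁻¹ : GL (Fin (m + 2)) K).val * g * P₁.val) 0 0 = 1 ∧
      col0 ((P₁⁻¹ : GL (Fin (m + 2)) K).val * g * P₁.val) ≠ 0 ∧
      row0 ((P₁⁻¹ : GL (Fin (m + 2)) K).val * g * P₁.val) ≠ 0 ∧
      HypH (schur ((P₁⁻¹ : GL (Fin (m + 2)) K).val * g * P₁.val)) ∧
      (ψ ᵥ* P₁.val) 0 ≠ 0 ∧ ((P₁⁻¹ : GL (Fin (m + 2)) K).val *ᵥ x) 0 ≠ 0 := by
  classical
  have hφa : φ ⬝ᵥ a = 1 := h.phi_a
  obtain ⟨B, hB0, hBφ⟩ := br_exists_basis a φ hφa
  set e : Basis (Fin (m + 2)) K (Fin (m + 2) → K) := Pi.basisFun K (Fin (m + 2)) with he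
  set gl : (Fin (m + 2) → K) →ₗ[K] (Fin (m + 2) → K) := Matrix.toLin' g with hgl
  let P₁ : GL (Fin (m + 2)) K :=
    ⟨e.toMatrix B, B.toMatrix e, Basis.toMatrix_mul_toMatrix_flip _ _, Basis.toMatrix_mul_toMatrix_flip _ _⟩
  have hPval : P₁.val = e.toMatrix B := rfl
  have hPinv : (P₁⁻¹ : GL (Fin (m + 2)) K).val = B.toMatrix e := rfl
  have hM : (P₁⁻¹ : GL (Fin (m + 2)) K).val * g * P₁.val = LinearMap.toMatrix B B gl := by
    rw [hPval, hPinv]
    have h1 := basis_toMatrix_mul_linearMap_toMatrix_mul_basis_toMatrix B e B e gl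
    have h2 : LinearMap.toMatrix e e gl = g := by
      rw [he, LinearMap.toMatrix_eq_toMatrix', hgl, LinearMap.toMatrix'_toLin']
    rw [h2] at h1
    exact h1
  set M := (P₁⁻¹ : GL (Fin (m + 2)) K).val * g * P₁.val with hMdef
  have hMent : ∀ i j, M i j = B.repr (gl (B j)) i := by
    intro i j
    rw [hM, LinearMap.toMatrix_apply]
  have hφga : φ ⬝ᵥ gl a = 1 := h.phi_ga
  -- the compression as a linear map
  let CL : (Fin (m + 2) → K) →ₗ[K] (Fin (m + 2) → K) :=
    gl - ((dualOf φ).comp gl).smulRight (gl a)
  have hCL : ∀ v, CL v = comp gl a (dualOf φ) v := by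
    intro v
    simp only [CL, comp, LinearMap.sub_apply, LinearMap.smulRight_apply, LinearMap.comp_apply]
  have hCLφ : ∀ v, φ ⬝ᵥ CL v = 0 := by
    intro v
    rw [hCL, comp, dotProduct_sub, dotProduct_smul, hφga, dualOf_apply, smul_eq_mul, mul_one, sub_self]
  have hbφ : ∀ j : Fin (m + 1), φ ⬝ᵥ B j.succ = 0 := by
    intro j
    rw [← hBφ, Basis.repr_self, Finsupp.single_eq_of_ne (Fin.succ_ne_zero j).symm]
  have hS : ∀ i j, schur M i j = B.repr (CL (B j.succ)) i.succ := by
    intro i j
    rw [schur, hMent, hMent, hMent, hB0, hBφ, hCL, comp, map_sub, map_smul, Finsupp.sub_apply,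
      Finsupp.smul_apply, dualOf_apply, smul_eq_mul]
    ring
  suffices hmain : M 0 0 = 1 ∧ col0 M ≠ 0 ∧ row0 M ≠ 0 ∧ HypH (schur M) ∧ (ψ ᵥ* P₁.val) 0 ≠ 0 ∧
      ((P₁⁻¹ : GL (Fin (m + 2)) K).val *ᵥ x) 0 ≠ 0 from ⟨P₁, hmain⟩
  refine ⟨?_, ?_, ?_, ?_, ?_, ?_⟩
  · -- (0,0) entry
    rw [hMent, hB0, hBφ, hφga]
  · -- first column
    intro h0
    apply h.ne
    have hz : ∀ i : Fin (m + 1), B.repr (gl a) i.succ = 0 := by
      intro i
      have := congrFun h0 i
      rw [col0, hMent, hB0] at this
      exact this
    have := B.sum_repr (gl a)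
    rw [Fin.sum_univ_succ, hBφ, hφga, one_smul, hB0] at this
    rw [← this]
    simp [hz]
  · -- first row
    intro h0
    obtain ⟨v, hv0, hv1⟩ := h.row
    apply hv1
    rw [dualOf_apply] at hv0 ⊢
    have hz : ∀ j : Fin (m + 1), ((dualOf φ).comp gl) (B j.succ) = 0 := by
      intro j
      have := congrFun h0 j
      rw [row0, hMent, hBφ] at this
      exact this
    have := br_vanish B ((dualOf φ).comp gl) hz v (by rw [hBφ]; exact hv0)
    exact this
  · -- the Schur complement
    by_cases hm : m + 1 ≤ 1
    · exact Or.inl hm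
    right
    have h3 : 3 ≤ finrank K (Fin (m + 2) → K) := by
      rw [Module.finrank_fintype_fun_eq_card, Fintype.card_fin]; omega
    refine ⟨?_, ?_⟩
    · rintro ⟨c, hc⟩
      apply h.nonscalar h3
      refine ⟨c, ?_⟩
      intro v hv
      rw [dualOf_apply] at hv
      rw [← hCL]
      let D : (Fin (m + 2) → K) →ₗ[K] (Fin (m + 2) → K) := CL - c • LinearMap.id
      have hz : ∀ j : Fin (m + 1), D (B j.succ) = 0 := by
        intro j
        apply B.ext_elem
        intro k
        simp only [D]
        rw [map_zero, Finsupp.zero_apply, LinearMap.sub_apply, LinearMap.smul_apply, LinearMap.id_apply,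
          map_sub, map_smul, Finsupp.sub_apply, Finsupp.smul_apply, Basis.repr_self, smul_eq_mul]
        refine Fin.cases ?_ (fun i => ?_) k
        · rw [hBφ, hCLφ, Finsupp.single_eq_of_ne (Fin.succ_ne_zero j).symm, mul_zero, sub_zero]
        · rw [← hS, hc, Matrix.smul_apply, Matrix.one_apply, Finsupp.single_apply, smul_eq_mul]
          by_cases hij : i = j
          · subst hij; simp
          · rw [if_neg hij, if_neg (fun hh => hij (Fin.succ_injective _ hh).symm)]
            simp
      have := br_vanish B D hz v (by rw [hBφ]; exact hv)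
      simp only [D] at this
      rw [LinearMap.sub_apply, LinearMap.smul_apply, LinearMap.id_apply, sub_eq_zero] at this
      exact this
    · obtain ⟨v, w, hv, hw, hli⟩ := h.rank2 h3
      rw [dualOf_apply] at hv hw
      set T := schur M - 1 with hT
      let F : (Fin (m + 1) → K) →ₗ[K] (Fin (m + 2) → K) :=
        Fintype.linearCombination K (fun j : Fin (m + 1) => B j.succ)
      have hFrepr0 : ∀ c, B.repr (F c) 0 = 0 := by
        intro c
        rw [hBφ]
        simp only [F, Fintype.linearCombination_apply, dotProduct_sum, dotProduct_smul, hbφ, smul_zero,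
          Finset.sum_const_zero]
      have hFrepr : ∀ c (i : Fin (m + 1)), B.repr (F c) i.succ = c i := by
        intro c i
        simp only [F, Fintype.linearCombination_apply, map_sum, map_smul, Basis.repr_self,
          Finsupp.coe_finsetSum, Finsupp.coe_smul, Finset.sum_apply, Pi.smul_apply, smul_eq_mul]
        rw [Finset.sum_eq_single i]
        · rw [Finsupp.single_eq_same, mul_one]
        · intro j _ hji
          rw [Finsupp.single_eq_of_ne (fun hh => hji (Fin.succ_injective _ hh).symm), mul_zero]
        · intro hh; exact absurd (Finset.mem_univ i) hh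
      -- key: for `u ∈ ker φ`, `F (T *ᵥ coordinates u) = CL u - u`
      have key : ∀ u, φ ⬝ᵥ u = 0 → F (T *ᵥ fun j => B.repr u j.succ) = CL u - u := by
        intro u hu
        apply B.ext_elem
        intro k
        refine Fin.cases ?_ (fun i => ?_) k
        · rw [hFrepr0, map_sub, Finsupp.sub_apply, hBφ, hBφ, hCLφ, hu, sub_zero]
        · rw [hFrepr]
          -- the linear functional comparing both sides
          let G : (Fin (m + 2) → K) →ₗ[K] K :=
            (B.coord i.succ).comp (CL - LinearMap.id) -
              ∑ j : Fin (m + 1), T i j • B.coord j.succ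
          have hG : ∀ j : Fin (m + 1), G (B j.succ) = 0 := by
            intro j
            simp only [G, LinearMap.sub_apply, LinearMap.comp_apply, LinearMap.id_apply,
              LinearMap.coe_sum, Finset.sum_apply, LinearMap.smul_apply, Basis.coord_apply,
              Basis.repr_self, map_sub, Finsupp.sub_apply, smul_eq_mul]
            rw [Finset.sum_eq_single j]
            · rw [Finsupp.single_eq_same, mul_one, hT, Matrix.sub_apply, hS, Matrix.one_apply,
                Finsupp.single_apply]
              by_cases hij : i = j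
              · subst hij; simp
              · rw [if_neg hij, if_neg (fun hh => hij (Fin.succ_injective _ hh).symm)]
                simp
            · intro j' _ hj'
              rw [Finsupp.single_eq_of_ne (fun hh => hj' (Fin.succ_injective _ hh)), mul_zero]
            · intro hh; exact absurd (Finset.mem_univ j) hh
          have := br_vanish B G hG u (by rw [hBφ]; exact hu)
          simp only [G, LinearMap.sub_apply, LinearMap.comp_apply, LinearMap.id_apply,
            LinearMap.coe_sum, Finset.sum_apply, LinearMap.smul_apply, Basis.coord_apply,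
            smul_eq_mul, sub_eq_zero] at this
          rw [this]
          rfl
      have hli2 : LinearIndependent K ![T *ᵥ (fun j => B.repr v j.succ), T *ᵥ (fun j => B.repr w j.succ)] := by
        apply LinearIndependent.of_comp F
        have : F ∘ ![T *ᵥ (fun j => B.repr v j.succ), T *ᵥ (fun j => B.repr w j.succ)] =
            ![comp gl a (dualOf φ) v - v, comp gl a (dualOf φ) w - w] := by
          funext i
          fin_cases i
          · simp only [Function.comp_apply, Fin.zero_eta, Matrix.cons_val_zero]
            rw [key v hv, hCL]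
          · simp only [Function.comp_apply, Fin.mk_one, Matrix.cons_val_one, Matrix.cons_val_zero]
            rw [key w hw, hCL]
        rw [this]
        exact hli
      have hle : Submodule.span K (Set.range ![T *ᵥ (fun j => B.repr v j.succ), T *ᵥ (fun j => B.repr w j.succ)])
          ≤ LinearMap.range T.mulVecLin := by
        rw [Submodule.span_le]
        rintro _ ⟨i, rfl⟩
        fin_cases i
        · exact ⟨_, rfl⟩
        · exact ⟨_, rfl⟩
      have h2 := finrank_span_eq_card hli2
      rw [Fintype.card_fin] at h2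
      have h3' := Submodule.finrank_mono hle
      rw [h2] at h3'
      exact h3'
  · -- ψ
    have : (ψ ᵥ* P₁.val) 0 = ψ ⬝ᵥ a := by
      rw [hPval]
      simp only [Matrix.vecMul, dotProduct, Basis.toMatrix_apply, he, Pi.basisFun_repr, hB0]
    rw [this]
    exact h.psi_a
  · -- x
    have : ((P₁⁻¹ : GL (Fin (m + 2)) K).val *ᵥ x) 0 = φ ⬝ᵥ x := by
      rw [hPinv]
      simp only [Matrix.mulVec, dotProduct, Basis.toMatrix_apply, hBφ, he, Pi.basisFun_apply]
      apply Finset.sum_congr rfl
      intro k _
      simp [Pi.single_apply]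
    rw [this]
    exact h.phi_x

end Cfsg.Agent.Lib.Helper65.RU
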