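import Cfsg.Agent.Lib.Helper65.RU.Defs

set_option autoImplicit false
set_option linter.unusedSectionVars false
set_option linter.unusedSimpArgs false

namespace Cfsg.Agent.Lib.Helper65.RU

open Matrix

variable {K : Type*} [Field K]

/-- block matrix on `Fin (n+1)` with corner `a`, first row `r`, first column `c`, block `D` -/
def l3_blk {n : ℕ} (a : K) (r c : Fin n → K) (D : Matrix (Fin n) (Fin n) K) :
    Matrix (Fin (n + 1)) (Fin (n + 1)) K :=
  fun i j => Fin.cases (Fin.cases a r j) (fun i' => Fin.cases (c i') (D i') j) i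

@[simp] theorem l3_blk_zero_zero {n : ℕ} (a : K) (r c : Fin n → K) (D : Matrix (Fin n) (Fin n) K) :
    l3_blk a r c D 0 0 = a := rfl

@[simp] theorem l3_blk_zero_succ {n : ℕ} (a : K) (r c : Fin n → K) (D : Matrix (Fin n) (Fin n) K)
    (j : Fin n) : l3_blk a r c D 0 j.succ = r j := rfl

@[simp] theorem l3_blk_succ_zero {n : ℕ} (a : K) (r c : Fin n → K) (D : Matrix (Fin n) (Fin n) K)
    (i : Fin n) : l3_blk a r c D i.succ 0 = c i := rfl

@[simp] theorem l3_blk_succ_succ {n : ℕ} (a : K) (r c : Fin n → K) (D : Matrix (Fin n) (Fin n) K)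
    (i j : Fin n) : l3_blk a r c D i.succ j.succ = D i j := rfl

theorem l3_blk_mul {n : ℕ} (a a' : K) (r c r' c' : Fin n → K) (D D' : Matrix (Fin n) (Fin n) K) :
    l3_blk a r c D * l3_blk a' r' c' D' =
      l3_blk (a * a' + r ⬝ᵥ c') (a • r' + r ᵥ* D') (a' • c + D *ᵥ c') (vecMulVec c r' + D * D') := by
  ext i j
  refine Fin.cases ?_ (fun i' => ?_) i <;> refine Fin.cases ?_ (fun j' => ?_) j
  · simp [Matrix.mul_apply, Fin.sum_univ_succ, dotProduct]
  · simp [Matrix.mul_apply, Fin.sum_univ_succ, Matrix.vecMul, dotProduct]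
  · simp [Matrix.mul_apply, Fin.sum_univ_succ, Matrix.mulVec, dotProduct, mul_comm]
  · simp [Matrix.mul_apply, Fin.sum_univ_succ, Matrix.vecMulVec_apply]

theorem l3_blk_one {n : ℕ} : l3_blk (1 : K) 0 0 (1 : Matrix (Fin n) (Fin n) K) = 1 := by
  ext i j
  refine Fin.cases ?_ (fun i' => ?_) i <;> refine Fin.cases ?_ (fun j' => ?_) j
  · simp
  · simp [Matrix.one_apply, Fin.ext_iff]
  · simp [Matrix.one_apply, Fin.ext_iff]
  · simp [Matrix.one_apply, Fin.ext_iff]

theorem l3_eq_blk {n : ℕ} (A : Matrix (Fin (n + 1)) (Fin (n + 1)) K) :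
    A = l3_blk (A 0 0) (row0 A) (col0 A) (A.submatrix Fin.succ Fin.succ) := by
  ext i j
  refine Fin.cases ?_ (fun i' => ?_) i <;> refine Fin.cases ?_ (fun j' => ?_) j <;> rfl

theorem l3_det_row {n : ℕ} (c : Fin n → K) (D : Matrix (Fin n) (Fin n) K) :
    (l3_blk 1 0 c D).det = D.det := by
  rw [Matrix.det_succ_row_zero, Finset.sum_eq_single 0]
  · have : (l3_blk 1 0 c D).submatrix Fin.succ (Fin.succAbove 0) = D := by
      ext i j
      simp [Matrix.submatrix_apply]
    rw [this]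
    simp
  · intro j _ hj
    obtain ⟨j', rfl⟩ := Fin.exists_succ_eq.mpr hj
    simp
  · intro h; exact absurd (Finset.mem_univ _) h

theorem l3_det_col {n : ℕ} (r : Fin n → K) (D : Matrix (Fin n) (Fin n) K) :
    (l3_blk 1 r 0 D).det = D.det := by
  rw [Matrix.det_succ_column_zero, Finset.sum_eq_single 0]
  · have : (l3_blk 1 r 0 D).submatrix (Fin.succAbove 0) Fin.succ = D := by
      ext i j
      simp [Matrix.submatrix_apply]
    rw [this]
    simp
  · intro j _ hj
    obtain ⟨j', rfl⟩ := Fin.exists_succ_eq.mpr hj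
    simp
  · intro h; exact absurd (Finset.mem_univ _) h

theorem l3_det_schur {m : ℕ} (A : Matrix (Fin (m + 1)) (Fin (m + 1)) K) (h00 : A 0 0 = 1) :
    (schur A).det = A.det := by
  have hA : A = l3_blk 1 0 (col0 A) 1 * l3_blk 1 (row0 A) 0 (schur A) := by
    rw [l3_blk_mul]
    conv_lhs => rw [l3_eq_blk A, h00]
    congr 1
    · simp
    · simp
    · simp
    · ext i j
      simp [schur, col0, row0, Matrix.vecMulVec_apply]
  conv_rhs => rw [hA]
  rw [Matrix.det_mul, l3_det_row, l3_det_col, Matrix.det_one, one_mul]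

theorem l3_regLower {n : ℕ} (c : Fin (n + 1) → K) (L : Matrix (Fin (n + 1)) (Fin (n + 1)) K)
    (hL : IsRegLower L) (hc : c 0 ≠ 0) : IsRegLower (l3_blk 1 0 c L) := by
  obtain ⟨h1, h2, h3⟩ := hL
  refine ⟨?_, ?_, ?_⟩
  · intro i j
    refine Fin.cases ?_ (fun i' => ?_) i <;> refine Fin.cases ?_ (fun j' => ?_) j
    · intro h; exact absurd h (lt_irrefl _)
    · intro _; simp
    · intro h; exact absurd h (Fin.not_lt_zero _)
    · intro h
      rw [l3_blk_succ_succ]
      exact h1 i' j' (Fin.succ_lt_succ_iff.mp h)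
  · intro i
    refine Fin.cases ?_ (fun i' => ?_) i
    · simp
    · rw [l3_blk_succ_succ]; exact h2 i'
  · intro i j
    refine Fin.cases ?_ (fun i' => ?_) i <;> refine Fin.cases ?_ (fun j' => ?_) j
    · intro h; simp at h
    · intro h; simp at h
    · intro h
      rw [l3_blk_succ_zero]
      have : i' = 0 := by
        apply Fin.ext
        simp at h
        omega
      rw [this]; exact hc
    · intro h
      rw [l3_blk_succ_succ]
      apply h3
      simp at h
      omega

theorem l3_regUpper {n : ℕ} (r : Fin (n + 1) → K) (U : Matrix (Fin (n + 1)) (Fin (n + 1)) K)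
    (hU : IsRegUpper U) (hr : r 0 ≠ 0) : IsRegUpper (l3_blk 1 r 0 U) := by
  obtain ⟨h1, h2, h3⟩ := hU
  refine ⟨?_, ?_, ?_⟩
  · intro i j
    refine Fin.cases ?_ (fun i' => ?_) i <;> refine Fin.cases ?_ (fun j' => ?_) j
    · intro h; exact absurd h (lt_irrefl _)
    · intro h; exact absurd h (Fin.not_lt_zero _)
    · intro _; simp
    · intro h
      rw [l3_blk_succ_succ]
      exact h1 i' j' (Fin.succ_lt_succ_iff.mp h)
  · intro i
    refine Fin.cases ?_ (fun i' => ?_) i
    · simp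
    · rw [l3_blk_succ_succ]; exact h2 i'
  · intro i j
    refine Fin.cases ?_ (fun i' => ?_) i <;> refine Fin.cases ?_ (fun j' => ?_) j
    · intro h; simp at h
    · intro h
      rw [l3_blk_zero_succ]
      have : j' = 0 := by
        apply Fin.ext
        simp at h
        omega
      rw [this]; exact hr
    · intro h; simp at h
    · intro h
      rw [l3_blk_succ_succ]
      apply h3
      simp at h
      omega

/-- L3: the matrix step. -/
theorem step {m : ℕ} (ih : Target K m) (A : Matrix (Fin (m + 2)) (Fin (m + 2)) K) (hdet : A.det = 1)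
    (h00 : A 0 0 = 1) (hc : col0 A ≠ 0) (hr : row0 A ≠ 0) (hS : HypH (schur A)) :
    ∃ P : GL (Fin (m + 2)) K, GoodLU ((P⁻¹ : GL (Fin (m + 2)) K).val * A * P.val) ∧
      (∀ i, P.val i 0 = if i = 0 then 1 else 0) ∧
      (∀ j, (P⁻¹ : GL (Fin (m + 2)) K).val 0 j = if j = 0 then 1 else 0) := by
  have hdetS : (schur A).det = 1 := by rw [l3_det_schur A h00, hdet]
  obtain ⟨P', ⟨L', U', hL', hU', hLU⟩, hψ, hx⟩ := ih (schur A) hdetS hS (col0 A) (row0 A) hc hr
  -- the block-diagonal change of basis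
  have hPP : l3_blk (1 : K) 0 0 P'.val * l3_blk (1 : K) 0 0 (P'⁻¹ : GL (Fin (m + 1)) K).val = 1 := by
    rw [l3_blk_mul]
    simp only [mul_one, dotProduct_zero, add_zero, smul_zero, zero_vecMul, mulVec_zero,
      Units.mul_inv, l3_blk_one]
    have : vecMulVec (0 : Fin (m + 1) → K) (0 : Fin (m + 1) → K) = 0 := by
      ext i j; simp [Matrix.vecMulVec_apply]
    rw [this, zero_add, l3_blk_one]
  have hPP' : l3_blk (1 : K) 0 0 (P'⁻¹ : GL (Fin (m + 1)) K).val * l3_blk (1 : K) 0 0 P'.val = 1 := by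
    rw [l3_blk_mul]
    simp only [mul_one, dotProduct_zero, add_zero, smul_zero, zero_vecMul, mulVec_zero,
      Units.inv_mul]
    have : vecMulVec (0 : Fin (m + 1) → K) (0 : Fin (m + 1) → K) = 0 := by
      ext i j; simp [Matrix.vecMulVec_apply]
    rw [this, zero_add, l3_blk_one]
  let P : GL (Fin (m + 2)) K := ⟨l3_blk 1 0 0 P'.val, l3_blk 1 0 0 (P'⁻¹ : GL (Fin (m + 1)) K).val, hPP, hPP'⟩
  have hPval : P.val = l3_blk 1 0 0 P'.val := rfl
  have hPinv : (P⁻¹ : GL (Fin (m + 2)) K).val = l3_blk 1 0 0 (P'⁻¹ : GL (Fin (m + 1)) K).val := rfl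
  refine ⟨P, ⟨l3_blk 1 0 ((P'⁻¹ : GL (Fin (m + 1)) K).val *ᵥ col0 A) L',
    l3_blk 1 (row0 A ᵥ* P'.val) 0 U', l3_regLower _ _ hL' hx, l3_regUpper _ _ hU' hψ, ?_⟩, ?_, ?_⟩
  · rw [hPval, hPinv]
    conv_lhs => rw [l3_eq_blk A, h00]
    rw [l3_blk_mul, l3_blk_mul, l3_blk_mul]
    have hD : A.submatrix Fin.succ Fin.succ = schur A + vecMulVec (col0 A) (row0 A) := by
      ext i j
      simp [schur, col0, row0, Matrix.vecMulVec_apply]
    have hz : vecMulVec (0 : Fin (m + 1) → K) (row0 A) = 0 := by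
      ext i j; simp [Matrix.vecMulVec_apply]
    have hz2 : ∀ w : Fin (m + 1) → K, vecMulVec w (0 : Fin (m + 1) → K) = 0 := by
      intro w; ext i j; simp [Matrix.vecMulVec_apply]
    congr 1
    · simp
    · simp
    · simp
    · simp only [hz, hz2, zero_add, mul_one, one_smul, smul_zero, zero_dotProduct, dotProduct_zero,
        add_zero, zero_vecMul, mulVec_zero, one_mul]
      rw [hD, ← hLU, Matrix.mul_add, Matrix.add_mul, Matrix.mul_vecMulVec, Matrix.vecMulVec_mul]
      exact add_comm _ _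
  · intro i
    rw [hPval]
    refine Fin.cases ?_ (fun i' => ?_) i
    · simp
    · simp [Fin.succ_ne_zero]
  · intro j
    rw [hPinv]
    refine Fin.cases ?_ (fun j' => ?_) j
    · simp
    · simp [Fin.succ_ne_zero]

end Cfsg.Agent.Lib.Helper65.RU
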