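import Mathlib
import Cfsg.Agent.Lib.Helper41.PsDefs
import Cfsg.Agent.Lib.Helper49.CgCG8c

/-!
# Ps hive (S4321), leaf PS25 `ps_cJ`.
-/

set_option autoImplicit false

namespace Cfsg.Agent.Lib.Helper41.Ps

open Subgroup
open Cfsg.Agent.Lib.Helper22.Cg

universe u

/-- membership in a conjugated Sylow subgroup -/
theorem ps25_mem_smul {G : Type u} [Group G] (t : ℕ) (T : Sylow t G) (g w : G) :
    w ∈ g • T ↔ g⁻¹ * w * g ∈ T := by
  change w ∈ ((g • T : Sylow t G) : Subgroup G) ↔ g⁻¹ * w * g ∈ (T : Subgroup G)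
  rw [Sylow.coe_subgroup_smul, Subgroup.mem_pointwise_smul_iff_inv_smul_mem,
    MulAut.smul_def, ← map_inv, MulAut.conj_apply, inv_inv]

/-- if a Sylow `q`-subgroup centralizes `x` then `q ∤ cs x` -/
theorem ps25_sylow_cent {G : Type u} [Group G] [Finite G] (q : ℕ) [Fact q.Prime] (Q : Sylow q G)
    (x : G) (h : ∀ y ∈ Q, x * y = y * x) : ¬ q ∣ cs x := by
  intro hq
  have hle : (Q : Subgroup G) ≤ centralizer ({x} : Set G) := by
    intro y hy
    rw [Subgroup.mem_centralizer_iff]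
    intro z hz
    rw [Set.mem_singleton_iff] at hz
    subst hz
    exact h y hy
  have h1 : (centralizer ({x} : Set G)).index ∣ (Q : Subgroup G).index :=
    Subgroup.index_dvd_of_le hle
  exact Q.not_dvd_index (hq.trans h1)

/-- PS25 (J). final contradiction: `b = [x, a]` with `a`, `x` centralized by Sylow `t`-subgroups,
`G = P * C(a)`: then a Sylow `t`-subgroup centralizes `b`. (cg8c, Sylow conjugacy, PS9) -/
theorem ps_cJ {G : Type u} [Group G] [Finite G] (p : ℕ) [Fact p.Prime] (P : Sylow p G)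
    (a x b : G) (ha : a ∈ P) (hx : x ∈ P)
    (hconj : ∀ x' ∈ P, ∀ y ∈ P,
      (y⁻¹ * x' * y) * a * (y⁻¹ * x' * y)⁻¹ * a⁻¹ = x' * a * x'⁻¹ * a⁻¹)
    (hxab : x * a * x⁻¹ * a⁻¹ = b)
    (hCa : ∀ g : G, ∃ y ∈ P, ∃ c : G, c * a = a * c ∧ g = y * c)
    (t : ℕ) [Fact t.Prime] (hta : ¬ t ∣ cs a) (htx : ¬ t ∣ cs x) : ¬ t ∣ cs b := by
  obtain ⟨Ta, hTa⟩ := cg8c t a hta
  obtain ⟨Tx, hTx⟩ := cg8c t x htx
  obtain ⟨g, hg⟩ := MulAction.exists_smul_eq G Ta Tx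
  obtain ⟨y, hy, c, hca, hgyc⟩ := hCa g
  -- the Sylow subgroup `c • Ta` centralizes `b`
  apply ps25_sylow_cent t (c • Ta) b
  intro w hw
  rw [ps25_mem_smul] at hw
  have hca' : Commute c a := hca
  -- `u = c⁻¹ w c ∈ Ta`
  have hua : Commute a (c⁻¹ * w * c) := hTa _ hw
  -- `w` commutes with `a`
  have hwa : Commute a w := by
    have e1 : w = c * (c⁻¹ * w * c) * c⁻¹ := by group
    rw [e1]
    exact (hca'.symm.mul_right hua).mul_right hca'.symm.inv_right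
  -- `y w y⁻¹ ∈ Tx`
  have hyw : y * w * y⁻¹ ∈ Tx := by
    rw [← hg, ps25_mem_smul, hgyc]
    have : (y * c)⁻¹ * (y * w * y⁻¹) * (y * c) = c⁻¹ * w * c := by group
    rw [this]; exact hw
  have hxw : Commute x (y * w * y⁻¹) := hTx _ hyw
  -- `w` commutes with `x' = y⁻¹ x y`
  have hx'w : Commute (y⁻¹ * x * y) w := by
    have h1 : Commute (y⁻¹ * x * y) (y⁻¹ * (y * w * y⁻¹) * y) := by
      have := hxw.eq
      change (y⁻¹ * x * y) * (y⁻¹ * (y * w * y⁻¹) * y) = (y⁻¹ * (y * w * y⁻¹) * y) * (y⁻¹ * x * y)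
      have e2 : (y⁻¹ * x * y) * (y⁻¹ * (y * w * y⁻¹) * y) = y⁻¹ * (x * (y * w * y⁻¹)) * y := by
        group
      have e3 : (y⁻¹ * (y * w * y⁻¹) * y) * (y⁻¹ * x * y) = y⁻¹ * ((y * w * y⁻¹) * x) * y := by
        group
      rw [e2, e3, this]
    have e4 : y⁻¹ * (y * w * y⁻¹) * y = w := by group
    rwa [e4] at h1
  have hb : b = (y⁻¹ * x * y) * a * (y⁻¹ * x * y)⁻¹ * a⁻¹ := by
    rw [hconj x hx y hy, hxab]
  -- conclude
  rw [hb]
  have hfin : Commute ((y⁻¹ * x * y) * a * (y⁻¹ * x * y)⁻¹ * a⁻¹) w :=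
    (((hx'w.mul_left hwa).mul_left hx'w.inv_left).mul_left hwa.inv_left)
  exact hfin.eq

end Cfsg.Agent.Lib.Helper41.Ps
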