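import Mathlib
import Cfsg.Agent.Lib.Helper15.CycSylDefs

/-! # S4016 hive (helper15), leaf W5': a `p'`-element of `C(P)` lies in every complement of `P` in `N(P)`
(helper97) -/

set_option autoImplicit false
set_option linter.unusedVariables false

namespace Cfsg.Agent.Lib.Helper15.CycSyl

open Subgroup

universe u

variable {G : Type*} [Group G] [Finite G] {p : ℕ} [Fact p.Prime]

/-- the product set `T₁ T₂` as a subgroup, when `T₁` normalizes `T₂` -/
def w5p_prod (T₁ T₂ : Subgroup G) (hn : ∀ a ∈ T₁, ∀ b ∈ T₂, a * b * a⁻¹ ∈ T₂) : Subgroup G where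
  carrier := {x | ∃ a ∈ T₁, ∃ b ∈ T₂, x = a * b}
  mul_mem' := by
    rintro x y ⟨a, ha, b, hb, rfl⟩ ⟨a', ha', b', hb', rfl⟩
    refine ⟨a * a', T₁.mul_mem ha ha', a'⁻¹ * b * a' * b', T₂.mul_mem ?_ hb', by group⟩
    have := hn a'⁻¹ (T₁.inv_mem ha') b hb
    rwa [inv_inv] at this
  one_mem' := ⟨1, T₁.one_mem, 1, T₂.one_mem, by simp⟩
  inv_mem' := by
    rintro x ⟨a, ha, b, hb, rfl⟩
    exact ⟨a⁻¹, T₁.inv_mem ha, a * b⁻¹ * a⁻¹, hn a ha b⁻¹ (T₂.inv_mem hb), by group⟩

omit [Finite G] in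
theorem w5p_mem_sup {T₁ T₂ : Subgroup G} (hn : ∀ a ∈ T₁, ∀ b ∈ T₂, a * b * a⁻¹ ∈ T₂) {x : G}
    (hx : x ∈ T₁ ⊔ T₂) : ∃ a ∈ T₁, ∃ b ∈ T₂, x = a * b := by
  have hle : T₁ ⊔ T₂ ≤ w5p_prod T₁ T₂ hn := by
    apply sup_le
    · intro a ha
      exact ⟨a, ha, 1, T₂.one_mem, by simp⟩
    · intro b hb
      exact ⟨1, T₁.one_mem, b, hb, by simp⟩
  exact hle hx

/-- [W5'] (standalone) a `p'`-element of `C(P)` lies in every complement `L` of `P` in `N(P)`
(`P` abelian). -/
theorem mem_compl_of_coprime (P : Sylow p G) (hcyc : IsCyclic (P : Subgroup G)) (L : Subgroup G)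
    (hle : L ≤ normalizer ((P : Subgroup G) : Set G))
    (hsup : (P : Subgroup G) ⊔ L = normalizer ((P : Subgroup G) : Set G))
    (hcop : (Nat.card L).Coprime p) {x : G}
    (hx : x ∈ centralizer ((P : Subgroup G) : Set G)) (hxo : (orderOf x).Coprime p) : x ∈ L := by
  have hp : p.Prime := Fact.out
  -- `L` normalizes `P`
  have hn : ∀ l ∈ L, ∀ a ∈ (P : Subgroup G), l * a * l⁻¹ ∈ (P : Subgroup G) := by
    intro l hl a ha
    exact (mem_normalizer_iff.mp (hle hl) a).mp ha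
  have hxN : x ∈ L ⊔ (P : Subgroup G) := by
    rw [sup_comm, hsup]
    exact centralizer_le_normalizer _ hx
  obtain ⟨l, hl, a, ha, rfl⟩ := w5p_mem_sup hn hxN
  -- `P` is abelian
  have hPab : ∀ u ∈ (P : Subgroup G), ∀ v ∈ (P : Subgroup G), u * v = v * u := by
    intro u hu v hv
    obtain ⟨g, hg⟩ := hcyc.exists_generator
    obtain ⟨i, hi⟩ := Subgroup.mem_zpowers_iff.mp (hg ⟨u, hu⟩)
    obtain ⟨j, hj⟩ := Subgroup.mem_zpowers_iff.mp (hg ⟨v, hv⟩)
    have hu' : u = ((g ^ i : (P : Subgroup G)) : G) := by rw [hi]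
    have hv' : v = ((g ^ j : (P : Subgroup G)) : G) := by rw [hj]
    rw [hu', hv', ← Subgroup.coe_mul, ← Subgroup.coe_mul, ← zpow_add, ← zpow_add, add_comm]
  -- `l` centralizes `P`
  have hlc : ∀ v ∈ (P : Subgroup G), v * l = l * v := by
    intro v hv
    have h1 : v * (l * a) = (l * a) * v := mem_centralizer_iff.mp hx v hv
    have h2 : a * v = v * a := hPab a ha v hv
    have h3 : v * l * a = l * v * a := by
      calc v * l * a = v * (l * a) := by group
        _ = l * a * v := h1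
        _ = l * (a * v) := by group
        _ = l * (v * a) := by rw [h2]
        _ = l * v * a := by group
    exact mul_right_cancel h3
  have hcomm : Commute l a := (hlc a ha).symm
  -- `a ^ n = (l * a) ^ n` for `n = |L|`
  set n := Nat.card L with hn_def
  have hln : l ^ n = 1 := by
    have h1 : (⟨l, hl⟩ : L) ^ Nat.card L = 1 := pow_card_eq_one'
    have h2 : (((⟨l, hl⟩ : L) ^ Nat.card L : L) : G) = ((1 : L) : G) := congrArg Subtype.val h1
    rw [Subgroup.coe_pow] at h2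
    exact h2
  have han : (l * a) ^ n = a ^ n := by rw [hcomm.mul_pow, hln, one_mul]
  -- `a` is a `p`-element
  obtain ⟨k, hk⟩ := (P.isPGroup' : IsPGroup p (P : Subgroup G)) ⟨a, ha⟩
  have hak : a ^ p ^ k = 1 := by
    have h2 : (((⟨a, ha⟩ : (P : Subgroup G)) ^ p ^ k : (P : Subgroup G)) : G) =
        ((1 : (P : Subgroup G)) : G) := congrArg Subtype.val hk
    rw [Subgroup.coe_pow] at h2
    exact h2
  -- the order of `a ^ n` divides a power of `p` and the order of `l * a`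
  have ho1 : orderOf (a ^ n) ∣ p ^ k := by
    apply orderOf_dvd_of_pow_eq_one
    rw [← pow_mul, mul_comm, pow_mul, hak, one_pow]
  have ho2 : orderOf (a ^ n) ∣ orderOf (l * a) := by
    rw [← han]
    exact orderOf_pow_dvd n
  have ho3 : orderOf (a ^ n) = 1 := by
    have hc : (orderOf (l * a)).Coprime (p ^ k) := Nat.Coprime.pow_right k hxo
    exact Nat.eq_one_of_dvd_coprimes hc ho2 ho1
  have han1 : a ^ n = 1 := orderOf_eq_one_iff.mp ho3
  -- hence `a = 1`
  have ho4 : orderOf a ∣ n := orderOf_dvd_of_pow_eq_one han1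
  have ho5 : orderOf a ∣ p ^ k := orderOf_dvd_of_pow_eq_one hak
  have ho6 : orderOf a = 1 := by
    have hc : (n).Coprime (p ^ k) := Nat.Coprime.pow_right k hcop
    exact Nat.eq_one_of_dvd_coprimes hc ho4 ho5
  have ha1 : a = 1 := orderOf_eq_one_iff.mp ho6
  rw [ha1, mul_one]
  exact hl

end Cfsg.Agent.Lib.Helper15.CycSyl
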