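import Mathlib
import Cfsg.Agent.Lib.Helper99.BMDefs

/-! # S2733 hive (helper99), leaf BM-GT: the normal closure trick (helper97) -/

set_option autoImplicit false
set_option linter.unusedVariables false

namespace Cfsg.Agent.Lib.Helper99.BM

universe u v

section gt
variable {G : Type*} [Group G]

/-- the oddness property (modulo the central involution `z`) of a subgroup -/
def gt_Podd (z : G) (T : Subgroup G) : Prop :=
  ∀ x ∈ T, ∃ k : ℕ, Odd k ∧ (x ^ k = 1 ∨ x ^ k = z)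

/-- the product set `T₁ T₂` as a subgroup, when `T₁` normalizes `T₂` -/
def gt_prod (T₁ T₂ : Subgroup G) (hn : ∀ a ∈ T₁, ∀ b ∈ T₂, a * b * a⁻¹ ∈ T₂) : Subgroup G where
  carrier := {x | ∃ a ∈ T₁, ∃ b ∈ T₂, x = a * b}
  mul_mem' := by
    rintro x y ⟨a, ha, b, hb, rfl⟩ ⟨a', ha', b', hb', rfl⟩
    refine ⟨a * a', T₁.mul_mem ha ha', a'⁻¹ * b * a' * b', T₂.mul_mem ?_ hb', by group⟩
    have := hn a'⁻¹ (T₁.inv_mem ha') b hb
    rwa [inv_inv] at this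
  one_mem' := ⟨1, T₁.one_mem, 1, T₂.one_mem, by simp⟩
  inv_mem' := by
    rintro x ⟨a, ha, b, hb, rfl⟩
    exact ⟨a⁻¹, T₁.inv_mem ha, a * b⁻¹ * a⁻¹, hn a ha b⁻¹ (T₂.inv_mem hb), by group⟩

theorem gt_mem_sup {T₁ T₂ : Subgroup G} (hn : ∀ a ∈ T₁, ∀ b ∈ T₂, a * b * a⁻¹ ∈ T₂) {x : G}
    (hx : x ∈ T₁ ⊔ T₂) : ∃ a ∈ T₁, ∃ b ∈ T₂, x = a * b := by
  have hle : T₁ ⊔ T₂ ≤ gt_prod T₁ T₂ hn := by
    apply sup_le
    · intro a ha
      exact ⟨a, ha, 1, T₂.one_mem, by simp⟩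
    · intro b hb
      exact ⟨1, T₁.one_mem, b, hb, by simp⟩
  exact hle hx

/-- powers of a product `a * b` when `a` normalizes the subgroup containing `b` -/
theorem gt_pow_mul {T₁ T₂ : Subgroup G} (hn : ∀ a ∈ T₁, ∀ b ∈ T₂, a * b * a⁻¹ ∈ T₂) {a b : G}
    (ha : a ∈ T₁) (hb : b ∈ T₂) (k : ℕ) : ∃ b' ∈ T₂, (a * b) ^ k = a ^ k * b' := by
  induction k with
  | zero => exact ⟨1, T₂.one_mem, by simp⟩
  | succ k ih =>
    obtain ⟨b', hb', he⟩ := ih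
    refine ⟨a⁻¹ * b' * a * b, T₂.mul_mem ?_ hb, ?_⟩
    · have := hn a⁻¹ (T₁.inv_mem ha) b' hb'
      rwa [inv_inv] at this
    · rw [pow_succ, he, pow_succ]
      group

/-- the oddness property passes to products -/
theorem gt_Podd_sup {z : G} (hz : ∀ g : G, g * z = z * g) (hz2 : z * z = 1) {T₁ T₂ : Subgroup G}
    (hn : ∀ a ∈ T₁, ∀ b ∈ T₂, a * b * a⁻¹ ∈ T₂) (h1 : gt_Podd z T₁) (h2 : gt_Podd z T₂) :
    gt_Podd z (T₁ ⊔ T₂) := by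
  intro x hx
  obtain ⟨a, ha, b, hb, rfl⟩ := gt_mem_sup hn hx
  obtain ⟨k1, hk1, hak⟩ := h1 a ha
  obtain ⟨b', hb', he⟩ := gt_pow_mul hn ha hb k1
  obtain ⟨k2, hk2, hbk⟩ := h2 b' hb'
  refine ⟨k1 * k2, hk1.mul hk2, ?_⟩
  have hzk : z ^ k2 = z := by
    obtain ⟨m, rfl⟩ := hk2
    rw [pow_succ, pow_mul, pow_two, hz2, one_pow, one_mul]
  rw [pow_mul, he]
  rcases hak with hak | hak
  · rw [hak, one_mul]
    exact hbk
  · rw [hak]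
    have hc : Commute z b' := (hz b').symm
    rw [hc.mul_pow, hzk]
    rcases hbk with hbk | hbk
    · right; rw [hbk, mul_one]
    · left; rw [hbk, hz2]

end gt

/-! ### BM-GT : the normal closure trick -/

theorem exists_normal_odd {G : Type*} [Group G] [Finite G] (z : G) (hz : ∀ g : G, g * z = z * g)
    (hz2 : z * z = 1) (O H N : Subgroup G) (hHO : H ≤ O)
    (hHn : ∀ y ∈ O, ∀ h ∈ H, y * h * y⁻¹ ∈ H) (hNH : N ≤ H)
    (hNn : ∀ h ∈ H, ∀ x ∈ N, h * x * h⁻¹ ∈ N)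
    (hodd : ∀ x ∈ N, ∃ k : ℕ, Odd k ∧ (x ^ k = 1 ∨ x ^ k = z)) :
    ∃ N' : Subgroup G, N ≤ N' ∧ N' ≤ H ∧ (∀ y ∈ O, ∀ x ∈ N', y * x * y⁻¹ ∈ N') ∧
      ∀ x ∈ N', ∃ k : ℕ, Odd k ∧ (x ^ k = 1 ∨ x ^ k = z) := by
  set S : Set (Subgroup G) :=
    {T | T ≤ H ∧ (∀ h ∈ H, ∀ x ∈ T, h * x * h⁻¹ ∈ T) ∧ gt_Podd z T} with hS
  have hNS : N ∈ S := ⟨hNH, hNn, hodd⟩
  have hne : S.Nonempty := ⟨N, hNS⟩
  have hdir : DirectedOn (· ≤ ·) S := by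
    rintro T₁ ⟨h1H, h1n, h1o⟩ T₂ ⟨h2H, h2n, h2o⟩
    have hn : ∀ a ∈ T₁, ∀ b ∈ T₂, a * b * a⁻¹ ∈ T₂ := fun a ha b hb => h2n a (h1H ha) b hb
    refine ⟨T₁ ⊔ T₂, ⟨sup_le h1H h2H, ?_, gt_Podd_sup hz hz2 hn h1o h2o⟩, le_sup_left, le_sup_right⟩
    intro h hh x hx
    obtain ⟨a, ha, b, hb, rfl⟩ := gt_mem_sup hn hx
    have e : h * (a * b) * h⁻¹ = (h * a * h⁻¹) * (h * b * h⁻¹) := by group
    rw [e]
    exact (T₁ ⊔ T₂).mul_mem (Subgroup.mem_sup_left (h1n h hh a ha))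
      (Subgroup.mem_sup_right (h2n h hh b hb))
  refine ⟨sSup S, le_sSup hNS, sSup_le (fun T hT => hT.1), ?_, ?_⟩
  · intro y hy x hx
    obtain ⟨T, ⟨hTH, hTn, hTo⟩, hxT⟩ := (Subgroup.mem_sSup_of_directedOn hne hdir).mp hx
    -- the conjugate subgroup
    have hmem : T.map (MulAut.conj y).toMonoidHom ∈ S := by
      refine ⟨?_, ?_, ?_⟩
      · rintro _ ⟨t, ht, rfl⟩
        exact hHn y hy t (hTH ht)
      · rintro h hh _ ⟨t, ht, rfl⟩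
        refine ⟨(y⁻¹ * h * y) * t * (y⁻¹ * h * y)⁻¹, hTn _ ?_ t ht, ?_⟩
        · have := hHn y⁻¹ (O.inv_mem hy) h hh
          rwa [inv_inv] at this
        · simp only [MulEquiv.coe_toMonoidHom, MulAut.conj_apply]
          group
      · rintro _ ⟨t, ht, rfl⟩
        obtain ⟨k, hk, hkt⟩ := hTo t ht
        refine ⟨k, hk, ?_⟩
        simp only [MulEquiv.coe_toMonoidHom, MulAut.conj_apply, conj_pow]
        rcases hkt with hkt | hkt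
        · left; rw [hkt]; group
        · right; rw [hkt, hz y, mul_assoc, mul_inv_cancel, mul_one]
    have hle : T.map (MulAut.conj y).toMonoidHom ≤ sSup S := le_sSup hmem
    apply hle
    exact ⟨x, hxT, by simp [MulAut.conj_apply]⟩
  · intro x hx
    obtain ⟨T, ⟨hTH, hTn, hTo⟩, hxT⟩ := (Subgroup.mem_sSup_of_directedOn hne hdir).mp hx
    exact hTo x hxT

end Cfsg.Agent.Lib.Helper99.BM
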