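import Mathlib
import Cfsg.Agent.Lib.Helper99.BMDefs
import Cfsg.Agent.Lib.Helper97.BMGT

/-! # S2733 hive (helper99), leaf BM-ORTHSUB: `OrthP` for subgroups normalized by a normal subgroup of the
isometry group only (helper97) -/

set_option autoImplicit false
set_option linter.unusedVariables false

namespace Cfsg.Agent.Lib.Helper99.BM

universe u v

/-- the group of isometries of a bilinear form, as a subgroup of the linear automorphisms -/
def os_isom {K : Type u} [Field K] {V : Type v} [AddCommGroup V] [Module K V]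
    (B : LinearMap.BilinForm K V) : Subgroup (V ≃ₗ[K] V) where
  carrier := {h | ∀ u w, B (h u) (h w) = B u w}
  mul_mem' := by
    intro a b ha hb u w
    rw [LinearEquiv.mul_apply, LinearEquiv.mul_apply, ha, hb]
  one_mem' := by
    intro u w
    rfl
  inv_mem' := by
    intro a ha u w
    have h1 := ha (a⁻¹ u) (a⁻¹ w)
    have e : ∀ x : V, a (a⁻¹ x) = x := fun x => by
      rw [← LinearEquiv.mul_apply, mul_inv_cancel]; rfl
    rw [e, e] at h1
    exact h1.symm

theorem os_mem_isom {K : Type u} [Field K] {V : Type v} [AddCommGroup V] [Module K V]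
    (B : LinearMap.BilinForm K V) (h : V ≃ₗ[K] V) :
    h ∈ os_isom B ↔ ∀ u w, B (h u) (h w) = B u w := Iff.rfl

theorem os_neg_central {K : Type u} [Field K] {V : Type v} [AddCommGroup V] [Module K V]
    (g : V ≃ₗ[K] V) : g * LinearEquiv.neg K = LinearEquiv.neg K * g := by
  ext v
  simp [LinearEquiv.mul_apply]

theorem os_neg_sq {K : Type u} [Field K] {V : Type v} [AddCommGroup V] [Module K V] :
    (LinearEquiv.neg K : V ≃ₗ[K] V) * LinearEquiv.neg K = 1 := by
  ext v
  simp [LinearEquiv.mul_apply]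

/-! ### BM-ORTHSUB -/
theorem orth_sub {K : Type u} [Field K] [Finite K] {V : Type v} [AddCommGroup V] [Module K V]
    [FiniteDimensional K V] (B : LinearMap.BilinForm K V) (hP : OrthP K V B)
    (T N : Subgroup (V ≃ₗ[K] V))
    (hT : ∀ t ∈ T, ∀ u w, B (t u) (t w) = B u w)
    (hTn : ∀ h : V ≃ₗ[K] V, (∀ u w, B (h u) (h w) = B u w) → ∀ t ∈ T, h * t * h⁻¹ ∈ T)
    (hNT : N ≤ T) (hNn : ∀ t ∈ T, ∀ x ∈ N, t * x * t⁻¹ ∈ N)
    (hodd : ∀ x ∈ N, ∃ k : ℕ, Odd k ∧ (x ^ k = 1 ∨ x ^ k = LinearEquiv.neg K)) :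
    ∀ x ∈ N, x = 1 ∨ x = LinearEquiv.neg K := by
  have : Finite V := Module.finite_of_finite K
  have : Finite (V ≃ₗ[K] V) :=
    Finite.of_injective (fun f : V ≃ₗ[K] V => (f : V → V)) DFunLike.coe_injective
  obtain ⟨N', hNN', hN'T, hN'n, hN'odd⟩ :=
    exists_normal_odd (LinearEquiv.neg K : V ≃ₗ[K] V) os_neg_central os_neg_sq (os_isom B) T N
      (fun t ht => hT t ht) (fun y hy t ht => hTn y hy t ht) hNT hNn hodd
  intro x hx
  exact hP N' (fun f hf => hT f (hN'T hf)) (fun h hh f hf => hN'n h hh f hf) hN'odd x (hNN' hx)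

end Cfsg.Agent.Lib.Helper99.BM
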