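import Mathlib
import Cfsg.Agent.Lib.Helper90.PsuDefs

set_option autoImplicit false

/-! # Psu hive (S2412, helper90), LEAF PSU-PRE (helper97): `exists_suGL_of_basis`. -/

namespace Cfsg.Agent.Lib.Helper90.Psu

open Matrix Cfsg.Agent.Lib.Helper99 Cfsg.Agent.Lib.Helper13

variable {F : Type*} [Field F] [Fintype F] {q n : ℕ}

local notation "hh" => Cfsg.hermForm n F q

theorem pre_sum_left {κ : Type*} (s : Finset κ) (a : κ → F) (x : κ → Fin n → F)
    (v : Fin n → F) : hh (∑ i ∈ s, a i • x i) v = ∑ i ∈ s, a i * hh (x i) v := by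
  classical
  induction s using Finset.induction_on with
  | empty => simp [hermForm_zero_left]
  | insert i s hi ih =>
    rw [Finset.sum_insert hi, Finset.sum_insert hi, Helper13.hermForm_add_left,
      Helper13.hermForm_smul_left, ih]

theorem pre_sum_right (hF : Fintype.card F = q ^ 2) {κ : Type*} (s : Finset κ) (c : κ → F)
    (y : κ → Fin n → F) (u : Fin n → F) :
    hh u (∑ j ∈ s, c j • y j) = ∑ j ∈ s, c j ^ q * hh u (y j) := by
  classical
  induction s using Finset.induction_on with
  | empty => simp [hermForm_zero_right hF]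
  | insert i s hi ih =>
    rw [Finset.sum_insert hi, Finset.sum_insert hi, Helper13.hermForm_add_right hF,
      Helper13.hermForm_smul_right, ih]

/-- a linear map preserving the form on a spanning family preserves it everywhere -/
theorem pre_preserves (hF : Fintype.card F = q ^ 2) {ι : Type} [Fintype ι]
    (B : Module.Basis ι F (Fin n → F)) (L : (Fin n → F) →ₗ[F] (Fin n → F))
    (hL : ∀ i j, hh (L (B i)) (L (B j)) = hh (B i) (B j)) (u v : Fin n → F) :
    hh (L u) (L v) = hh u v := by
  have hu : u = ∑ i, B.repr u i • B i := (B.sum_repr u).symm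
  have hv : v = ∑ j, B.repr v j • B j := (B.sum_repr v).symm
  have hLu : L u = ∑ i, B.repr u i • L (B i) := by
    conv_lhs => rw [hu]
    rw [map_sum]
    simp only [map_smul]
  have hLv : L v = ∑ j, B.repr v j • L (B j) := by
    conv_lhs => rw [hv]
    rw [map_sum]
    simp only [map_smul]
  rw [hLu, hLv]
  conv_rhs => rw [hu, hv]
  rw [pre_sum_left, pre_sum_left]
  apply Finset.sum_congr rfl
  intro i _
  rw [pre_sum_right hF, pre_sum_right hF]
  congr 1
  apply Finset.sum_congr rfl
  intro j _
  rw [hL]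

theorem exists_suGL_of_basis (hF : Fintype.card F = q ^ 2) {ι : Type} [Fintype ι] [DecidableEq ι]
    (b : ι → (Fin n → F)) (hb : LinearIndependent F b) (hcard : Fintype.card ι = n)
    (X : Matrix ι ι F) (hdet : X.det = 1)
    (hX : ∀ i j, hh (∑ k, X k i • b k) (∑ k, X k j • b k) = hh (b i) (b j)) :
    ∃ g : GL (Fin n) F, g ∈ suGL (F := F) n q ∧
      ∀ j, (g : Matrix (Fin n) (Fin n) F) *ᵥ b j = ∑ k, X k j • b k := by
  have hspan : Submodule.span F (Set.range b) = ⊤ :=
    hb.span_eq_top_of_card_eq_finrank' (by rw [hcard]; simp)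
  let B : Module.Basis ι F (Fin n → F) := Module.Basis.mk hb hspan.ge
  have hB : ∀ i, B i = b i := fun i => Module.Basis.mk_apply hb hspan.ge i
  have hunit : IsUnit X.det := by rw [hdet]; exact isUnit_one
  let e : (Fin n → F) ≃ₗ[F] (Fin n → F) := Matrix.toLinearEquiv B X hunit
  have he : ∀ x, e x = Matrix.toLin B B X x := fun x => rfl
  have heb : ∀ j, e (b j) = ∑ k, X k j • b k := by
    intro j
    rw [he, ← hB j, Matrix.toLin_self]
    simp only [hB]
  refine ⟨glOfEquiv' e, Subgroup.mem_inf.mpr ⟨?_, ?_⟩, ?_⟩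
  · rw [Helper13.mem_GU_iff]
    intro u v
    rw [glOfEquiv'_mulVec, glOfEquiv'_mulVec]
    have := pre_preserves hF B e.toLinearMap (by
      intro i j
      simp only [LinearEquiv.coe_coe, hB, heb]
      exact hX i j) u v
    simpa using this
  · rw [mem_specialLinear_iff]
    show (LinearMap.toMatrix' e.toLinearMap).det = 1
    rw [LinearMap.det_toMatrix']
    have : e.toLinearMap = Matrix.toLin B B X := rfl
    rw [this, LinearMap.det_toLin, hdet]
  · intro j
    rw [glOfEquiv'_mulVec, heb]

end Cfsg.Agent.Lib.Helper90.Psu
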