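import Cfsg.Agent.Lib.Helper22.FStar

/-! # S2924 "Oc hive" (owner helper22), leaf OC3c (helper97)

If the involution `z` inverts the odd-order `N ⊴ H` and `C_H(z)` has no components, then `C_{H/N}(zN)` has no
components: `C_H(z) → C_{H/N}(zN)` is an isomorphism.  Injective: `C_N(z) = 1` (`n = n⁻¹`, `N` odd).  Surjective
(inline, no OC4a needed since `z` inverts `N`): if `[z, h] = n ∈ N` take the square root `m` of `n` in `N`; then
`m h ∈ C_H(z)`. -/

set_option autoImplicit false
open Cfsg Subgroup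

namespace Cfsg.Agent.Lib.Helper97.Oc3c

universe u

/-- square roots in a subgroup of odd order -/
theorem oc3c_sqrt {H : Type u} [Group H] (N : Subgroup H) [Finite N] (hN : Odd (Nat.card N)) (n : H) (hn : n ∈ N) :
    ∃ m ∈ N, m * m = n := by
  obtain ⟨k, hk⟩ := hN
  refine ⟨n ^ (k + 1), pow_mem hn _, ?_⟩
  have h1 : (⟨n, hn⟩ : ↥N) ^ Nat.card ↥N = 1 := pow_card_eq_one'
  have h2 : n ^ (2 * k + 1) = 1 := by
    have := congrArg (fun x : ↥N => (x : H)) h1
    simpa [hk] using this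
  rw [← pow_add]
  have : k + 1 + (k + 1) = (2 * k + 1) + 1 := by ring
  rw [this, pow_succ, h2, one_mul]

/-- an element of odd order subgroup equal to its inverse is trivial -/
theorem oc3c_eq_one {H : Type u} [Group H] (N : Subgroup H) [Finite N] (hN : Odd (Nat.card N)) (n : H) (hn : n ∈ N)
    (h : n = n⁻¹) : n = 1 := by
  obtain ⟨k, hk⟩ := hN
  have h1 : (⟨n, hn⟩ : ↥N) ^ Nat.card ↥N = 1 := pow_card_eq_one'
  have h2 : n ^ (2 * k + 1) = 1 := by
    have := congrArg (fun x : ↥N => (x : H)) h1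
    simpa [hk] using this
  have h3 : n * n = 1 := by
    nth_rewrite 2 [h]
    exact mul_inv_cancel n
  have h4 : n ^ (2 * k) = 1 := by
    rw [pow_mul, pow_two, h3, one_pow]
  rwa [pow_succ, h4, one_mul] at h2

/-- OC3c. If the involution `z` inverts the odd-order `N ⊴ H` and `C_H(z)` has no components,
then `C_{H/N}(zN)` has no components. -/
theorem oc3c {H : Type u} [Group H] [Finite H] (N : Subgroup H) [N.Normal] (hN : Odd (Nat.card N))
    (z : H) (hz2 : z ^ 2 = 1) (hinv : ∀ n ∈ N, z * n * z⁻¹ = n⁻¹)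
    (hEz : layer ↥(centralizer ({z} : Set H)) = ⊥) :
    layer ↥(centralizer ({(QuotientGroup.mk z : H ⧸ N)} : Set (H ⧸ N))) = ⊥ := by
  have hmemC : ∀ c : H, c ∈ centralizer ({z} : Set H) ↔ z * c = c * z := by
    intro c
    rw [Subgroup.mem_centralizer_iff]
    constructor
    · intro h; exact h z rfl
    · intro h y hy
      rw [Set.mem_singleton_iff] at hy
      rw [hy]; exact h
  have hmemCb : ∀ q : H ⧸ N, q ∈ centralizer ({(QuotientGroup.mk z : H ⧸ N)} : Set (H ⧸ N)) ↔
      (QuotientGroup.mk z : H ⧸ N) * q = q * (QuotientGroup.mk z : H ⧸ N) := by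
    intro q
    rw [Subgroup.mem_centralizer_iff]
    constructor
    · intro h; exact h _ rfl
    · intro h y hy
      rw [Set.mem_singleton_iff] at hy
      rw [hy]; exact h
  let ψ : ↥(centralizer ({z} : Set H)) →* ↥(centralizer ({(QuotientGroup.mk z : H ⧸ N)} : Set (H ⧸ N))) :=
    { toFun := fun c => ⟨(QuotientGroup.mk (c : H) : H ⧸ N), by
        rw [hmemCb, ← QuotientGroup.mk_mul, ← QuotientGroup.mk_mul, (hmemC c).1 c.2]⟩
      map_one' := by
        apply Subtype.ext
        simp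
      map_mul' := by
        intro x y
        apply Subtype.ext
        simp }
  have hψapp : ∀ c, ((ψ c : ↥(centralizer ({(QuotientGroup.mk z : H ⧸ N)} : Set (H ⧸ N)))) : H ⧸ N) =
      QuotientGroup.mk (c : H) := fun c => rfl
  have hinj : Function.Injective ψ := by
    rw [injective_iff_map_eq_one]
    intro c hc
    have h1 : (QuotientGroup.mk (c : H) : H ⧸ N) = 1 := by
      rw [← hψapp, hc]; rfl
    have hcN : (c : H) ∈ N := (QuotientGroup.eq_one_iff _).1 h1
    have hcz : z * (c : H) = (c : H) * z := (hmemC c).1 c.2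
    have h2 : (c : H) = (c : H)⁻¹ := by
      rw [← hinv _ hcN, hcz, mul_inv_cancel_right]
    apply Subtype.ext
    exact oc3c_eq_one N hN _ hcN h2
  have hsurj : Function.Surjective ψ := by
    rintro ⟨q, hq⟩
    obtain ⟨h, rfl⟩ := QuotientGroup.mk_surjective q
    rw [hmemCb, ← QuotientGroup.mk_mul, ← QuotientGroup.mk_mul] at hq
    -- n := z h z⁻¹ h⁻¹ ∈ N
    have hnN : z * h * z⁻¹ * h⁻¹ ∈ N := by
      have h1 : (QuotientGroup.mk (z * h * z⁻¹ * h⁻¹) : H ⧸ N) = 1 := by
        have : z * h * z⁻¹ * h⁻¹ = (z * h) * (h * z)⁻¹ := by group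
        rw [this, QuotientGroup.mk_mul, QuotientGroup.mk_inv, hq, mul_inv_cancel]
      exact (QuotientGroup.eq_one_iff _).1 h1
    obtain ⟨m, hmN, hmm⟩ := oc3c_sqrt N hN _ hnN
    have hzm : z * m * z⁻¹ = m⁻¹ := hinv m hmN
    have hcomm : z * (m * h) = (m * h) * z := by
      have e1 : z * (m * h) * z⁻¹ = (z * m * z⁻¹) * (z * h * z⁻¹ * h⁻¹) * h := by group
      have e2 : z * (m * h) * z⁻¹ = m * h := by
        rw [e1, hzm, ← hmm]; group
      calc z * (m * h) = (z * (m * h) * z⁻¹) * z := by group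
        _ = (m * h) * z := by rw [e2]
    refine ⟨⟨m * h, (hmemC _).2 hcomm⟩, ?_⟩
    apply Subtype.ext
    rw [hψapp]
    change (QuotientGroup.mk (m * h) : H ⧸ N) = QuotientGroup.mk h
    rw [QuotientGroup.mk_mul, (QuotientGroup.eq_one_iff m).2 hmN, one_mul]
  let e : ↥(centralizer ({z} : Set H)) ≃* ↥(centralizer ({(QuotientGroup.mk z : H ⧸ N)} : Set (H ⧸ N))) :=
    MulEquiv.ofBijective ψ ⟨hinj, hsurj⟩
  rw [← Cfsg.Agent.Lib.Helper22.layer_map_equiv e, hEz, Subgroup.map_bot]

end Cfsg.Agent.Lib.Helper97.Oc3c
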