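import Cfsg.Agent.Lib.Helper37.G2zDefs
import Cfsg.Agent.Lib.Helper36.ChevTwTorus

/-! # G2z mini-hive (S4279; architect helper37): leaf G2Z-H0LE (helper97)

`H0 ≤ LL`: for `f 0 = v ^ 2` one has `torusHom f = h_9(v) * h_6(f 1 / v ^ 3)` with `h_9(v) ∈ L2`, `h_6(w) ∈ L1`. -/

set_option autoImplicit false

namespace Cfsg.Agent.Lib.Helper37.G2z

open Cfsg Cfsg.Lie Cfsg.Agent.Lib.Helper36 Cfsg.Agent.Lib.Helper20.G2c Cfsg.Agent.Lib.Helper18

variable (F : Type*) [Field F]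

theorem g2zh0le_h6_mem (c : F) : hGL chevG2 hG2 F 6 c ∈ L1 F := by
  unfold hGL
  apply wordGL_mem
  intro p hp
  have hneg : chevG2.neg 6 = 5 := by decide
  simp only [ChevalleyDatum.hWord, ChevalleyDatum.nWord, hneg, List.cons_append, List.nil_append,
    List.mem_cons, List.not_mem_nil, or_false] at hp
  rcases hp with rfl | rfl | rfl | rfl | rfl | rfl
  · exact (le_sup_left : chevG2.rootSubgroup F 6 ≤ L1 F) (mem_rootSubgroup chevG2 hG2 F 6 _)
  · exact (le_sup_right : chevG2.rootSubgroup F 5 ≤ L1 F) (mem_rootSubgroup chevG2 hG2 F 5 _)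
  · exact (le_sup_left : chevG2.rootSubgroup F 6 ≤ L1 F) (mem_rootSubgroup chevG2 hG2 F 6 _)
  · exact (le_sup_left : chevG2.rootSubgroup F 6 ≤ L1 F) (mem_rootSubgroup chevG2 hG2 F 6 _)
  · exact (le_sup_right : chevG2.rootSubgroup F 5 ≤ L1 F) (mem_rootSubgroup chevG2 hG2 F 5 _)
  · exact (le_sup_left : chevG2.rootSubgroup F 6 ≤ L1 F) (mem_rootSubgroup chevG2 hG2 F 6 _)

theorem g2zh0le_h9_mem (c : F) : hGL chevG2 hG2 F 9 c ∈ L2 F := by
  unfold hGL
  apply wordGL_mem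
  intro p hp
  have hneg : chevG2.neg 9 = 2 := by decide
  simp only [ChevalleyDatum.hWord, ChevalleyDatum.nWord, hneg, List.cons_append, List.nil_append,
    List.mem_cons, List.not_mem_nil, or_false] at hp
  rcases hp with rfl | rfl | rfl | rfl | rfl | rfl
  · exact (le_sup_left : chevG2.rootSubgroup F 9 ≤ L2 F) (mem_rootSubgroup chevG2 hG2 F 9 _)
  · exact (le_sup_right : chevG2.rootSubgroup F 2 ≤ L2 F) (mem_rootSubgroup chevG2 hG2 F 2 _)
  · exact (le_sup_left : chevG2.rootSubgroup F 9 ≤ L2 F) (mem_rootSubgroup chevG2 hG2 F 9 _)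
  · exact (le_sup_left : chevG2.rootSubgroup F 9 ≤ L2 F) (mem_rootSubgroup chevG2 hG2 F 9 _)
  · exact (le_sup_right : chevG2.rootSubgroup F 2 ≤ L2 F) (mem_rootSubgroup chevG2 hG2 F 2 _)
  · exact (le_sup_left : chevG2.rootSubgroup F 9 ≤ L2 F) (mem_rootSubgroup chevG2 hG2 F 9 _)

theorem g2zh0le_cor : cor chevG2 9 0 = 2 ∧ cor chevG2 9 1 = 3 ∧ cor chevG2 6 0 = 0 ∧ cor chevG2 6 1 = 1 := by
  decide

theorem g2zh0le_fin (k : Fin chevG2.rank) : k.val = 0 ∨ k.val = 1 := by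
  have h : chevG2.rank = 2 := by decide
  have := k.isLt
  omega

/-- G2Z-H0LE -/
theorem H0_le_LL : H0 F ≤ LL F := by
  rintro x ⟨f, hf, rfl⟩
  obtain ⟨v, hv⟩ := hf
  have hv' : v ^ 2 = f ⟨0, by decide⟩ := hv
  obtain ⟨c90, c91, c60, c61⟩ := g2zh0le_cor
  have e : f = (fun k : Fin chevG2.rank => v ^ cor chevG2 9 k.val) *
      (fun k : Fin chevG2.rank => (f ⟨1, by decide⟩ * (v ^ 3)⁻¹) ^ cor chevG2 6 k.val) := by
    funext k
    rcases g2zh0le_fin k with hk | hk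
    · have hk' : k = ⟨0, by decide⟩ := Fin.ext hk
      subst hk'
      simp only [Pi.mul_apply, c90, c60, zpow_zero, mul_one]
      rw [← hv']
      exact (zpow_natCast v 2).symm
    · have hk' : k = ⟨1, by decide⟩ := Fin.ext hk
      subst hk'
      simp only [Pi.mul_apply, c91, c61, zpow_one]
      have : v ^ (3 : ℤ) = v ^ (3 : ℕ) := zpow_natCast v 3
      rw [this, mul_comm, inv_mul_cancel_right]
  rw [e, map_mul, ← hGL_eq_torusHom chevG2 hG2 F 9 (by decide) v,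
    ← hGL_eq_torusHom chevG2 hG2 F 6 (by decide) (f ⟨1, by decide⟩ * (v ^ 3)⁻¹)]
  exact mul_mem ((le_sup_right : L2 F ≤ LL F) (g2zh0le_h9_mem F _))
    ((le_sup_left : L1 F ≤ LL F) (g2zh0le_h6_mem F _))

end Cfsg.Agent.Lib.Helper37.G2z
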