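import Cfsg.Agent.Lib.Helper37.GtDefs

/-! GT-R1 leaf of the Gt hive (S2734): additivity of the `G₂` root elements inside `O₈⁺(F)`. -/

set_option autoImplicit false
set_option linter.unusedSectionVars false
set_option linter.unusedVariables false

namespace Cfsg.Agent.Lib.Helper37.Gt

open Matrix Module QuadraticMap
open Cfsg.Agent.Lib.Helper8 Cfsg.Agent.Lib.Helper13 Cfsg.Agent.Lib.Helper37 Cfsg.Agent.Lib.Helper37.D4O8

variable {F : Type*} [Field F]

theorem r1_add_2 (t u : F) : Yn 2 t * Yn 2 u = Yn 2 (t + u) := by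
  simp only [Yn_2]
  apply reflElt_ext
  intro x
  simp only [act_mul]
  simp only [act_X2, act_X6, act_X3]
  apply ext8 <;> simp <;> ring

theorem r1_add_3 (t u : F) : Yn 3 t * Yn 3 u = Yn 3 (t + u) := by
  simp only [Yn_3]
  apply reflElt_ext
  intro x
  simp only [act_mul]
  simp only [act_X4, act_X7, act_X8]
  apply ext8 <;> simp <;> ring

theorem r1_add_4 (t u : F) : Yn 4 t * Yn 4 u = Yn 4 (t + u) := by
  simp only [Yn_4]
  apply reflElt_ext
  intro x
  simp only [act_mul]
  simp only [act_X5, act_X10, act_X11]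
  apply ext8 <;> simp <;> ring

theorem r1_add_7 (t u : F) : Yn 7 t * Yn 7 u = Yn 7 (t + u) := by
  simp only [Yn_7]
  apply reflElt_ext
  intro x
  simp only [act_mul]
  simp only [act_X12, act_X13, act_X18]
  apply ext8 <;> simp <;> ring

theorem r1_add_8 (t u : F) : Yn 8 t * Yn 8 u = Yn 8 (t + u) := by
  simp only [Yn_8]
  apply reflElt_ext
  intro x
  simp only [act_mul]
  simp only [act_X15, act_X19, act_X16]
  apply ext8 <;> simp <;> ring

theorem r1_add_9 (t u : F) : Yn 9 t * Yn 9 u = Yn 9 (t + u) := by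
  simp only [Yn_9]
  apply reflElt_ext
  intro x
  simp only [act_mul]
  simp only [act_X17, act_X20, act_X21]
  apply ext8 <;> simp <;> ring

theorem Yn_add (s : ℕ) (t u : F) : Yn s t * Yn s u = Yn s (t + u) := by
  by_cases h : s < 12
  · interval_cases s
    · rw [Yn_0, Yn_0, Yn_0, X_add, neg_add]
    · rw [Yn_1, Yn_1, Yn_1, X_add, neg_add]
    · exact r1_add_2 t u
    · exact r1_add_3 t u
    · exact r1_add_4 t u
    · rw [Yn_5, Yn_5, Yn_5, X_add]
    · rw [Yn_6, Yn_6, Yn_6, X_add]
    · exact r1_add_7 t u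
    · exact r1_add_8 t u
    · exact r1_add_9 t u
    · rw [Yn_10, Yn_10, Yn_10, X_add, neg_add]
    · rw [Yn_11, Yn_11, Yn_11, X_add, neg_add]
  · rw [Yn_of_ge (by omega), Yn_of_ge (by omega), Yn_of_ge (by omega), mul_one]

end Cfsg.Agent.Lib.Helper37.Gt
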