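import Cfsg.Agent.Lib.Helper76.E8mDefs

/-! E-CAN leaf of the E8m hive (S2107), core: `ff_dec` with `move_prod` (E-MOVE2) and `ff_symm` (E-FF)
taken as hypotheses. -/

set_option autoImplicit false

universe u

namespace Cfsg.Agent.Lib.Helper76.E8m

open Cfsg Cfsg.Lie Cfsg.Agent.Lib.Helper39.Sm
open scoped commutatorElement

section A
variable {D : ChevalleyDatum} {dec : ℕ → ℕ × ℕ} {K : Type*} [Field K] {G : Type*} [Group G]
  {Y : Type*} [Group Y] (S : SLSys D K G) (φ : Y →* G) (hφ : Function.Surjective φ)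

/-- `ff_dec` from the statements of `move_prod` and `ff_symm` -/
theorem can_core (T : Tab D dec)
    (hmp : ∀ {p q r pq qr e : ℕ}, A3 D p q r pq qr e → ∀ (t U : K),
      ff S φ hφ p qr t U = ff S φ hφ p qr 1 (t * U))
    (hsymm : ∀ (a b : ℕ) (t u : K), ff S φ hφ b a u t = (ff S φ hφ a b t u)⁻¹)
    {e : ℕ} (he : e < D.nroots) (t u : K) :
    ff S φ hφ (dec e).1 (dec e).2 t u = ff S φ hφ (dec e).1 (dec e).2 1 (t * u) := by
  obtain ⟨a, b, hab, hn1, hn2⟩ := T.dc.aux e he
  rcases T.conn a b e hab with h | h | h | h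
  · exact absurd h hn1
  · exact absurd h hn2
  · exact hmp h t u
  · -- `(p, qr) = (d, c)`
    have key : ∀ t U : K, ff S φ hφ (dec e).1 (dec e).2 U t
        = ff S φ hφ (dec e).1 (dec e).2 (t * U) 1 := by
      intro t U
      rw [hsymm (dec e).2 (dec e).1 t U, hmp h t U, ← hsymm (dec e).2 (dec e).1 1 (t * U)]
    have h1 : ∀ V : K, ff S φ hφ (dec e).1 (dec e).2 1 V = ff S φ hφ (dec e).1 (dec e).2 V 1 := by
      intro V
      have := key V 1
      rwa [mul_one] at this
    rw [key u t, h1 (t * u), mul_comm u t]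

end A

end Cfsg.Agent.Lib.Helper76.E8m
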