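import Cfsg.Agent.Lib.Helper76.E8mDefs
import Cfsg.Agent.Lib.Helper97.E8m_CANcore
import Cfsg.Agent.Lib.Helper24.E8m_FF
import Cfsg.Agent.Lib.Helper11.E8m_MOVE
import Cfsg.Agent.Lib.Helper33.E8m_MOVE2core

/-! E-CAN leaf of the E8m hive (S2107): `ff_dec`, from `can_core` with `move` (E-MOVE), the `move_prod` core
(E-MOVE2) and `ff_symm` (E-FF). -/

set_option autoImplicit false

universe u

namespace Cfsg.Agent.Lib.Helper76.E8m

open Cfsg Cfsg.Lie Cfsg.Agent.Lib.Helper39.Sm
open scoped commutatorElement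

section A
variable {D : ChevalleyDatum} {dec : ℕ → ℕ × ℕ} {K : Type*} [Field K] {G : Type*} [Group G]
  {Y : Type*} [Group Y] (S : SLSys D K G) (φ : Y →* G) (hφ : Function.Surjective φ)

theorem ff_dec (T : Tab D dec) (hc : φ.ker ≤ Subgroup.center Y) (hL : LAp S φ) {e : ℕ}
    (he : e < D.nroots) (t u : K) :
    ff S φ hφ (dec e).1 (dec e).2 t u = ff S φ hφ (dec e).1 (dec e).2 1 (t * u) :=
  can_core S φ hφ T
    (fun h t U => move2_prod_core S φ hφ T.basic h (fun t s w => move S φ hφ hc hL h t s w) t U)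
    (ff_symm S φ hφ) he t u

end A

end Cfsg.Agent.Lib.Helper76.E8m
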