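import Cfsg.Agent.Lib.Helper76.E8mDefs
import Cfsg.Agent.Lib.Helper2.SmCC

/-! E-LA leaf of the E8m hive (S2107): lifts of commuting root elements commute. -/

set_option autoImplicit false

universe u

namespace Cfsg.Agent.Lib.Helper76.E8m

open Cfsg Cfsg.Lie Cfsg.Agent.Lib.Helper39.Sm
open scoped commutatorElement

section A
variable {D : ChevalleyDatum} {dec : ℕ → ℕ × ℕ} {K : Type*} [Field K] {G : Type*} [Group G]
  {Y : Type*} [Group Y] (S : SLSys D K G) (φ : Y →* G) (hφ : Function.Surjective φ)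

/-- the sign squares to one -/
theorem la_ep_mul (hB : TabBasic D) {c d a : ℕ} (h : sm D c d = some a) (t : K) :
    ((ep D c d : ℤ) : K) * 1 * (((ep D c d : ℤ) : K) * t) = t := by
  rcases hB.ep_sq c d a h with h1 | h1 <;> rw [h1] <;> simp

theorem la (hB : TabBasic D) (hLA : TabLA D) (hφ : Function.Surjective φ)
    (hc : φ.ker ≤ Subgroup.center Y) : LAp S φ := by
  intro a b hab t u y z hy hz
  obtain ⟨c, d, hsm, hbc, hbd⟩ := hLA a b hab
  obtain ⟨y₁, hy₁⟩ := hφ (S.X c 1)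
  obtain ⟨y₂, hy₂⟩ := hφ (S.X d (((ep D c d : ℤ) : K) * t))
  have h1 : φ z * φ y₁ = φ y₁ * φ z := by
    rw [hz, hy₁]
    exact (S.X_cm b c hbc u 1).eq
  have h2 : φ z * φ y₂ = φ y₂ * φ z := by
    rw [hz, hy₂]
    exact (S.X_cm b d hbd u _).eq
  have h3 := Cfsg.Agent.Lib.Helper39.Sm.cc_commute_comm φ hc h1 h2
  have h4 : φ (y₁ * y₂ * y₁⁻¹ * y₂⁻¹) = φ y := by
    rw [map_mul, map_mul, map_mul, map_inv, map_inv, hy₁, hy₂, hy, ← commutatorElement_def,
      S.X_sum c d a hsm, la_ep_mul hB hsm]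
  exact Cfsg.Agent.Lib.Helper39.Sm.cc_commute_lift φ hc h4 h3

end A

end Cfsg.Agent.Lib.Helper76.E8m
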