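import Cfsg.Agent.Lib.Helper41.StnDefs

/-! # Stn hive (S2401, helper41): cores of the leaves STN-W-HH and STN-H-REL (helper97),
with the leaves they depend on as hypotheses. -/

set_option autoImplicit false

namespace Cfsg.Agent.Lib.Helper41.Stn

open Matrix

variable {K : Type*} [Field K] {n : ℕ}

/-- core of STN-W-HH, from the statements of `ww_inv` and `ww_conj_ww` -/
theorem whh_core
    (hinv : ∀ (i j : Fin n) (t : K), (ww i j t)⁻¹ = ww i j (-t))
    (hww : ∀ {i j : Fin n}, i ≠ j → ∀ {t : K}, t ≠ 0 → ∀ {k l : Fin n}, k ≠ l → ∀ {u : K}, u ≠ 0 →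
      ww i j t * ww k l u * (ww i j t)⁻¹ =
        ww (Equiv.swap i j k) (Equiv.swap i j l) (mu i j t k / mu i j t l * u))
    {i j : Fin n} (hij : i ≠ j) {t : K} (ht : t ≠ 0) {k l : Fin n}
    (hkl : k ≠ l) {u : K} (hu : u ≠ 0) :
    ww i j t * hh k l u * (ww i j t)⁻¹ =
      hh (Equiv.swap i j k) (Equiv.swap i j l) (mu i j t k / mu i j t l * u) *
        (hh (Equiv.swap i j k) (Equiv.swap i j l) (mu i j t k / mu i j t l))⁻¹ := by
  have h1 := hww hij ht hkl hu
  have h2 := hww hij ht hkl (u := (-1 : K)) (neg_ne_zero.mpr one_ne_zero)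
  rw [mul_neg_one] at h2
  have hL : ww i j t * hh k l u * (ww i j t)⁻¹ =
      (ww i j t * ww k l u * (ww i j t)⁻¹) * (ww i j t * ww k l (-1) * (ww i j t)⁻¹) := by
    unfold hh
    group
  rw [hL, h1, h2, ← hinv (Equiv.swap i j k) (Equiv.swap i j l) (mu i j t k / mu i j t l)]
  unfold hh
  group

/-- core of STN-H-REL, from the statements of `ww_inv`, `hh_one`, `ww_conj_hh`, `hh_conj_ww` -/
theorem hrel_core
    (hinv : ∀ (i j : Fin n) (t : K), (ww i j t)⁻¹ = ww i j (-t))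
    (hone : ∀ (i j : Fin n), hh i j (1 : K) = 1)
    (hwhh : ∀ {i j : Fin n}, i ≠ j → ∀ {t : K}, t ≠ 0 → ∀ {k l : Fin n}, k ≠ l → ∀ {u : K}, u ≠ 0 →
      ww i j t * hh k l u * (ww i j t)⁻¹ =
        hh (Equiv.swap i j k) (Equiv.swap i j l) (mu i j t k / mu i j t l * u) *
          (hh (Equiv.swap i j k) (Equiv.swap i j l) (mu i j t k / mu i j t l))⁻¹)
    (hhww : ∀ {i j : Fin n}, i ≠ j → ∀ {t : K}, t ≠ 0 → ∀ {k l : Fin n}, k ≠ l → ∀ {u : K}, u ≠ 0 →
      hh i j t * ww k l u * (hh i j t)⁻¹ = ww k l (dd i j t k / dd i j t l * u))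
    {i j l : Fin n} (hij : i ≠ j) (hjl : j ≠ l) (hil : i ≠ l) {t : K}
    (ht : t ≠ 0) : hh i l t = hh j l t * hh i j t := by
  have hA := hwhh hij (t := (1 : K)) one_ne_zero hjl ht
  have hmuj : mu i j (1 : K) j = 1 := by
    unfold mu
    rw [if_neg hij.symm, if_pos rfl]
  have hmul : mu i j (1 : K) l = 1 := by
    unfold mu
    rw [if_neg hil.symm, if_neg hjl.symm]
  rw [Equiv.swap_apply_right, Equiv.swap_apply_of_ne_of_ne hil.symm hjl.symm, hmuj, hmul,
    div_one, one_mul, hone, inv_one, mul_one] at hA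
  have hB := hhww hjl ht hij ht
  have hddi : dd j l t i = 1 := by
    unfold dd
    rw [if_neg hij, if_neg hil]
  have hddj : dd j l t j = t := by
    unfold dd
    rw [if_pos rfl]
  rw [hddi, hddj, one_div, inv_mul_cancel₀ ht] at hB
  have hC : hh i j t = ww i j t * (ww i j 1)⁻¹ := by
    unfold hh
    rw [hinv]
  rw [hC, ← hA, ← hB]
  group

end Cfsg.Agent.Lib.Helper41.Stn
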