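import Mathlib
import Cfsg.Agent.Lib.Helper67.OgDefs
import Cfsg.Agent.Lib.Helper67.OgFam
import Cfsg.Agent.Lib.Helper37.OrthMinus
import Cfsg.Agent.Lib.Helper43.OrthCardMinus
import Cfsg.Agent.Lib.Helper39.SLPerfect

/-! # Og hive (S2413 / S2414 / S2415, helper67), LEAF OG-LTV (helper97): `levi_transvection`. -/

set_option autoImplicit false
set_option linter.unusedSectionVars false
set_option linter.unusedVariables false

namespace Cfsg.Agent.Lib.Helper67.Og

open Matrix Module QuadraticMap
open Cfsg.Agent.Lib.Helper37 Cfsg.Agent.Lib.Helper8 Cfsg.Agent.Lib.Helper43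
open Cfsg.Agent.Lib.Helper37.OrthField
open scoped commutatorElement

section abstract

variable {ι : Type} [Fintype ι] [DecidableEq ι] {F : Type*} [Field F]
variable (Q : QuadraticForm F (ι → F)) (hQ : (QuadraticMap.polarBilin Q).Nondegenerate)
variable {k : ℕ} {e f : Fin k → ι → F}
variable {L : Matrix.SpecialLinearGroup (Fin k) F →* ↥(Cfsg.isometryGroup F ⇑Q)}

theorem ltv_act_Ee {u v : ι → F} (hu : Q u = 0) (huv : polar ⇑Q u v = 0) (x : ι → F) :
    act Q (Ee Q hQ u v) x
      = x + polar ⇑Q u x • v - polar ⇑Q v x • u - (Q v * polar ⇑Q u x) • u := by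
  unfold act
  rw [Ee_eq Q hQ hu huv, eichlerElt_mulVec]

theorem ltv_act_lin (g : ↥(Cfsg.isometryGroup F ⇑Q)) (x : ι → F) :
    act Q g x = Matrix.mulVecLin ((g : Matrix.GeneralLinearGroup ι F) : Matrix ι ι F) x := rfl

theorem ltv_wpart_inW (h : HypFam Q k e f) (x : ι → F) : InW Q e f (Wpart Q e f x) := by
  intro i
  unfold Wpart
  constructor
  · rw [polar_sub_right]
    have : polar ⇑Q (e i) (∑ l, (polar ⇑Q (f l) x • e l + polar ⇑Q (e l) x • f l))
        = polar ⇑Q (e i) x := by
      have hlin : ∀ y, polar ⇑Q (e i) y = (QuadraticMap.polarBilin Q (e i)) y := fun y => rfl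
      rw [hlin, map_sum]
      simp only [map_add, map_smul]
      simp only [← hlin]
      simp only [h.ee, h.ef, smul_eq_mul, mul_zero, zero_add, mul_ite, mul_one]
      rw [Finset.sum_ite_eq Finset.univ i]
      simp
    rw [this, sub_self]
  · rw [polar_sub_right]
    have : polar ⇑Q (f i) (∑ l, (polar ⇑Q (f l) x • e l + polar ⇑Q (e l) x • f l))
        = polar ⇑Q (f i) x := by
      have hlin : ∀ y, polar ⇑Q (f i) y = (QuadraticMap.polarBilin Q (f i)) y := fun y => rfl
      have hfe : ∀ l, polar ⇑Q (f i) (e l) = if l = i then 1 else 0 := fun l => by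
        rw [polar_comm, h.ef]
      rw [hlin, map_sum]
      simp only [map_add, map_smul]
      simp only [← hlin]
      simp only [h.ff, hfe, smul_eq_mul, mul_zero, add_zero, mul_ite, mul_one]
      rw [Finset.sum_ite_eq' Finset.univ i]
      simp
    rw [this, sub_self]

theorem ltv_iso_ext (h : HypFam Q k e f) (g g' : ↥(Cfsg.isometryGroup F ⇑Q))
    (he : ∀ i, act Q g (e i) = act Q g' (e i)) (hf : ∀ i, act Q g (f i) = act Q g' (f i))
    (hw : ∀ w, InW Q e f w → act Q g w = act Q g' w) : g = g' := by
  apply reflElt_ext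
  intro x
  have hx : x = ∑ i, (polar ⇑Q (f i) x • e i + polar ⇑Q (e i) x • f i) + Wpart Q e f x := by
    unfold Wpart; abel
  have key : ∀ g₀ : ↥(Cfsg.isometryGroup F ⇑Q), act Q g₀ x =
      ∑ i, (polar ⇑Q (f i) x • act Q g₀ (e i) + polar ⇑Q (e i) x • act Q g₀ (f i)) +
        act Q g₀ (Wpart Q e f x) := by
    intro g₀
    conv_lhs => rw [hx]
    simp only [ltv_act_lin, map_add, map_sum, map_smul]
  rw [key g, key g']
  simp only [he, hf, hw _ (ltv_wpart_inW Q h x)]

theorem ltv_transvection_inv {i j : Fin k} (hij : i ≠ j) (c : F) :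
    (Matrix.SpecialLinearGroup.transvection hij c)⁻¹ =
      Matrix.SpecialLinearGroup.transvection hij (-c) := by
  rw [inv_eq_iff_mul_eq_one]
  apply Subtype.ext
  rw [Matrix.SpecialLinearGroup.coe_mul]
  show Matrix.transvection i j c * Matrix.transvection i j (-c) = 1
  rw [Matrix.transvection_mul_transvection_same (h := hij), add_neg_cancel, Matrix.transvection_zero]

/-! ### OG-LTV : the Levi image of a transvection is an Eichler element -/

theorem levi_transvection (D : LeviData Q k e f L) {i j : Fin k} (hij : i ≠ j) (c : F) :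
    L (Matrix.SpecialLinearGroup.transvection hij c) = Ee Q hQ (e i) ((-c) • f j) := by
  have h := D.fam
  have hu : Q (e i) = 0 := h.qe i
  have huv : polar ⇑Q (e i) ((-c) • f j) = 0 := by
    rw [polar_smul_right, h.ef, if_neg hij, smul_zero]
  have hQv : Q ((-c) • f j) = 0 := by rw [QuadraticMap.map_smul, h.qf, smul_zero]
  apply ltv_iso_ext Q h
  · intro i'
    rw [D.act_e, ltv_act_Ee Q hQ hu huv, hQv, h.ee, polar_smul_left, polar_comm, h.ef]
    have hT : ∀ a b, ((Matrix.SpecialLinearGroup.transvection hij c : Matrix.SpecialLinearGroup (Fin k) F) :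
        Matrix (Fin k) (Fin k) F) a b = (if a = b then 1 else 0) + (if i = a ∧ j = b then c else 0) := by
      intro a b
      show (Matrix.transvection i j c) a b = _
      rw [Matrix.transvection, Matrix.add_apply, Matrix.one_apply, Matrix.single_apply]
    simp only [hT, add_smul, Finset.sum_add_distrib, ite_smul, one_smul, zero_smul]
    rw [Finset.sum_ite_eq' Finset.univ i']
    by_cases hji : j = i'
    · subst hji
      simp
    · have hji' : ¬ i' = j := fun hh => hji hh.symm
      simp [hji, hji']
  · intro i'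
    rw [D.act_f, ltv_act_Ee Q hQ hu huv, hQv, h.ef, polar_smul_left, h.ff, ltv_transvection_inv]
    have hT : ∀ a b, ((Matrix.SpecialLinearGroup.transvection hij (-c) : Matrix.SpecialLinearGroup (Fin k) F) :
        Matrix (Fin k) (Fin k) F) a b = (if a = b then 1 else 0) + (if i = a ∧ j = b then -c else 0) := by
      intro a b
      show (Matrix.transvection i j (-c)) a b = _
      rw [Matrix.transvection, Matrix.add_apply, Matrix.one_apply, Matrix.single_apply]
    simp only [hT, add_smul, Finset.sum_add_distrib, ite_smul, one_smul, zero_smul]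
    rw [Finset.sum_ite_eq Finset.univ i']
    by_cases hii : i = i'
    · subst hii
      simp
    · simp [hii]
  · intro w hw
    rw [D.act_w _ w hw, ltv_act_Ee Q hQ hu huv, (hw i).1, polar_smul_left, (hw j).2]
    simp

end abstract

end Cfsg.Agent.Lib.Helper67.Og
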