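import Mathlib
import Cfsg.Agent.Lib.Helper39.OoDefs

/-! # S2547 hive OO (helper39), LEAF GEN, core part (helper97): `closure S ⊔ (B ⊓ N) = N` from the leaves
MONO, WEYL, PERM taken as hypotheses. -/

set_option autoImplicit false

namespace Cfsg.Agent.Lib.Helper39.OoBN

open Matrix Cfsg

variable {F : Type*} [Field F] {m : ℕ}

theorem gen_simpleA_e0 (k k' : Fin m) : simpleA k k' (e0 : Idx m) = e0 := by
  unfold simpleA
  rw [Equiv.Perm.mul_apply,
    Equiv.swap_apply_of_ne_of_ne (a := yi k) (b := yi k') (x := e0) (by simp [e0, yi])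
      (by simp [e0, yi]),
    Equiv.swap_apply_of_ne_of_ne (a := xi k) (b := xi k') (x := e0) (by simp [e0, xi])
      (by simp [e0, xi])]

theorem gen_simpleB_e0 (k : Fin m) : simpleB k (e0 : Idx m) = e0 := by
  unfold simpleB
  rw [Equiv.swap_apply_of_ne_of_ne (a := xi k) (b := yi k) (x := e0) (by simp [e0, xi])
    (by simp [e0, yi])]

theorem gen_simpleA_bar (k k' : Fin m) (a : Idx m) :
    simpleA k k' (bar a) = bar (simpleA k k' a) := by
  unfold simpleA
  rcases a with u | i | i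
  · show (Equiv.swap (xi k) (xi k') * Equiv.swap (yi k) (yi k')) e0 =
      bar ((Equiv.swap (xi k) (xi k') * Equiv.swap (yi k) (yi k')) e0)
    have h := gen_simpleA_e0 k k'
    unfold simpleA at h
    rw [h, bar_e0]
  · show (Equiv.swap (xi k) (xi k') * Equiv.swap (yi k) (yi k')) (yi i) =
      bar ((Equiv.swap (xi k) (xi k') * Equiv.swap (yi k) (yi k')) (xi i))
    simp only [Equiv.Perm.mul_apply]
    rw [Equiv.swap_apply_of_ne_of_ne (a := yi k) (b := yi k') (x := xi i) (by simp [xi, yi])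
      (by simp [xi, yi])]
    by_cases h1 : i = k
    · subst h1
      rw [Equiv.swap_apply_left, Equiv.swap_apply_left, bar_xi,
        Equiv.swap_apply_of_ne_of_ne (by simp [xi, yi]) (by simp [xi, yi])]
    · by_cases h2 : i = k'
      · subst h2
        rw [Equiv.swap_apply_right, Equiv.swap_apply_right, bar_xi,
          Equiv.swap_apply_of_ne_of_ne (by simp [xi, yi]) (by simp [xi, yi])]
      · rw [Equiv.swap_apply_of_ne_of_ne (a := yi k) (b := yi k') (x := yi i)
          (by simpa [yi] using h1) (by simpa [yi] using h2),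
          Equiv.swap_apply_of_ne_of_ne (a := xi k) (b := xi k') (x := xi i)
          (by simpa [xi] using h1) (by simpa [xi] using h2), bar_xi,
          Equiv.swap_apply_of_ne_of_ne (by simp [xi, yi]) (by simp [xi, yi])]
  · show (Equiv.swap (xi k) (xi k') * Equiv.swap (yi k) (yi k')) (xi i) =
      bar ((Equiv.swap (xi k) (xi k') * Equiv.swap (yi k) (yi k')) (yi i))
    simp only [Equiv.Perm.mul_apply]
    rw [Equiv.swap_apply_of_ne_of_ne (a := yi k) (b := yi k') (x := xi i) (by simp [xi, yi])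
      (by simp [xi, yi])]
    by_cases h1 : i = k
    · subst h1
      rw [Equiv.swap_apply_left, Equiv.swap_apply_left,
        Equiv.swap_apply_of_ne_of_ne (by simp [xi, yi]) (by simp [xi, yi]), bar_yi]
    · by_cases h2 : i = k'
      · subst h2
        rw [Equiv.swap_apply_right, Equiv.swap_apply_right,
          Equiv.swap_apply_of_ne_of_ne (by simp [xi, yi]) (by simp [xi, yi]), bar_yi]
      · rw [Equiv.swap_apply_of_ne_of_ne (a := yi k) (b := yi k') (x := yi i)
          (by simpa [yi] using h1) (by simpa [yi] using h2),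
          Equiv.swap_apply_of_ne_of_ne (a := xi k) (b := xi k') (x := xi i)
          (by simpa [xi] using h1) (by simpa [xi] using h2),
          Equiv.swap_apply_of_ne_of_ne (by simp [xi, yi]) (by simp [xi, yi]), bar_yi]

theorem gen_simpleB_bar (k : Fin m) (a : Idx m) :
    simpleB k (bar a) = bar (simpleB k a) := by
  unfold simpleB
  rcases a with u | i | i
  · show Equiv.swap (xi k) (yi k) e0 = bar (Equiv.swap (xi k) (yi k) e0)
    have h := gen_simpleB_e0 k
    unfold simpleB at h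
    rw [h, bar_e0]
  · show Equiv.swap (xi k) (yi k) (yi i) = bar (Equiv.swap (xi k) (yi k) (xi i))
    by_cases h1 : i = k
    · subst h1
      rw [Equiv.swap_apply_left, Equiv.swap_apply_right, bar_yi]
    · rw [Equiv.swap_apply_of_ne_of_ne (by simp [xi, yi]) (by simpa [yi] using h1),
        Equiv.swap_apply_of_ne_of_ne (by simpa [xi] using h1) (by simp [xi, yi]), bar_xi]
  · show Equiv.swap (xi k) (yi k) (xi i) = bar (Equiv.swap (xi k) (yi k) (yi i))
    by_cases h1 : i = k
    · subst h1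
      rw [Equiv.swap_apply_left, Equiv.swap_apply_right, bar_xi]
    · rw [Equiv.swap_apply_of_ne_of_ne (by simpa [xi] using h1) (by simp [xi, yi]),
        Equiv.swap_apply_of_ne_of_ne (by simp [xi, yi]) (by simpa [yi] using h1), bar_yi]

theorem gen_isSimpleGen_e0 {σ : Equiv.Perm (Idx m)} (hσ : IsSimpleGen σ) : σ e0 = e0 := by
  rcases hσ with ⟨k, k', _, rfl⟩ | ⟨k, _, rfl⟩
  · exact gen_simpleA_e0 k k'
  · exact gen_simpleB_e0 k

theorem gen_isSimpleGen_bar {σ : Equiv.Perm (Idx m)} (hσ : IsSimpleGen σ) (a : Idx m) :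
    σ (bar a) = bar (σ a) := by
  rcases hσ with ⟨k, k', _, rfl⟩ | ⟨k, _, rfl⟩
  · exact gen_simpleA_bar k k' a
  · exact gen_simpleB_bar k a

theorem gen_S_subset_N : So F m ⊆ (No F m : Set (OG F m)) := by
  rintro g ⟨σ, _, hg⟩
  exact ⟨σ, _, hg ▸ permMat_isMonoG σ⟩

/-- every element of the closure of the simple generators is the permutation of an element of `closure S` -/
theorem gen_lift
    (hPERM : ∀ σ : Equiv.Perm (Idx m), σ e0 = e0 → (∀ a, σ (bar a) = bar (σ a)) →
      ∃ g : OG F m, mat g = permMat F σ)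
    {σ : Equiv.Perm (Idx m)}
    (hσ : σ ∈ Subgroup.closure {σ : Equiv.Perm (Idx m) | IsSimpleGen σ}) :
    ∃ w ∈ Subgroup.closure (So F m), ∃ e : Idx m → F, IsMonoG (mat w) σ e := by
  induction hσ using Subgroup.closure_induction with
  | mem σ hσ =>
    obtain ⟨g, hg⟩ := hPERM σ (gen_isSimpleGen_e0 hσ) (gen_isSimpleGen_bar hσ)
    exact ⟨g, Subgroup.subset_closure ⟨σ, hσ, hg⟩, _, hg ▸ permMat_isMonoG σ⟩
  | one => exact ⟨1, Subgroup.one_mem _, _, by rw [mat_one]; exact isMonoG_one⟩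
  | mul σ τ _ _ ih1 ih2 =>
    obtain ⟨w1, hw1, e1, h1⟩ := ih1
    obtain ⟨w2, hw2, e2, h2⟩ := ih2
    exact ⟨w1 * w2, Subgroup.mul_mem _ hw1 hw2, _, by rw [mat_mul]; exact isMonoG_mul h1 h2⟩
  | inv σ _ ih =>
    obtain ⟨w, hw, e, h⟩ := ih
    exact ⟨w⁻¹, Subgroup.inv_mem _ hw, _, isMonoG_inv (mat_inv_mul w) h⟩

/-- a monomial isometry with trivial permutation lies in `B ⊓ N` -/
theorem gen_diag_mem {g : OG F m} {e : Idx m → F} (h : IsMonoG (mat g) 1 e) :
    g ∈ Bo F m ⊓ No F m := by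
  refine Subgroup.mem_inf.mpr ⟨?_, 1, e, h⟩
  rw [mem_Bo_iff]
  intro a b hab
  rw [h a b, if_neg]
  rw [Equiv.Perm.one_apply]
  intro hh
  rw [hh] at hab
  exact lt_irrefl _ hab

/-- LEAF GEN with the leaves MONO, WEYL, PERM as hypotheses -/
theorem gen_core
    (hMONO : ∀ (g : OG F m) (π : Equiv.Perm (Idx m)) (d : Idx m → F), IsMonoG (mat g) π d →
      π e0 = e0 ∧ ∀ a, π (bar a) = bar (π a))
    (hWEYL : ∀ π : Equiv.Perm (Idx m), π e0 = e0 → (∀ a, π (bar a) = bar (π a)) →
      π ∈ Subgroup.closure {σ : Equiv.Perm (Idx m) | IsSimpleGen σ})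
    (hPERM : ∀ σ : Equiv.Perm (Idx m), σ e0 = e0 → (∀ a, σ (bar a) = bar (σ a)) →
      ∃ g : OG F m, mat g = permMat F σ) :
    Subgroup.closure (So F m) ⊔ (Bo F m ⊓ No F m) = No F m := by
  apply le_antisymm
  · apply sup_le
    · rw [Subgroup.closure_le]
      exact gen_S_subset_N
    · exact inf_le_right
  · intro n hn
    obtain ⟨π, d, hnm⟩ := hn
    obtain ⟨hπ0, hπb⟩ := hMONO n π d hnm
    obtain ⟨w, hw, e, hwm⟩ := gen_lift hPERM (hWEYL π hπ0 hπb)
    have h1 := isMonoG_mul (isMonoG_inv (mat_inv_mul w) hwm) hnm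
    rw [← mat_mul] at h1
    have h2 : π.symm * π = 1 := by
      ext a
      simp
    rw [h2] at h1
    have h3 : n = w * (w⁻¹ * n) := by group
    rw [h3]
    exact Subgroup.mul_mem_sup hw (gen_diag_mem h1)

end Cfsg.Agent.Lib.Helper39.OoBN
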