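import Mathlib
import Cfsg.Agent.Lib.Helper39.OoDefs
import Cfsg.Agent.Lib.Helper97.OoGENcore
import Cfsg.Agent.Lib.Helper13.OoMONO
import Cfsg.Agent.Lib.Helper35.OoDIAG
import Cfsg.Agent.Lib.Helper10.OoWEYL

/-! # S2547 OO hive (helper39), LEAF OO-GEN (helper97): `closure S ⊔ (B ⊓ N) = N` in `O_{2m+1}(F)`, from
`gen_core` (Helper97.OoGENcore) and the leaves MONO (helper13), WEYL (helper10), PERM (helper35). -/

set_option autoImplicit false

namespace Cfsg.Agent.Lib.Helper39.OoBN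

open Matrix Cfsg

variable {F : Type*} [Field F] {m : ℕ}

theorem closure_S_sup (h2 : (2 : F) ≠ 0) :
    Subgroup.closure (So F m) ⊔ (Bo F m ⊓ No F m) = No F m :=
  gen_core (fun g _ _ h => ⟨(mono_orth h2 g h).1, (mono_orth h2 g h).2.1⟩) weyl_gen_o exists_perm

end Cfsg.Agent.Lib.Helper39.OoBN
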