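import Cfsg.Agent.Lib.Helper6.FH.ADefs

/-! # Feit–Higman hive (helper6), leaf FH-W1: alternating products of two involutions (helper97) -/

set_option autoImplicit false
set_option linter.unusedVariables false

namespace Cfsg.Agent.Lib.Helper6.FH

section W2
variable {W : Type*} [Group W] {ι : Type*} {σ : ι → W}

/-- `x (y x)^k = (x y)^k x` -/
theorem w1_mul_pow_comm (x y : W) (k : ℕ) : x * (y * x) ^ k = (x * y) ^ k * x := by
  induction k with
  | zero => simp
  | succ k ih =>
    rw [pow_succ, ← mul_assoc, ih, pow_succ]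
    simp only [mul_assoc]

/-- the basic identity: `x y x ... = (x y)^k * (y x y ...)` (`k` factors in both alternating words) -/
theorem w1_altP_eq_pow_mul {x y : W} (hx : x * x = 1) (hy : y * y = 1) (k : ℕ) :
    altP k x y = (x * y) ^ k * altP k y x := by
  induction k generalizing x y with
  | zero => simp
  | succ k ih =>
    have h1 : altP (k + 1) x y = x * ((y * x) ^ k * altP k x y) := by
      rw [altP_succ, ih hy hx]
    have h2 : (x * y) ^ (k + 1) * altP (k + 1) y x = (x * y) ^ k * x * (y * y) * altP k x y := by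
      rw [altP_succ, pow_succ]
      simp only [mul_assoc]
    rw [h1, h2, hy, mul_one, ← mul_assoc, w1_mul_pow_comm]

/-! ### FH-W1 (no exchange condition needed) -/
theorem altP_braid_of_orderOf {x y : W} (hx : x * x = 1) (hy : y * y = 1) :
    altP (orderOf (x * y)) x y = altP (orderOf (x * y)) y x := by
  rw [w1_altP_eq_pow_mul hx hy, pow_orderOf_eq_one, one_mul]

theorem two_le_orderOf_mul [Finite W] {x y : W} (hx : x * x = 1) (hy : y * y = 1) (hne : x ≠ y) :
    2 ≤ orderOf (x * y) := by
  have hpos : 0 < orderOf (x * y) := orderOf_pos (x * y)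
  have h1 : orderOf (x * y) ≠ 1 := by
    intro h
    rw [orderOf_eq_one_iff] at h
    apply hne
    have h2 : x = y⁻¹ := eq_inv_of_mul_eq_one_left h
    rw [h2]
    exact inv_eq_of_mul_eq_one_right hy
  omega

theorem altP_eq_swap_imp {x y : W} (hx : x * x = 1) (hy : y * y = 1) {k : ℕ}
    (h : altP k x y = altP k y x) : (x * y) ^ k = 1 := by
  have h1 := w1_altP_eq_pow_mul hx hy k
  rw [← h] at h1
  have h2 : 1 * altP k x y = (x * y) ^ k * altP k x y := by rw [one_mul]; exact h1
  exact (mul_right_cancel h2).symm

end W2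

end Cfsg.Agent.Lib.Helper6.FH
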