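import Cfsg.Agent.Lib.Helper97.FH_W1
import Cfsg.Agent.Lib.Helper80.St_SW1

/-! # Feit–Higman hive (helper6), leaf FH-W2: lengths of alternating words (helper97) -/

set_option autoImplicit false
set_option linter.unusedVariables false

namespace Cfsg.Agent.Lib.Helper6.FH

open Cfsg.Agent.Lib.Helper6 Cfsg.Agent.Lib.Helper6.St Cfsg.Agent.Lib.Helper6.Exch

section W2
variable {W : Type*} [Group W] {ι : Type*} {σ : ι → W}

/-- the product of the alternating word is the alternating product -/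
theorem w2_wp_altW (σ : ι → W) (i j : ι) (n : ℕ) : wp σ (altW i j n) = altP n (σ i) (σ j) := by
  induction n generalizing i j with
  | zero => simp
  | succ n ih => rw [altW_succ, wp_cons, ih, altP_succ]

/-- one step of the induction: if the alternating word of length `l` starting with `b` is reduced and no
power `(a b)^k` with `0 < k ≤ l` is trivial, then the alternating word of length `l + 1` starting with `a`
is reduced. -/
theorem w2_step (h : ExSys σ) (a b : ι) (l : ℕ) (hw : ell σ (altP l (σ b) (σ a)) = l)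
    (hk : ∀ k, 0 < k → k ≤ l → (σ a * σ b) ^ k ≠ 1) :
    ell σ (altP (l + 1) (σ a) (σ b)) = l + 1 := by
  rw [altP_succ]
  rcases ell_gen_mul h a (altP l (σ b) (σ a)) with h1 | h1
  · rw [h1, hw]
  · exfalso
    rw [hw] at h1
    have hred : IsRed σ (altW b a l) := by
      rw [isRed_iff_ell, w2_wp_altW, hw, length_altW]
    have hnot : ¬ IsRed σ (a :: altW b a l) := by
      intro hr
      rw [isRed_iff_ell, wp_cons, w2_wp_altW, List.length_cons, length_altW] at hr
      omega
    obtain ⟨j, hj, he⟩ := h.exch (altW b a l) a hred hnot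
    rw [length_altW] at hj
    rw [take_altW b a l j (by omega), take_altW b a l (j + 1) (by omega), wp_cons, w2_wp_altW,
      w2_wp_altW, ← altP_succ] at he
    exact hk (j + 1) (by omega) (by omega) (altP_eq_swap_imp (h.sq a) (h.sq b) he)

/-- symmetric form of the hypothesis -/
theorem w2_swap_pow_ne (h : ExSys σ) (a b : ι) (l : ℕ)
    (hk : ∀ k, 0 < k → k ≤ l → (σ a * σ b) ^ k ≠ 1) :
    ∀ k, 0 < k → k ≤ l → (σ b * σ a) ^ k ≠ 1 := by
  intro k hk0 hkl hone
  apply hk k hk0 hkl
  have hinv : σ a * σ b = (σ b * σ a)⁻¹ := by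
    rw [mul_inv_rev, sw1_inv_gen h, sw1_inv_gen h]
  rw [hinv, inv_pow, hone, inv_one]

theorem w2_ell_altP_aux (h : ExSys σ) (a b : ι) (l : ℕ)
    (hk : ∀ k, 0 < k → k < l → (σ a * σ b) ^ k ≠ 1) :
    ell σ (altP l (σ a) (σ b)) = l ∧ ell σ (altP l (σ b) (σ a)) = l := by
  induction l with
  | zero => simp [ell_one h]
  | succ l ih =>
    have hk' : ∀ k, 0 < k → k ≤ l → (σ a * σ b) ^ k ≠ 1 := fun k h0 h1 => hk k h0 (by omega)
    obtain ⟨ih1, ih2⟩ := ih (fun k h0 h1 => hk k h0 (by omega))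
    exact ⟨w2_step h a b l ih2 hk', w2_step h b a l ih1 (w2_swap_pow_ne h a b l hk')⟩

/-! ### FH-W2 (lengths of alternating words) -/
theorem ell_altP [Finite W] (h : ExSys σ) {i₁ i₂ : ι} (hall : ∀ i, i = i₁ ∨ i = i₂) (hne : σ i₁ ≠ σ i₂)
    {l : ℕ} (hl : l ≤ orderOf (σ i₁ * σ i₂)) :
    ell σ (altP l (σ i₁) (σ i₂)) = l ∧ ell σ (altP l (σ i₂) (σ i₁)) = l := by
  apply w2_ell_altP_aux h i₁ i₂ l
  intro k hk0 hkl
  exact pow_ne_one_of_lt_orderOf (by omega) (by omega)

end W2

end Cfsg.Agent.Lib.Helper6.FH
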