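import Mathlib
import Cfsg.Prelude.Def_ClassicalGeometry
import Cfsg.Agent.Lib.Helper4.NdDefs

/-! # S5956 hive Nd (helper4), LEAF ND-D8 (helper97): the number of nondegenerate `m`-subspaces of the
symplectic space `F^(2d)` is prime to `r` when `m ≤ 2d mod c`.  Route: double counting of pairs
(nondegenerate subspace, hyperbolic pair in it), induction on the dimension; no frames, no Witt. -/

set_option autoImplicit false
open Matrix
open Cfsg.Agent.Lib.Helper99 (Nd dker sympB)

namespace Cfsg.Agent.Lib.Helper4.NdH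

universe u v

variable {F : Type u} [Field F] {V : Type v} [AddCommGroup V] [Module F V]

/-- an alternating form is skew-symmetric -/
theorem d8_skew {B : V →ₗ[F] V →ₗ[F] F} (hB : Alt B) (x y : V) : B x y = - B y x := by
  have h := hB (x + y)
  simp only [map_add, LinearMap.add_apply] at h
  rw [hB x, hB y] at h
  linear_combination h

/-- the component of `w` in the orthogonal complement of the hyperbolic plane `⟨e, f⟩` -/
theorem d8_proj_mem {B : V →ₗ[F] V →ₗ[F] F} (hB : Alt B) {e f : V} (hef : B e f = 1) (w : V) :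
    w - ((- B f w) • e + (B e w) • f) ∈ orth B (Submodule.span F {e, f}) := by
  rw [mem_orth]
  intro z hz
  obtain ⟨a, b, rfl⟩ := Submodule.mem_span_pair.mp hz
  have hfe : B f e = -1 := by rw [d8_skew hB f e, hef]
  simp only [map_add, map_sub, map_smul, LinearMap.add_apply, LinearMap.smul_apply, smul_eq_mul,
    map_neg, hB e, hB f, hef, hfe]
  ring

theorem d8_plane_inf_orth {B : V →ₗ[F] V →ₗ[F] F} (hB : Alt B) {e f : V} (hef : B e f = 1) :
    Submodule.span F {e, f} ⊓ orth B (Submodule.span F {e, f}) = ⊥ := by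
  rw [eq_bot_iff]
  rintro z ⟨hz, hz'⟩
  obtain ⟨a, b, rfl⟩ := Submodule.mem_span_pair.mp hz
  have hfe : B f e = -1 := by rw [d8_skew hB f e, hef]
  have he : e ∈ Submodule.span F {e, f} := Submodule.subset_span (by simp)
  have hf : f ∈ Submodule.span F {e, f} := Submodule.subset_span (by simp)
  have h1 := (mem_orth B _ _).mp hz' e he
  have h2 := (mem_orth B _ _).mp hz' f hf
  simp only [map_add, map_smul, smul_eq_mul, hB e, hB f, hef, hfe] at h1 h2
  have hb : b = 0 := by linear_combination h1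
  have ha : a = 0 := by linear_combination -h2
  rw [ha, hb, zero_smul, zero_smul, add_zero]
  exact Submodule.zero_mem _

theorem d8_plane_sup {B : V →ₗ[F] V →ₗ[F] F} (hB : Alt B) {e f : V} (hef : B e f = 1)
    (W : Submodule F V) (he : e ∈ W) (hf : f ∈ W) :
    Submodule.span F {e, f} ⊔ (W ⊓ orth B (Submodule.span F {e, f})) = W := by
  have hP : Submodule.span F {e, f} ≤ W := by
    rw [Submodule.span_le]
    intro z hz
    rcases hz with rfl | rfl
    · exact he
    · exact hf
  apply le_antisymm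
  · exact sup_le hP inf_le_left
  · intro w hw
    have hp : (- B f w) • e + (B e w) • f ∈ Submodule.span F {e, f} :=
      Submodule.mem_span_pair.mpr ⟨_, _, rfl⟩
    have h1 : w = ((- B f w) • e + (B e w) • f) + (w - ((- B f w) • e + (B e w) • f)) := by abel
    rw [h1]
    exact Submodule.add_mem_sup hp ⟨W.sub_mem hw (hP hp), d8_proj_mem hB hef w⟩

theorem d8_finrank_plane {B : V →ₗ[F] V →ₗ[F] F} (hB : Alt B) {e f : V} (hef : B e f = 1) :
    Module.finrank F ↥(Submodule.span F {e, f}) = 2 := by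
  have hfe : B f e = -1 := by rw [d8_skew hB f e, hef]
  have hli : LinearIndependent F ![e, f] := by
    rw [LinearIndependent.pair_iff]
    intro a b hab
    have h1 := congrArg (B e) hab
    have h2 := congrArg (B f) hab
    simp only [map_add, map_smul, smul_eq_mul, hB e, hB f, hef, hfe, map_zero] at h1 h2
    exact ⟨by linear_combination -h2, by linear_combination h1⟩
  have h1 := finrank_span_eq_card hli
  rw [Fintype.card_fin] at h1
  have h2 : Set.range ![e, f] = {e, f} := by
    simp only [Matrix.range_cons, Matrix.range_empty, Set.union_empty, Set.union_singleton]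
    exact Set.pair_comm f e
  rw [h2] at h1
  exact h1

theorem d8_finrank_eq [FiniteDimensional F V] {B : V →ₗ[F] V →ₗ[F] F} (hB : Alt B) {e f : V}
    (hef : B e f = 1) (W : Submodule F V) (he : e ∈ W) (hf : f ∈ W) :
    Module.finrank F ↥W =
      Module.finrank F ↥(W ⊓ orth B (Submodule.span F {e, f})) + 2 := by
  have h1 := Submodule.finrank_sup_add_finrank_inf_eq (Submodule.span F {e, f})
    (W ⊓ orth B (Submodule.span F {e, f}))
  rw [d8_plane_sup hB hef W he hf] at h1
  have h2 : Submodule.span F {e, f} ⊓ (W ⊓ orth B (Submodule.span F {e, f})) = ⊥ := by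
    rw [eq_bot_iff, ← d8_plane_inf_orth hB hef]
    exact le_inf inf_le_left (inf_le_right.trans inf_le_right)
  rw [h2, finrank_bot, add_zero, d8_finrank_plane hB hef] at h1
  omega

/-- nondegeneracy passes between `P ⊔ W'` and `W'` for `W' ≤ P^⊥`, `P` a hyperbolic plane -/
theorem d8_nd_sup_iff {B : V →ₗ[F] V →ₗ[F] F} (hB : Alt B) {e f : V} (hef : B e f = 1)
    (W' : Submodule F V) (hW' : W' ≤ orth B (Submodule.span F {e, f})) :
    Nd B (Submodule.span F {e, f} ⊔ W') ↔ Nd B W' := by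
  have hfe : B f e = -1 := by rw [d8_skew hB f e, hef]
  have he : e ∈ Submodule.span F {e, f} := Submodule.subset_span (by simp)
  have hf : f ∈ Submodule.span F {e, f} := Submodule.subset_span (by simp)
  constructor
  · intro h w hw hw0
    apply h w (Submodule.mem_sup_right hw)
    intro z hz
    obtain ⟨p, hp, w', hw', rfl⟩ := Submodule.mem_sup.mp hz
    rw [map_add, hw0 w' hw', add_zero, d8_skew hB w p]
    rw [(mem_orth B _ _).mp (hW' hw) p hp, neg_zero]
  · intro h z hz hz0
    obtain ⟨p, hp, w', hw', rfl⟩ := Submodule.mem_sup.mp hz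
    obtain ⟨a, b, rfl⟩ := Submodule.mem_span_pair.mp hp
    have hw'e : B w' e = 0 := by
      rw [d8_skew hB w' e, (mem_orth B _ _).mp (hW' hw') e he, neg_zero]
    have hw'f : B w' f = 0 := by
      rw [d8_skew hB w' f, (mem_orth B _ _).mp (hW' hw') f hf, neg_zero]
    have h1 := hz0 e (Submodule.mem_sup_left he)
    have h2 := hz0 f (Submodule.mem_sup_left hf)
    simp only [map_add, map_smul, LinearMap.add_apply, LinearMap.smul_apply, smul_eq_mul, hB e,
      hB f, hef, hfe, hw'e, hw'f] at h1 h2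
    have hb : b = 0 := by linear_combination -h1
    have ha : a = 0 := by linear_combination h2
    have hw0 : w' = 0 := by
      apply h w' hw'
      intro y hy
      have h3 := hz0 y (Submodule.mem_sup_right hy)
      rw [ha, hb, zero_smul, zero_smul, add_zero, zero_add] at h3
      exact h3
    rw [ha, hb, hw0, zero_smul, zero_smul, add_zero, add_zero]

/-- the number of solutions `f ∈ W` of `B e f = 1`, for `0 ≠ e ∈ W`, `W` nondegenerate -/
theorem d8_card_fibre [Fintype F] [Finite V] (B : V →ₗ[F] V →ₗ[F] F) (W : Submodule F V)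
    (hW : Nd B W) (e : ↥W) (he : e ≠ 0) :
    Nat.card {f : ↥W // B (e : V) (f : V) = 1} =
      Fintype.card F ^ (Module.finrank F ↥W - 1) := by
  set φ : Module.Dual F ↥W := (B (e : V)).comp W.subtype with hφ
  have hφa : ∀ f : ↥W, φ f = B (e : V) (f : V) := fun f => rfl
  have hφ0 : φ ≠ 0 := by
    intro h0
    apply he
    apply Subtype.ext
    apply hW (e : V) e.2
    intro v hv
    have := LinearMap.congr_fun h0 ⟨v, hv⟩
    simpa [hφa] using this
  obtain ⟨f₀, hf₀⟩ := LinearMap.surjective hφ0 1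
  have hk := Module.Dual.finrank_ker_add_one_of_ne_zero hφ0
  -- the fibre is a coset of the kernel
  let E : {f : ↥W // B (e : V) (f : V) = 1} ≃ ↥(LinearMap.ker φ) :=
    { toFun := fun f => ⟨f.1 - f₀, by
        rw [LinearMap.mem_ker, map_sub, hφa, f.2, hf₀, sub_self]⟩
      invFun := fun k => ⟨k.1 + f₀, by
        have hk0 : φ k.1 = 0 := LinearMap.mem_ker.mp k.2
        rw [← hφa, map_add, hk0, hf₀, zero_add]⟩
      left_inv := fun f => by
        apply Subtype.ext
        simp
      right_inv := fun k => by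
        apply Subtype.ext
        simp }
  rw [Nat.card_congr E, Module.natCard_eq_pow_finrank (K := F), Nat.card_eq_fintype_card]
  congr 1
  omega

/-- the number of hyperbolic pairs of a nondegenerate subspace of dimension `t` -/
theorem d8_card_pairs [Fintype F] [Finite V] (B : V →ₗ[F] V →ₗ[F] F)
    (W : Submodule F V) (hW : Nd B W) :
    Nat.card {p : V × V // p.1 ∈ W ∧ p.2 ∈ W ∧ B p.1 p.2 = 1} =
      (Fintype.card F ^ Module.finrank F ↥W - 1) *
        Fintype.card F ^ (Module.finrank F ↥W - 1) := by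
  classical
  haveI : Fintype {e : ↥W // e ≠ 0} := Fintype.ofFinite _
  let E : {p : V × V // p.1 ∈ W ∧ p.2 ∈ W ∧ B p.1 p.2 = 1} ≃
      Σ e : {e : ↥W // e ≠ 0}, {f : ↥W // B ((e : ↥W) : V) (f : V) = 1} :=
    { toFun := fun p => ⟨⟨⟨p.1.1, p.2.1⟩, by
          intro h0
          have h1 : p.1.1 = 0 := congrArg Subtype.val h0
          have h2 := p.2.2.2
          rw [h1, map_zero, LinearMap.zero_apply] at h2
          exact zero_ne_one h2⟩, ⟨⟨p.1.2, p.2.2.1⟩, p.2.2.2⟩⟩
      invFun := fun s => ⟨(((s.1 : ↥W) : V), (s.2.1 : V)), (s.1 : ↥W).2, s.2.1.2, s.2.2⟩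
      left_inv := fun p => rfl
      right_inv := fun s => rfl }
  rw [Nat.card_congr E, Nat.card_sigma]
  have hc : ∀ e : {e : ↥W // e ≠ 0},
      Nat.card {f : ↥W // B ((e : ↥W) : V) (f : V) = 1} =
        Fintype.card F ^ (Module.finrank F ↥W - 1) := fun e => d8_card_fibre B W hW e.1 e.2
  rw [Finset.sum_congr rfl (fun e _ => hc e), Finset.sum_const, smul_eq_mul, Finset.card_univ]
  congr 1
  rw [← Nat.card_eq_fintype_card]
  have h1 : Nat.card ↥W = Fintype.card F ^ Module.finrank F ↥W := by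
    rw [Module.natCard_eq_pow_finrank (K := F), Nat.card_eq_fintype_card]
  rw [← h1]
  have h2 : Nat.card {e : ↥W // e ≠ 0} + 1 = Nat.card ↥W := by
    haveI : Fintype ↥W := Fintype.ofFinite _
    rw [Nat.card_eq_fintype_card, Nat.card_eq_fintype_card, Fintype.card_subtype_compl,
      Fintype.card_subtype_eq]
    have : 0 < Fintype.card ↥W := Fintype.card_pos
    omega
  omega

/-- the nondegenerate `t`-dimensional subspaces of `X` -/
def d8_Om (B : V →ₗ[F] V →ₗ[F] F) (X : Submodule F V) (t : ℕ) : Set (Submodule F V) :=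
  {W | W ≤ X ∧ Nd B W ∧ Module.finrank F ↥W = t}

theorem d8_finite_submodule [Finite V] : Finite (Submodule F V) :=
  Finite.of_injective (fun W : Submodule F V => (W : Set V)) SetLike.coe_injective

/-- the subspaces of `X` through a hyperbolic pair correspond to the subspaces of `X ⊓ P^⊥` -/
def d8_equiv [FiniteDimensional F V] {B : V →ₗ[F] V →ₗ[F] F} (hB : Alt B) {e f : V}
    (hef : B e f = 1) (X : Submodule F V) (heX : e ∈ X) (hfX : f ∈ X) (s : ℕ) :
    {W : Submodule F V // W ∈ d8_Om B X (s + 2) ∧ e ∈ W ∧ f ∈ W} ≃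
      {W' : Submodule F V // W' ∈ d8_Om B (X ⊓ orth B (Submodule.span F {e, f})) s} where
  toFun W := ⟨W.1 ⊓ orth B (Submodule.span F {e, f}), by
    obtain ⟨W, ⟨hWX, hWnd, hWr⟩, he, hf⟩ := W
    refine ⟨inf_le_inf_right _ hWX, ?_, ?_⟩
    · rw [← d8_nd_sup_iff hB hef _ inf_le_right, d8_plane_sup hB hef W he hf]
      exact hWnd
    · have := d8_finrank_eq hB hef W he hf
      show Module.finrank F ↥(W ⊓ orth B (Submodule.span F {e, f})) = s
      omega⟩
  invFun W' := ⟨Submodule.span F {e, f} ⊔ W'.1, by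
    obtain ⟨W', hW'X, hW'nd, hW'r⟩ := W'
    have heP : e ∈ Submodule.span F {e, f} := Submodule.subset_span (by simp)
    have hfP : f ∈ Submodule.span F {e, f} := Submodule.subset_span (by simp)
    have hPX : Submodule.span F {e, f} ≤ X := by
      rw [Submodule.span_le]
      intro z hz
      rcases hz with rfl | rfl
      · exact heX
      · exact hfX
    have hW'o : W' ≤ orth B (Submodule.span F {e, f}) := hW'X.trans inf_le_right
    refine ⟨⟨sup_le hPX (hW'X.trans inf_le_left), ?_, ?_⟩, Submodule.mem_sup_left heP,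
      Submodule.mem_sup_left hfP⟩
    · rw [d8_nd_sup_iff hB hef _ hW'o]
      exact hW'nd
    · have h1 := Submodule.finrank_sup_add_finrank_inf_eq (Submodule.span F {e, f}) W'
      have h2 : Submodule.span F {e, f} ⊓ W' = ⊥ := by
        rw [eq_bot_iff, ← d8_plane_inf_orth hB hef]
        exact le_inf inf_le_left (inf_le_right.trans hW'o)
      rw [h2, finrank_bot, add_zero, d8_finrank_plane hB hef, hW'r] at h1
      show Module.finrank F ↥(Submodule.span F {e, f} ⊔ W') = s + 2
      omega⟩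
  left_inv W := by
    apply Subtype.ext
    exact d8_plane_sup hB hef W.1 W.2.2.1 W.2.2.2
  right_inv W' := by
    apply Subtype.ext
    obtain ⟨W', hW'X, hW'nd, hW'r⟩ := W'
    have hW'o : W' ≤ orth B (Submodule.span F {e, f}) := hW'X.trans inf_le_right
    show (Submodule.span F {e, f} ⊔ W') ⊓ orth B (Submodule.span F {e, f}) = W'
    apply le_antisymm
    · rintro z ⟨hz, hzo⟩
      obtain ⟨p, hp, w', hw', rfl⟩ := Submodule.mem_sup.mp hz
      have hpo : p ∈ orth B (Submodule.span F {e, f}) := by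
        have : p = (p + w') - w' := by abel
        rw [this]
        exact Submodule.sub_mem _ hzo (hW'o hw')
      have hp0 : p ∈ (⊥ : Submodule F V) := by
        rw [← d8_plane_inf_orth hB hef]
        exact ⟨hp, hpo⟩
      rw [Submodule.mem_bot] at hp0
      rw [hp0, zero_add]
      exact hw'
    · exact le_inf le_sup_right hW'o

/-- `(q^t - 1) q^(t-1)`: the number of hyperbolic pairs of a nondegenerate `t`-space -/
def d8_HP (q t : ℕ) : ℕ := (q ^ t - 1) * q ^ (t - 1)

theorem d8_card_Om_zero [FiniteDimensional F V] (B : V →ₗ[F] V →ₗ[F] F) (X : Submodule F V) :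
    Nat.card {W : Submodule F V // W ∈ d8_Om B X 0} = 1 := by
  rw [Nat.card_eq_one_iff_unique]
  constructor
  · constructor
    rintro ⟨W₁, -, -, h₁⟩ ⟨W₂, -, -, h₂⟩
    apply Subtype.ext
    show W₁ = W₂
    rw [Submodule.finrank_eq_zero.mp h₁, Submodule.finrank_eq_zero.mp h₂]
  · refine ⟨⟨⊥, bot_le, ?_, finrank_bot F V⟩⟩
    intro u hu _
    exact (Submodule.mem_bot F).mp hu

theorem d8_main [Fintype F] [Finite V] [FiniteDimensional F V] {B : V →ₗ[F] V →ₗ[F] F}
    (hB : Alt B) : ∀ (h k : ℕ) (X : Submodule F V), Nd B X → Module.finrank F ↥X = 2 * k → h ≤ k →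
      Nat.card {W : Submodule F V // W ∈ d8_Om B X (2 * h)} *
          ∏ j ∈ Finset.range h, d8_HP (Fintype.card F) (2 * h - 2 * j) =
        ∏ j ∈ Finset.range h, d8_HP (Fintype.card F) (2 * k - 2 * j) := by
  classical
  haveI : Finite (Submodule F V) := d8_finite_submodule
  intro h
  induction h with
  | zero =>
    intro k X _ _ _
    rw [Finset.range_zero, Finset.prod_empty, Finset.prod_empty, mul_one]
    exact d8_card_Om_zero B X
  | succ h ih =>
    intro k X hX hXr hk
    obtain ⟨k', rfl⟩ : ∃ k', k = k' + 1 := ⟨k - 1, by omega⟩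
    have hk' : h ≤ k' := by omega
    set q := Fintype.card F with hq
    -- the two sigma types
    haveI : Fintype {W : Submodule F V // W ∈ d8_Om B X (2 * h + 2)} := Fintype.ofFinite _
    haveI : Fintype {p : V × V // p.1 ∈ X ∧ p.2 ∈ X ∧ B p.1 p.2 = 1} := Fintype.ofFinite _
    let E : (Σ W : {W : Submodule F V // W ∈ d8_Om B X (2 * h + 2)},
          {p : V × V // p.1 ∈ W.1 ∧ p.2 ∈ W.1 ∧ B p.1 p.2 = 1}) ≃
        (Σ p : {p : V × V // p.1 ∈ X ∧ p.2 ∈ X ∧ B p.1 p.2 = 1},
          {W : Submodule F V // W ∈ d8_Om B X (2 * h + 2) ∧ p.1.1 ∈ W ∧ p.1.2 ∈ W}) :=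
      { toFun := fun s => ⟨⟨s.2.1, s.1.2.1 s.2.2.1, s.1.2.1 s.2.2.2.1, s.2.2.2.2⟩,
          ⟨s.1.1, s.1.2, s.2.2.1, s.2.2.2.1⟩⟩
        invFun := fun s => ⟨⟨s.2.1, s.2.2.1⟩, ⟨s.1.1, s.2.2.2.1, s.2.2.2.2, s.1.2.2.2⟩⟩
        left_inv := fun s => rfl
        right_inv := fun s => rfl }
    have h1 := Nat.card_congr E
    rw [Nat.card_sigma, Nat.card_sigma] at h1
    -- left side
    have hL : ∀ W : {W : Submodule F V // W ∈ d8_Om B X (2 * h + 2)},
        Nat.card {p : V × V // p.1 ∈ W.1 ∧ p.2 ∈ W.1 ∧ B p.1 p.2 = 1} = d8_HP q (2 * h + 2) := by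
      intro W
      rw [d8_card_pairs B W.1 W.2.2.1, W.2.2.2]
      rfl
    rw [Finset.sum_congr rfl (fun W _ => hL W), Finset.sum_const, smul_eq_mul, Finset.card_univ,
      ← Nat.card_eq_fintype_card] at h1
    -- right side, multiplied by the product
    have hR : ∀ p : {p : V × V // p.1 ∈ X ∧ p.2 ∈ X ∧ B p.1 p.2 = 1},
        Nat.card {W : Submodule F V // W ∈ d8_Om B X (2 * h + 2) ∧ p.1.1 ∈ W ∧ p.1.2 ∈ W} *
            ∏ j ∈ Finset.range h, d8_HP q (2 * h - 2 * j) =
          ∏ j ∈ Finset.range h, d8_HP q (2 * k' - 2 * j) := by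
      rintro ⟨⟨e, f⟩, heX, hfX, hef⟩
      rw [Nat.card_congr (d8_equiv hB hef X heX hfX (2 * h))]
      apply ih k' (X ⊓ orth B (Submodule.span F {e, f})) _ _ hk'
      · rw [← d8_nd_sup_iff hB hef _ inf_le_right, d8_plane_sup hB hef X heX hfX]
        exact hX
      · have h5 := d8_finrank_eq hB hef X heX hfX
        rw [hXr] at h5
        have h6 : 2 * (k' + 1) = 2 * k' + 2 := by ring
        rw [h6] at h5
        exact (Nat.add_right_cancel h5).symm
    have hP : Nat.card {p : V × V // p.1 ∈ X ∧ p.2 ∈ X ∧ B p.1 p.2 = 1} =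
        d8_HP q (2 * (k' + 1)) := by
      rw [d8_card_pairs B X hX, hXr]
      rfl
    have e1 : 2 * (h + 1) = 2 * h + 2 := by ring
    rw [e1, Finset.prod_range_succ', Finset.prod_range_succ']
    have e2 : ∀ j, 2 * h + 2 - 2 * (j + 1) = 2 * h - 2 * j := fun j => by omega
    have e3 : ∀ j, 2 * (k' + 1) - 2 * (j + 1) = 2 * k' - 2 * j := fun j => by omega
    simp only [e2, e3, Nat.mul_zero, Nat.sub_zero]
    calc Nat.card {W : Submodule F V // W ∈ d8_Om B X (2 * h + 2)} *
          ((∏ j ∈ Finset.range h, d8_HP q (2 * h - 2 * j)) * d8_HP q (2 * h + 2))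
        = (Nat.card {W : Submodule F V // W ∈ d8_Om B X (2 * h + 2)} * d8_HP q (2 * h + 2)) *
            ∏ j ∈ Finset.range h, d8_HP q (2 * h - 2 * j) := by ring
      _ = (∑ p : {p : V × V // p.1 ∈ X ∧ p.2 ∈ X ∧ B p.1 p.2 = 1},
            Nat.card {W : Submodule F V // W ∈ d8_Om B X (2 * h + 2) ∧ p.1.1 ∈ W ∧ p.1.2 ∈ W}) *
            ∏ j ∈ Finset.range h, d8_HP q (2 * h - 2 * j) := by rw [h1]
      _ = ∑ p : {p : V × V // p.1 ∈ X ∧ p.2 ∈ X ∧ B p.1 p.2 = 1},
            ∏ j ∈ Finset.range h, d8_HP q (2 * k' - 2 * j) := by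
          rw [Finset.sum_mul]
          exact Finset.sum_congr rfl (fun p _ => hR p)
      _ = (∏ j ∈ Finset.range h, d8_HP q (2 * k' - 2 * j)) * d8_HP q (2 * (k' + 1)) := by
          rw [Finset.sum_const, smul_eq_mul, Finset.card_univ, ← Nat.card_eq_fintype_card, hP]
          ring


/-- the arithmetic: no `q^e - 1`, `e` even in `(2d - m, 2d]`, is divisible by `r` -/
theorem d8_arith {q r d h j : ℕ} [Fact r.Prime] (hq0 : 0 < q) (hj : j < h) (hhd : h ≤ d)
    (hmk : 2 * h ≤ (2 * d) % cOf (orderOf ((q : ℕ) : ZMod r)))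
    (hdvd : r ∣ q ^ (2 * d - 2 * j) - 1) : False := by
  set i := orderOf ((q : ℕ) : ZMod r) with hi
  set e := 2 * d - 2 * j with he
  have he1 : 1 ≤ e := by omega
  have hq1 : 1 ≤ q ^ e := Nat.one_le_pow _ _ hq0
  have h1 : ((q : ℕ) : ZMod r) ^ e = 1 := by
    have h2 : ((q ^ e - 1 : ℕ) : ZMod r) = 0 := (ZMod.natCast_eq_zero_iff _ _).mpr hdvd
    rw [Nat.cast_sub hq1, Nat.cast_pow, Nat.cast_one, sub_eq_zero] at h2
    exact h2
  have hie : i ∣ e := orderOf_dvd_of_pow_eq_one h1
  have h2e : 2 ∣ e := ⟨d - j, by omega⟩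
  have hce : cOf i ∣ e := by
    unfold cOf
    split_ifs with hev
    · exact hie
    · have hodd : Odd i := Nat.not_even_iff_odd.mp hev
      exact Nat.Coprime.mul_dvd_of_dvd_of_dvd (Nat.coprime_two_left.mpr hodd) h2e hie
  obtain ⟨s, hs⟩ := hce
  set c := cOf i with hc
  have hdm := Nat.div_add_mod (2 * d) c
  rcases Nat.eq_zero_or_pos c with hc0 | hc0
  · rw [hc0, zero_mul] at hs
    omega
  · have hR : (2 * d) % c < c := Nat.mod_lt _ hc0
    have hs1 : s < (2 * d) / c + 1 := by
      by_contra hcon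
      have h3 : (2 * d) / c + 1 ≤ s := by omega
      have h4 : c * ((2 * d) / c + 1) ≤ c * s := Nat.mul_le_mul_left c h3
      rw [Nat.mul_add, Nat.mul_one] at h4
      omega
    have h5 : c * s ≤ c * ((2 * d) / c) := Nat.mul_le_mul_left c (by omega)
    omega

/-- ND-D8 -/
theorem not_dvd_card_nd [Fintype F] (p : ℕ) [Fact p.Prime] [CharP F p] (d m : ℕ) (hme : Even m)
    (hm : m ≤ 2 * d) (r : ℕ) [Fact r.Prime] (hr2 : r ≠ 2) (hrp : r ≠ p)
    (hmk : m ≤ (2 * d) % cOf (orderOf ((Fintype.card F : ℕ) : ZMod r))) :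
    ¬ r ∣ Nat.card {W : Submodule F (Fin d ⊕ Fin d → F) // Module.finrank F ↥W = m ∧
      (∀ u ∈ W, u ≠ 0 → ∃ v ∈ W, Cfsg.sympForm d F u v ≠ 0)} := by
  classical
  have hr : r.Prime := Fact.out
  have hp : p.Prime := Fact.out
  obtain ⟨h, rfl⟩ : ∃ h, m = 2 * h := by
    obtain ⟨h, hh⟩ := hme
    exact ⟨h, by omega⟩
  have hhd : h ≤ d := by omega
  have hB : Alt (sympB (F := F) d) := fun v => Cfsg.Agent.Lib.Helper99.sympB_self d v
  have hV : Nd (sympB (F := F) d) ⊤ := Cfsg.Agent.Lib.Helper99.sympB_nd d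
  have hfr : Module.finrank F ↥(⊤ : Submodule F (Fin d ⊕ Fin d → F)) = 2 * d := by
    rw [finrank_top, Module.finrank_fintype_fun_eq_card, Fintype.card_sum, Fintype.card_fin]
    ring
  have hmain := d8_main hB h d ⊤ hV hfr hhd
  -- identify the two sets of subspaces
  have hcard : Nat.card {W : Submodule F (Fin d ⊕ Fin d → F) // Module.finrank F ↥W = 2 * h ∧
      (∀ u ∈ W, u ≠ 0 → ∃ v ∈ W, Cfsg.sympForm d F u v ≠ 0)} =
      Nat.card {W : Submodule F (Fin d ⊕ Fin d → F) // W ∈ d8_Om (sympB (F := F) d) ⊤ (2 * h)} := by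
    apply Nat.card_congr
    apply Equiv.subtypeEquivRight
    intro W
    constructor
    · rintro ⟨h1, h2⟩
      refine ⟨le_top, ?_, h1⟩
      intro u hu hu0
      by_contra hne
      obtain ⟨v, hv, hv0⟩ := h2 u hu hne
      apply hv0
      rw [← Cfsg.Agent.Lib.Helper99.sympB_apply]
      exact hu0 v hv
    · rintro ⟨-, h2, h1⟩
      refine ⟨h1, ?_⟩
      intro u hu hu0
      by_contra hcon
      apply hu0
      apply h2 u hu
      intro v hv
      by_contra hne
      apply hcon
      refine ⟨v, hv, ?_⟩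
      rw [← Cfsg.Agent.Lib.Helper99.sympB_apply]
      exact hne
  rw [hcard]
  intro hdvd
  have h1 : r ∣ ∏ j ∈ Finset.range h, d8_HP (Fintype.card F) (2 * d - 2 * j) := by
    rw [← hmain]
    exact Dvd.dvd.mul_right hdvd _
  obtain ⟨j, hj, hjd⟩ := (Prime.dvd_finset_prod_iff hr.prime _).mp h1
  rw [Finset.mem_range] at hj
  unfold d8_HP at hjd
  rcases (Nat.Prime.dvd_mul hr).mp hjd with h2 | h2
  · exact d8_arith Fintype.card_pos hj hhd hmk h2
  · have h3 : r ∣ Fintype.card F := hr.dvd_of_dvd_pow h2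
    obtain ⟨n, -, hn⟩ := FiniteField.card F p
    rw [hn] at h3
    have h4 : r ∣ p := hr.dvd_of_dvd_pow h3
    exact hrp ((Nat.prime_dvd_prime_iff_eq hr hp).mp h4)

end Cfsg.Agent.Lib.Helper4.NdH
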