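import Mathlib
import Cfsg.Agent.Lib.Helper41.SpBNDefs

/-! # S2545 hive (helper41), LEAF GEN, core part (helper97): `closure S ⊔ (B ⊓ N) = N` from the Weyl group
generation statement (LEAF WEYL) taken as a hypothesis. -/

set_option autoImplicit false

namespace Cfsg.Agent.Lib.Helper41.SpBN

open Matrix Cfsg Cfsg.Agent.Lib.Helper13

variable {F : Type*} [Field F] {m : ℕ}

theorem gen_simpleShort_swap (k k' : Fin m) (a : Idx m) :
    simpleShort k k' a.swap = (simpleShort k k' a).swap := by
  unfold simpleShort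
  rcases a with i | i
  · simp only [Sum.swap_inl, Equiv.Perm.mul_apply]
    rw [Equiv.swap_apply_of_ne_of_ne (a := Sum.inr k) (b := Sum.inr k') (x := Sum.inl i) (by simp)
      (by simp)]
    by_cases h1 : i = k
    · subst h1
      rw [Equiv.swap_apply_left, Equiv.swap_apply_left, Sum.swap_inl,
        Equiv.swap_apply_of_ne_of_ne (by simp) (by simp)]
    · by_cases h2 : i = k'
      · subst h2
        rw [Equiv.swap_apply_right, Equiv.swap_apply_right, Sum.swap_inl,
          Equiv.swap_apply_of_ne_of_ne (by simp) (by simp)]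
      · rw [Equiv.swap_apply_of_ne_of_ne (a := Sum.inr k) (b := Sum.inr k') (x := Sum.inr i)
          (by simpa using h1) (by simpa using h2),
          Equiv.swap_apply_of_ne_of_ne (a := Sum.inl k) (b := Sum.inl k') (x := Sum.inl i)
          (by simpa using h1) (by simpa using h2), Sum.swap_inl,
          Equiv.swap_apply_of_ne_of_ne (by simp) (by simp)]
  · simp only [Sum.swap_inr, Equiv.Perm.mul_apply]
    rw [Equiv.swap_apply_of_ne_of_ne (a := Sum.inr k) (b := Sum.inr k') (x := Sum.inl i) (by simp)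
      (by simp)]
    by_cases h1 : i = k
    · subst h1
      rw [Equiv.swap_apply_left, Equiv.swap_apply_left,
        Equiv.swap_apply_of_ne_of_ne (by simp) (by simp), Sum.swap_inr]
    · by_cases h2 : i = k'
      · subst h2
        rw [Equiv.swap_apply_right, Equiv.swap_apply_right,
          Equiv.swap_apply_of_ne_of_ne (by simp) (by simp), Sum.swap_inr]
      · rw [Equiv.swap_apply_of_ne_of_ne (a := Sum.inr k) (b := Sum.inr k') (x := Sum.inr i)
          (by simpa using h1) (by simpa using h2),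
          Equiv.swap_apply_of_ne_of_ne (a := Sum.inl k) (b := Sum.inl k') (x := Sum.inl i)
          (by simpa using h1) (by simpa using h2),
          Equiv.swap_apply_of_ne_of_ne (by simp) (by simp), Sum.swap_inr]

theorem gen_simpleLong_swap (k : Fin m) (a : Idx m) :
    simpleLong k a.swap = (simpleLong k a).swap := by
  unfold simpleLong
  rcases a with i | i
  · by_cases h1 : i = k
    · subst h1
      simp
    · rw [Sum.swap_inl, Equiv.swap_apply_of_ne_of_ne (by simp) (by simpa using h1),
        Equiv.swap_apply_of_ne_of_ne (by simpa using h1) (by simp), Sum.swap_inl]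
  · by_cases h1 : i = k
    · subst h1
      simp
    · rw [Sum.swap_inr, Equiv.swap_apply_of_ne_of_ne (by simpa using h1) (by simp),
        Equiv.swap_apply_of_ne_of_ne (by simp) (by simpa using h1), Sum.swap_inr]

theorem gen_isSimpleGen_swap {σ : Equiv.Perm (Idx m)} (hσ : IsSimpleGen σ) (a : Idx m) :
    σ a.swap = (σ a).swap := by
  rcases hσ with ⟨k, k', _, rfl⟩ | ⟨k, _, rfl⟩
  · exact gen_simpleShort_swap k k' a
  · exact gen_simpleLong_swap k a

theorem gen_S_subset_N : Ssp F m ⊆ (Nsp F m : Set (SpG F m)) := by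
  rintro g ⟨σ, _, hg⟩
  exact ⟨σ, _, hg ▸ monoMat_isMono σ 1⟩

/-- every element of the closure of the simple generators is the permutation of an element of `closure S` -/
theorem gen_lift {σ : Equiv.Perm (Idx m)}
    (hσ : σ ∈ Subgroup.closure {σ : Equiv.Perm (Idx m) | IsSimpleGen σ}) :
    ∃ w ∈ Subgroup.closure (Ssp F m), ∃ e : Idx m → F, IsMono w.1 σ e := by
  induction hσ using Subgroup.closure_induction with
  | mem σ hσ =>
    refine ⟨⟨monoMat σ (1 : Fin m → Fˣ), monoMat_mem σ (gen_isSimpleGen_swap hσ) 1⟩,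
      Subgroup.subset_closure ⟨σ, hσ, rfl⟩, _, monoMat_isMono σ 1⟩
  | one => exact ⟨1, Subgroup.one_mem _, _, isMono_one⟩
  | mul σ τ _ _ ih1 ih2 =>
    obtain ⟨w1, hw1, e1, h1⟩ := ih1
    obtain ⟨w2, hw2, e2, h2⟩ := ih2
    exact ⟨w1 * w2, Subgroup.mul_mem _ hw1 hw2, _, isMono_mul h1 h2⟩
  | inv σ _ ih =>
    obtain ⟨w, hw, e, h⟩ := ih
    exact ⟨w⁻¹, Subgroup.inv_mem _ hw, _, isMono_inv w h⟩

/-- a monomial symplectic matrix with trivial permutation lies in `B ⊓ N` -/
theorem gen_diag_mem {g : SpG F m} {e : Idx m → F} (h : IsMono g.1 1 e) :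
    g ∈ Bsp F m ⊓ Nsp F m := by
  refine Subgroup.mem_inf.mpr ⟨?_, 1, e, h⟩
  rw [mem_Bsp_iff]
  constructor
  · intro i j hji
    rw [h (Sum.inl i) (Sum.inl j), if_neg]
    rw [Equiv.Perm.one_apply]
    intro hh
    have := Sum.inl.inj hh
    rw [this] at hji
    exact lt_irrefl _ hji
  · intro i j
    rw [h (Sum.inr i) (Sum.inl j), if_neg]
    rw [Equiv.Perm.one_apply]
    exact Sum.inr_ne_inl

/-- LEAF GEN with LEAF WEYL as a hypothesis -/
theorem gen_core
    (hW : ∀ π : Equiv.Perm (Idx m), (∀ a, π a.swap = (π a).swap) →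
      π ∈ Subgroup.closure {σ : Equiv.Perm (Idx m) | IsSimpleGen σ}) :
    Subgroup.closure (Ssp F m) ⊔ (Bsp F m ⊓ Nsp F m) = Nsp F m := by
  apply le_antisymm
  · apply sup_le
    · rw [Subgroup.closure_le]
      exact gen_S_subset_N
    · exact inf_le_right
  · intro n hn
    obtain ⟨π, d, hnm⟩ := hn
    obtain ⟨w, hw, e, hwm⟩ := gen_lift (F := F) (hW π (hnm.symp n.2).1)
    have h1 : IsMono (w⁻¹ * n).1 (π.symm * π) _ := isMono_mul (isMono_inv w hwm) hnm
    have h2 : π.symm * π = 1 := by
      ext a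
      simp
    rw [h2] at h1
    have h3 : n = w * (w⁻¹ * n) := by group
    rw [h3]
    exact Subgroup.mul_mem_sup hw (gen_diag_mem h1)

end Cfsg.Agent.Lib.Helper41.SpBN
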