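import Mathlib
import Cfsg.Agent.Lib.Helper40.OpBNDefs
import Cfsg.Agent.Lib.Helper97.SpBN_GENcore

/-! # S2548 hive (helper40, OpBN), LEAF GEN, core part (helper97): `closure S ⊔ (B ⊓ N) = N` from the leaves
MONOSWAP, WEYLD and PERM taken as hypotheses. -/

set_option autoImplicit false

namespace Cfsg.Agent.Lib.Helper40.OpBN

open Matrix Cfsg Cfsg.Agent.Lib.Helper13 Cfsg.Agent.Lib.Helper41.SpBN

variable {F : Type*} [Field F] {m : ℕ}

theorem gen_simpleD_swap (k k' : Fin m) (hkk : k ≠ k') (a : Idx m) :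
    simpleD k k' a.swap = (simpleD k k' a).swap := by
  unfold simpleD
  have hkk' : k' ≠ k := hkk.symm
  rcases a with i | i <;> by_cases h1 : i = k <;> by_cases h2 : i = k' <;>
    simp_all [Equiv.swap_apply_def, eq_comm]

theorem gen_ne_of_succ {k k' : Fin m} (h : (k : ℕ) + 1 = (k' : ℕ)) : k ≠ k' := by
  intro e
  rw [e] at h
  omega

theorem gen_isSimpleGenD_swap {σ : Equiv.Perm (Idx m)} (hσ : IsSimpleGenD σ) (a : Idx m) :
    σ a.swap = (σ a).swap := by
  rcases hσ with ⟨k, k', _, rfl⟩ | ⟨k, k', hkk, _, rfl⟩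
  · exact gen_simpleShort_swap k k' a
  · exact gen_simpleD_swap k k' (gen_ne_of_succ hkk) a

theorem gen_sign_simpleShort {k k' : Fin m} (hkk : k ≠ k') :
    Equiv.Perm.sign (simpleShort k k' : Equiv.Perm (Idx m)) = 1 := by
  unfold simpleShort
  rw [Equiv.Perm.sign_mul, Equiv.Perm.sign_swap (by simpa using hkk),
    Equiv.Perm.sign_swap (by simpa using hkk)]
  rfl

theorem gen_sign_simpleD (k k' : Fin m) :
    Equiv.Perm.sign (simpleD k k' : Equiv.Perm (Idx m)) = 1 := by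
  unfold simpleD
  rw [Equiv.Perm.sign_mul, Equiv.Perm.sign_swap (by simp), Equiv.Perm.sign_swap (by simp)]
  rfl

theorem gen_sign_isSimpleGenD {σ : Equiv.Perm (Idx m)} (hσ : IsSimpleGenD σ) :
    Equiv.Perm.sign σ = 1 := by
  rcases hσ with ⟨k, k', hkk, rfl⟩ | ⟨k, k', _, _, rfl⟩
  · exact gen_sign_simpleShort (gen_ne_of_succ hkk)
  · exact gen_sign_simpleD k k'

theorem gen_So_subset_No : So F m ⊆ (No F m : Set (OG F m)) := by
  rintro g ⟨σ, hσ, hg⟩
  exact ⟨σ, fun _ => 1, hg ▸ permMat_isMono σ, gen_sign_isSimpleGenD hσ⟩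

/-- every element of the closure of the simple generators is the permutation of an element of `closure S` -/
theorem gen_lift
    (hPERM : ∀ π : Equiv.Perm (Idx m), (∀ a, π a.swap = (π a).swap) →
      ∃ g : OG F m, mt g = permMat F π)
    {σ : Equiv.Perm (Idx m)}
    (hσ : σ ∈ Subgroup.closure {σ : Equiv.Perm (Idx m) | IsSimpleGenD σ}) :
    ∃ w ∈ Subgroup.closure (So F m), ∃ e : Idx m → F, IsMono (mt w) σ e := by
  induction hσ using Subgroup.closure_induction with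
  | mem σ hσ =>
    obtain ⟨g, hg⟩ := hPERM σ (gen_isSimpleGenD_swap hσ)
    exact ⟨g, Subgroup.subset_closure ⟨σ, hσ, hg⟩, _, hg ▸ permMat_isMono σ⟩
  | one => exact ⟨1, Subgroup.one_mem _, fun _ => 1, by rw [mt_one]; exact isMono_one⟩
  | mul σ τ _ _ ih1 ih2 =>
    obtain ⟨w1, hw1, e1, h1⟩ := ih1
    obtain ⟨w2, hw2, e2, h2⟩ := ih2
    exact ⟨w1 * w2, Subgroup.mul_mem _ hw1 hw2, _, by rw [mt_mul]; exact isMono_mul h1 h2⟩
  | inv σ _ ih =>
    obtain ⟨w, hw, e, h⟩ := ih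
    exact ⟨w⁻¹, Subgroup.inv_mem _ hw, _, isMono_inv' (mt_inv_mul w) h⟩

theorem gen_mulVec_diag {g : Matrix (Idx m) (Idx m) F} {e : Idx m → F} (h : IsMono g 1 e)
    (v : Idx m → F) (a : Idx m) : (g *ᵥ v) a = e a * v a := by
  rw [Matrix.mulVec, dotProduct, Finset.sum_eq_single a]
  · rw [h a a, Equiv.Perm.one_apply, if_pos rfl]
  · intro s _ hs
    rw [h a s, Equiv.Perm.one_apply, if_neg (Ne.symm hs), zero_mul]
  · intro ha
    exact absurd (Finset.mem_univ a) ha

/-- a monomial isometry with trivial permutation lies in `B ⊓ N` -/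
theorem gen_diag_mem {g : OG F m} {e : Idx m → F} (h : IsMono (mt g) 1 e) :
    g ∈ Bo F m ⊓ No F m := by
  have hne : ∀ s, e s ≠ 0 := isMono_coeff_ne_zero (mt_inv_mul g) h
  refine Subgroup.mem_inf.mpr ⟨?_, 1, e, h, Equiv.Perm.sign_one⟩
  unfold Bo
  rw [Subgroup.mem_iInf]
  intro k v
  change _ ↔ mt g *ᵥ v ∈ _
  simp only [Set.mem_ofPred_eq, gen_mulVec_diag h]
  constructor
  · rintro ⟨h1, h2⟩
    exact ⟨fun i hi => by rw [h1 i hi, mul_zero], fun i => by rw [h2 i, mul_zero]⟩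
  · rintro ⟨h1, h2⟩
    refine ⟨fun i hi => ?_, fun i => ?_⟩
    · rcases mul_eq_zero.mp (h1 i hi) with h0 | h0
      · exact absurd h0 (hne _)
      · exact h0
    · rcases mul_eq_zero.mp (h2 i) with h0 | h0
      · exact absurd h0 (hne _)
      · exact h0

/-- LEAF GEN with the leaves MONOSWAP, WEYLD, PERM as hypotheses -/
theorem gen_core
    (hMONO : ∀ (g : OG F m) (π : Equiv.Perm (Idx m)) (d : Idx m → F), IsMono (mt g) π d →
      ∀ a, π a.swap = (π a).swap)
    (hWEYL : ∀ π : Equiv.Perm (Idx m), (∀ a, π a.swap = (π a).swap) → Equiv.Perm.sign π = 1 →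
      π ∈ Subgroup.closure {σ : Equiv.Perm (Idx m) | IsSimpleGenD σ})
    (hPERM : ∀ π : Equiv.Perm (Idx m), (∀ a, π a.swap = (π a).swap) →
      ∃ g : OG F m, mt g = permMat F π) :
    Subgroup.closure (So F m) ⊔ (Bo F m ⊓ No F m) = No F m := by
  apply le_antisymm
  · apply sup_le
    · rw [Subgroup.closure_le]
      exact gen_So_subset_No
    · exact inf_le_right
  · intro n hn
    obtain ⟨π, d, hnm, hsign⟩ := hn
    obtain ⟨w, hw, e, hwm⟩ := gen_lift (F := F) hPERM (hWEYL π (hMONO n π d hnm) hsign)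
    have h1 := isMono_mul (isMono_inv' (mt_inv_mul w) hwm) hnm
    rw [← mt_mul] at h1
    have h2 : π.symm * π = 1 := by
      ext a
      simp
    rw [h2] at h1
    have h3 : n = w * (w⁻¹ * n) := by group
    rw [h3]
    exact Subgroup.mul_mem_sup hw (gen_diag_mem h1)

end Cfsg.Agent.Lib.Helper40.OpBN
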