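import Mathlib
import Cfsg.Agent.Lib.Helper40.OpBNDefs
import Cfsg.Agent.Lib.Helper97.OpBN_GENcore
import Cfsg.Agent.Lib.Helper2.OpBN_MONOSWAP
import Cfsg.Agent.Lib.Helper43.OpBN_WEYLD
import Cfsg.Agent.Lib.Helper40.OpBN_PERM

/-! # S2548 hive (helper40, OpBN), LEAF GEN (helper97): `closure S ⊔ (B ⊓ N) = N`, from `gen_core`
(Helper97.OpBN_GENcore) and the leaves MONOSWAP (helper2), WEYLD (helper43), PERM (helper40). -/

set_option autoImplicit false

namespace Cfsg.Agent.Lib.Helper40.OpBN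

open Matrix Cfsg Cfsg.Agent.Lib.Helper13 Cfsg.Agent.Lib.Helper41.SpBN

variable {F : Type*} [Field F] {m : ℕ}

theorem closure_So_sup : Subgroup.closure (So F m) ⊔ (Bo F m ⊓ No F m) = No F m :=
  gen_core (fun _ _ _ h => (isMono_swap h).1) weylD_gen exists_perm

end Cfsg.Agent.Lib.Helper40.OpBN
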