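import Mathlib
import Cfsg.Agent.Lib.Helper40.OpBNDefs
import Cfsg.Agent.Lib.Helper97.OpBN_GENcore
import Cfsg.Agent.Lib.Helper2.OpBN_TORUS1core

/-! # S2548 hive (helper40, OpBN), LEAF INJ (helper97): distinct simple reflections are distinct modulo `B`. -/

set_option autoImplicit false

namespace Cfsg.Agent.Lib.Helper40.OpBN

open Matrix Cfsg Cfsg.Agent.Lib.Helper13 Cfsg.Agent.Lib.Helper41.SpBN

variable {F : Type*} [Field F] {m : ℕ}

theorem inj_symm_swap {σ : Equiv.Perm (Idx m)} (hσ : ∀ a, σ a.swap = (σ a).swap) (a : Idx m) :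
    σ.symm a.swap = (σ.symm a).swap := by
  rw [Equiv.symm_apply_eq, hσ, Equiv.apply_symm_apply]

theorem So_inj : ∀ s ∈ So F m, ∀ s' ∈ So F m, s⁻¹ * s' ∈ Bo F m → s = s' := by
  rintro s ⟨σ, hσ, hs⟩ s' ⟨σ', hσ', hs'⟩ hB
  have h1 : IsMono (mt s) σ (fun _ => 1) := hs ▸ permMat_isMono σ
  have h2 : IsMono (mt s') σ' (fun _ => 1) := hs' ▸ permMat_isMono σ'
  have h3 := isMono_mul (isMono_inv' (mt_inv_mul s) h1) h2
  rw [← mt_mul] at h3
  have hsw : ∀ a, (σ.symm * σ') a.swap = ((σ.symm * σ') a).swap := by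
    intro a
    rw [Equiv.Perm.mul_apply, Equiv.Perm.mul_apply, gen_isSimpleGenD_swap hσ',
      inj_symm_swap (gen_isSimpleGenD_swap hσ)]
  have h4 : σ.symm * σ' = 1 := torus1_core hB h3 hsw
  have h5 : σ' = σ := by
    ext a
    have := congrArg (fun τ : Equiv.Perm (Idx m) => σ (τ a)) h4
    simpa using this
  apply mt_ext
  rw [hs, hs', h5]

end Cfsg.Agent.Lib.Helper40.OpBN
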