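import Mathlib
import Cfsg.Agent.Lib.Helper40.OpBNDefs
import Cfsg.Agent.Lib.Helper97.OpBN_GENcore

/-! # S2548 hive (helper40, OpBN), LEAF SQ (helper97): the simple reflections are involutions. -/

set_option autoImplicit false

namespace Cfsg.Agent.Lib.Helper40.OpBN

open Matrix Cfsg Cfsg.Agent.Lib.Helper13 Cfsg.Agent.Lib.Helper41.SpBN

variable {F : Type*} [Field F] {m : ℕ}

theorem sq_simpleShort_invol (k k' : Fin m) (hkk : k ≠ k') (a : Idx m) :
    simpleShort k k' (simpleShort k k' a) = a := by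
  unfold simpleShort
  have hkk' : k' ≠ k := hkk.symm
  rcases a with i | i <;> by_cases h1 : i = k <;> by_cases h2 : i = k' <;>
    simp_all [Equiv.swap_apply_def, eq_comm]

theorem sq_simpleD_invol (k k' : Fin m) (hkk : k ≠ k') (a : Idx m) :
    simpleD k k' (simpleD k k' a) = a := by
  unfold simpleD
  have hkk' : k' ≠ k := hkk.symm
  rcases a with i | i <;> by_cases h1 : i = k <;> by_cases h2 : i = k' <;>
    simp_all [Equiv.swap_apply_def, eq_comm]

theorem sq_isSimpleGenD_mul_self {σ : Equiv.Perm (Idx m)} (hσ : IsSimpleGenD σ) : σ * σ = 1 := by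
  ext a
  rw [Equiv.Perm.mul_apply, Equiv.Perm.one_apply]
  rcases hσ with ⟨k, k', hkk, rfl⟩ | ⟨k, k', hkk, _, rfl⟩
  · rw [sq_simpleShort_invol k k' (gen_ne_of_succ hkk)]
  · rw [sq_simpleD_invol k k' (gen_ne_of_succ hkk)]

/-- the simple reflections have square `1` -/
theorem sq_mul_self : ∀ s ∈ So F m, s * s = 1 := by
  rintro s ⟨σ, hσ, hs⟩
  apply mt_ext
  rw [mt_mul, mt_one, hs]
  have h1 := isMono_mul (permMat_isMono (F := F) σ) (permMat_isMono (F := F) σ)
  rw [sq_isSimpleGenD_mul_self hσ] at h1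
  ext a c
  rw [h1 a c, Equiv.Perm.one_apply, Matrix.one_apply, mul_one]

theorem So_sq_mem : ∀ s ∈ So F m, s * s ∈ Bo F m := by
  intro s hs
  rw [sq_mul_self s hs]
  exact Subgroup.one_mem _

end Cfsg.Agent.Lib.Helper40.OpBN
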