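import Mathlib
import Cfsg.Agent.Lib.Helper40.OpBNDefs
import Cfsg.Agent.Lib.Helper97.OpBN_GENcore

/-! # S2548 hive (helper40, OpBN), LEAF SUBN (helper97): the simple reflections lie in `N`. -/

set_option autoImplicit false

namespace Cfsg.Agent.Lib.Helper40.OpBN

open Matrix Cfsg Cfsg.Agent.Lib.Helper13 Cfsg.Agent.Lib.Helper41.SpBN

variable {F : Type*} [Field F] {m : ℕ}

theorem So_subset_No : So F m ⊆ (No F m : Set (OG F m)) := gen_So_subset_No

end Cfsg.Agent.Lib.Helper40.OpBN
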