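import Mathlib
import Cfsg.Agent.Lib.Helper41.OmBNDefs
import Cfsg.Agent.Lib.Helper43.SpBN_WEYL
import Cfsg.Agent.Lib.Helper97.SpBN_GENcore

/-! # S2549 hive (helper41, OmBN), LEAF GEN, core part (helper97): `closure S ⊔ (B ⊓ N) = N` from the leaves
NSYMM and PERM taken as hypotheses (the Weyl group generation `weyl_gen` of helper43 is used as it is). -/

set_option autoImplicit false

namespace Cfsg.Agent.Lib.Helper41.OmBN

open Matrix Cfsg Cfsg.Agent.Lib.Helper13 Cfsg.Agent.Lib.Helper8 Cfsg.Agent.Lib.Helper43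
  Cfsg.Agent.Lib.Helper41.SpBN

variable {F : Type*} [Field F] {m : ℕ} {a b : F}

theorem gen_S_subset_N : So F m a b ⊆ (No F m a b : Set (OG F m a b)) := by
  rintro g ⟨σ, -, hg⟩
  exact ⟨σ, fun _ => 1, hg ▸ permBlock_isBMono σ⟩

/-- every element of the closure of the simple generators is the permutation of an element of `closure S` -/
theorem gen_lift
    (hPERM : ∀ σ : Equiv.Perm (Idx m), (∀ s, σ s.swap = (σ s).swap) →
      ∃ g : OG F m a b, mat g = permBlock σ)
    {σ : Equiv.Perm (Idx m)}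
    (hσ : σ ∈ Subgroup.closure {σ : Equiv.Perm (Idx m) | IsSimpleGen σ}) :
    ∃ w ∈ Subgroup.closure (So F m a b), ∃ e : Idx m → F, IsBMono (mat w) σ e := by
  induction hσ using Subgroup.closure_induction with
  | mem σ hσ =>
    obtain ⟨g, hg⟩ := hPERM σ (gen_isSimpleGen_swap hσ)
    exact ⟨g, Subgroup.subset_closure ⟨σ, hσ, hg⟩, _, hg ▸ permBlock_isBMono σ⟩
  | one => exact ⟨1, Subgroup.one_mem _, fun _ => 1, isBMono_one⟩
  | mul σ τ _ _ ih1 ih2 =>
    obtain ⟨w1, hw1, e1, h1⟩ := ih1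
    obtain ⟨w2, hw2, e2, h2⟩ := ih2
    exact ⟨w1 * w2, Subgroup.mul_mem _ hw1 hw2, _, isBMono_mul h1 h2⟩
  | inv σ _ ih =>
    obtain ⟨w, hw, e, h⟩ := ih
    exact ⟨w⁻¹, Subgroup.inv_mem _ hw, _, isBMono_inv (mat_inv_mul w) (mat_mul_inv w) h⟩

/-- a block monomial isometry with trivial permutation lies in `B ⊓ N` -/
theorem gen_diag_mem {g : OG F m a b} {e : Idx m → F} (h : IsBMono (mat g) 1 e) :
    g ∈ Bo F m a b ⊓ No F m a b := by
  refine Subgroup.mem_inf.mpr ⟨?_, 1, e, h⟩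
  rw [mem_Bo_iff]
  obtain ⟨h1, h2, h3⟩ := h
  rintro (i | i) (j | j) hij
  · have h4 := h1 i j
    rw [Equiv.Perm.one_apply] at h4
    change mat g (Sum.inl i) (Sum.inl j) = 0
    have h5 : mat g (Sum.inl i) (Sum.inl j) = (mat g).toBlocks₁₁ i j := rfl
    rw [h5, h4, if_neg]
    rintro rfl
    exact lt_irrefl _ hij
  · have h5 : mat g (Sum.inl i) (Sum.inr j) = (mat g).toBlocks₁₂ i j := rfl
    rw [h5, h2]
    rfl
  · have h5 : mat g (Sum.inr i) (Sum.inl j) = (mat g).toBlocks₂₁ i j := rfl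
    rw [h5, h3]
    rfl
  · exfalso
    simp only [oord_w] at hij
    exact lt_irrefl _ hij

/-- LEAF GEN with the leaves NSYMM and PERM as hypotheses -/
theorem gen_core
    (hNSYMM : ∀ (g : OG F m a b) (π : Equiv.Perm (Idx m)) (d : Idx m → F), IsBMono (mat g) π d →
      ∀ s, π s.swap = (π s).swap)
    (hPERM : ∀ σ : Equiv.Perm (Idx m), (∀ s, σ s.swap = (σ s).swap) →
      ∃ g : OG F m a b, mat g = permBlock σ) :
    Subgroup.closure (So F m a b) ⊔ (Bo F m a b ⊓ No F m a b) = No F m a b := by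
  apply le_antisymm
  · apply sup_le
    · rw [Subgroup.closure_le]
      exact gen_S_subset_N
    · exact inf_le_right
  · intro n hn
    obtain ⟨π, d, hnm⟩ := hn
    obtain ⟨w, hw, e, hwm⟩ := gen_lift (F := F) (a := a) (b := b) hPERM
      (weyl_gen π (hNSYMM n π d hnm))
    have h1 := isBMono_mul (isBMono_inv (mat_inv_mul w) (mat_mul_inv w) hwm) hnm
    rw [← mat_mul] at h1
    have h2 : π.symm * π = 1 := by
      ext s
      simp
    rw [h2] at h1
    have h3 : n = w * (w⁻¹ * n) := by group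
    rw [h3]
    exact Subgroup.mul_mem_sup hw (gen_diag_mem h1)

end Cfsg.Agent.Lib.Helper41.OmBN
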