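import Mathlib
import Cfsg.Agent.Lib.Helper41.OmBNDefs

/-! # S2549 hive (helper41, OmBN), LEAF NSYMM (helper97): the permutation of a block monomial isometry commutes
with `e_i ↔ f_i`, and `d s * d s.swap = 1`. -/

set_option autoImplicit false

namespace Cfsg.Agent.Lib.Helper41.OmBN

open Matrix Cfsg Cfsg.Agent.Lib.Helper13 Cfsg.Agent.Lib.Helper8 Cfsg.Agent.Lib.Helper43
  Cfsg.Agent.Lib.Helper41.SpBN

variable {F : Type*} [Field F] {m : ℕ} {a b : F}

theorem nsymm_polar_single (s : Idx m) (y : MIdx m → F) :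
    QuadraticMap.polar (⇑(minusForm m F a b)) (Pi.single (Sum.inl s) 1) y = y (Sum.inl s.swap) := by
  rcases s with i | i
  · exact polar_minusForm_inl m F a b i y
  · exact polar_minusForm_inr m F a b i y

theorem nsymm_mulVec_single {M : Matrix (MIdx m) (MIdx m) F} {π : Equiv.Perm (Idx m)} {d : Idx m → F}
    (h : IsBMono M π d) (s : Idx m) :
    M *ᵥ Pi.single (Sum.inl s) 1 = d s • Pi.single (Sum.inl (π s)) 1 := by
  obtain ⟨h1, _, h3⟩ := h
  ext t
  rw [Matrix.mulVec_single_one, Matrix.col_apply, Pi.smul_apply, smul_eq_mul]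
  rcases t with t | j
  · have h5 : M (Sum.inl t) (Sum.inl s) = M.toBlocks₁₁ t s := rfl
    rw [h5, h1 t s]
    by_cases hts : t = π s
    · rw [if_pos hts, hts, Pi.single_eq_same, mul_one]
    · rw [if_neg hts, Pi.single_eq_of_ne (fun e => hts (Sum.inl_injective e)), mul_zero]
  · have h5 : M (Sum.inr j) (Sum.inl s) = M.toBlocks₂₁ j s := rfl
    rw [h5, h3, Pi.single_eq_of_ne Sum.inr_ne_inl, mul_zero]
    rfl

theorem N_symm {g : OG F m a b} {π : Equiv.Perm (Idx m)} {d : Idx m → F} (h : IsBMono (mat g) π d) :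
    (∀ s, π s.swap = (π s).swap) ∧ ∀ s, d s * d s.swap = 1 := by
  have key : ∀ s, π s.swap = (π s).swap ∧ d s * d s.swap = 1 := by
    intro s
    have h1 := iso_polar (minusForm m F a b) g (Pi.single (Sum.inl s) 1) (Pi.single (Sum.inl s.swap) 1)
    change QuadraticMap.polar (⇑(minusForm m F a b)) (mat g *ᵥ _) (mat g *ᵥ _) = _ at h1
    rw [nsymm_mulVec_single h, nsymm_mulVec_single h, QuadraticMap.polar_smul_left,
      QuadraticMap.polar_smul_right, nsymm_polar_single, nsymm_polar_single, Pi.single_eq_same,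
      smul_eq_mul, smul_eq_mul] at h1
    by_cases hs : π s.swap = (π s).swap
    · refine ⟨hs, ?_⟩
      rw [hs, Pi.single_eq_same, mul_one] at h1
      exact h1
    · exfalso
      rw [Pi.single_eq_of_ne (fun e => hs (Sum.inl_injective e).symm), mul_zero, mul_zero] at h1
      exact zero_ne_one h1
  exact ⟨fun s => (key s).1, fun s => (key s).2⟩

end Cfsg.Agent.Lib.Helper41.OmBN
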