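import Mathlib
import Cfsg.Agent.Lib.Helper41.OmBNDefs

/-! # S2549 hive (helper41, OmBN), LEAF PERM (helper97): the block permutation matrix of a permutation of the
`e_i, f_i` commuting with `e_i ↔ f_i` is an isometry of the minus form. -/

set_option autoImplicit false

namespace Cfsg.Agent.Lib.Helper41.OmBN

open Matrix Cfsg Cfsg.Agent.Lib.Helper13 Cfsg.Agent.Lib.Helper8 Cfsg.Agent.Lib.Helper43
  Cfsg.Agent.Lib.Helper41.SpBN

variable {F : Type*} [Field F] {m : ℕ} {a b : F}

theorem perm_permMat_mulVec (π : Equiv.Perm (Idx m)) (v : Idx m → F) (t : Idx m) :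
    ((permMat π : Matrix (Idx m) (Idx m) F) *ᵥ v) t = v (π.symm t) := by
  unfold permMat
  rw [Matrix.mulVec, dotProduct]
  simp only [Matrix.of_apply]
  rw [Finset.sum_eq_single (π.symm t)]
  · simp
  · intro s _ hs
    rw [if_neg, zero_mul]
    intro h
    apply hs
    rw [h, Equiv.symm_apply_apply]
  · intro h
    exact absurd (Finset.mem_univ _) h

theorem perm_permMat_mul (π ρ : Equiv.Perm (Idx m)) :
    (permMat π : Matrix (Idx m) (Idx m) F) * permMat ρ = permMat (π * ρ) := by
  ext s t
  rw [Matrix.mul_apply]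
  unfold permMat
  simp only [Matrix.of_apply]
  rw [Finset.sum_eq_single (ρ t)]
  · by_cases h : s = π (ρ t) <;> simp [Equiv.Perm.mul_apply, h]
  · intro c _ hc
    rw [if_neg hc, mul_zero]
  · intro h
    exact absurd (Finset.mem_univ _) h

theorem perm_permMat_one : (permMat (1 : Equiv.Perm (Idx m)) : Matrix (Idx m) (Idx m) F) = 1 := by
  ext s t
  unfold permMat
  by_cases h : s = t <;> simp [Matrix.one_apply, h]

theorem perm_permBlock_mul (π ρ : Equiv.Perm (Idx m)) :
    (permBlock π : Matrix (MIdx m) (MIdx m) F) * permBlock ρ = permBlock (π * ρ) := by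
  unfold permBlock
  rw [Matrix.fromBlocks_multiply, perm_permMat_mul]
  simp

theorem perm_permBlock_one : (permBlock (1 : Equiv.Perm (Idx m)) : Matrix (MIdx m) (MIdx m) F) = 1 := by
  unfold permBlock
  rw [perm_permMat_one, Matrix.fromBlocks_one]

theorem perm_permBlock_mulVec_inl (π : Equiv.Perm (Idx m)) (x : MIdx m → F) (t : Idx m) :
    ((permBlock π : Matrix (MIdx m) (MIdx m) F) *ᵥ x) (Sum.inl t) = x (Sum.inl (π.symm t)) := by
  unfold permBlock
  rw [Matrix.fromBlocks_mulVec, Sum.elim_inl, Matrix.zero_mulVec, add_zero, perm_permMat_mulVec]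
  rfl

theorem perm_permBlock_mulVec_inr (π : Equiv.Perm (Idx m)) (x : MIdx m → F) (j : Fin 2) :
    ((permBlock π : Matrix (MIdx m) (MIdx m) F) *ᵥ x) (Sum.inr j) = x (Sum.inr j) := by
  unfold permBlock
  rw [Matrix.fromBlocks_mulVec, Sum.elim_inr, Matrix.zero_mulVec, zero_add, Matrix.one_mulVec]
  rfl

/-- the index of the pair of `s` -/
def permIdx (s : Idx m) : Fin m := Sum.elim id id s

theorem perm_term (v : Idx m → F) (s : Idx m) :
    v s * v s.swap = v (Sum.inl (permIdx s)) * v (Sum.inr (permIdx s)) := by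
  rcases s with i | i
  · rfl
  · simp [permIdx, mul_comm]

theorem perm_sum (π : Equiv.Perm (Idx m)) (hπ : ∀ s, π s.swap = (π s).swap) (v : Idx m → F) :
    ∑ i : Fin m, v (π.symm (Sum.inl i)) * v (π.symm (Sum.inr i)) =
      ∑ i : Fin m, v (Sum.inl i) * v (Sum.inr i) := by
  have hρ : ∀ s, π.symm s.swap = (π.symm s).swap := by
    intro s
    apply π.injective
    rw [Equiv.apply_symm_apply, hπ, Equiv.apply_symm_apply]
  set τ : Fin m → Fin m := fun i => permIdx (π.symm (Sum.inl i)) with hτ
  have hinj : Function.Injective τ := by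
    intro i j hij
    have h1 : ∀ s t : Idx m, permIdx s = permIdx t → s = t ∨ s = t.swap := by
      rintro (s | s) (t | t) h <;> simp [permIdx] at h <;> simp [h]
    rcases h1 _ _ hij with h | h
    · exact Sum.inl_injective (π.symm.injective h)
    · rw [← hρ] at h
      have := π.symm.injective h
      simp at this
  have hbij : Function.Bijective τ := hinj.bijective_of_finite
  have h2 : ∀ i : Fin m, v (π.symm (Sum.inl i)) * v (π.symm (Sum.inr i)) =
      v (Sum.inl (τ i)) * v (Sum.inr (τ i)) := by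
    intro i
    have : π.symm (Sum.inr i) = (π.symm (Sum.inl i)).swap := by
      rw [← hρ]; rfl
    rw [this, perm_term]
  rw [Finset.sum_congr rfl (fun i _ => h2 i)]
  exact (Equiv.ofBijective τ hbij).sum_comp (fun i => v (Sum.inl i) * v (Sum.inr i))

theorem perm_preserves (π : Equiv.Perm (Idx m)) (hπ : ∀ s, π s.swap = (π s).swap) (x : MIdx m → F) :
    minusForm m F a b ((permBlock π : Matrix (MIdx m) (MIdx m) F) *ᵥ x) = minusForm m F a b x := by
  rw [← minusForm_coe]
  unfold Cfsg.quadFormMinus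
  simp only [perm_permBlock_mulVec_inl, perm_permBlock_mulVec_inr]
  rw [perm_sum π hπ (fun s => x (Sum.inl s))]

theorem perm_exists (σ : Equiv.Perm (Idx m)) (hσ : ∀ s, σ s.swap = (σ s).swap) :
    ∃ g : OG F m a b, mat g = permBlock σ := by
  have h1 : (permBlock σ : Matrix (MIdx m) (MIdx m) F) * permBlock σ.symm = 1 := by
    rw [perm_permBlock_mul]
    have : σ * σ.symm = 1 := by ext s; simp
    rw [this, perm_permBlock_one]
  have h2 : (permBlock σ.symm : Matrix (MIdx m) (MIdx m) F) * permBlock σ = 1 := by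
    rw [perm_permBlock_mul]
    have : σ.symm * σ = 1 := by ext s; simp
    rw [this, perm_permBlock_one]
  refine ⟨⟨⟨permBlock σ, permBlock σ.symm, h1, h2⟩, ?_⟩, rfl⟩
  intro u _
  exact perm_preserves σ hσ u

end Cfsg.Agent.Lib.Helper41.OmBN
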