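import Mathlib
import Cfsg.Agent.Lib.Helper41.OmBNDefs
import Cfsg.Agent.Lib.Helper97.OmBN_GENcore
import Cfsg.Agent.Lib.Helper97.OmBN_NSYMM
import Cfsg.Agent.Lib.Helper97.OmBN_PERM

/-! # S2549 hive (helper41, OmBN), LEAF GEN (helper97): `closure S ⊔ (B ⊓ N) = N`, from `gen_core`
(Helper97.OmBN_GENcore) and the leaves NSYMM, PERM. -/

set_option autoImplicit false

namespace Cfsg.Agent.Lib.Helper41.OmBN

open Matrix Cfsg Cfsg.Agent.Lib.Helper13 Cfsg.Agent.Lib.Helper8 Cfsg.Agent.Lib.Helper43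
  Cfsg.Agent.Lib.Helper41.SpBN

variable {F : Type*} [Field F] {m : ℕ} {a b : F}

theorem closure_S_sup :
    Subgroup.closure (So F m a b) ⊔ (Bo F m a b ⊓ No F m a b) = No F m a b :=
  gen_core (fun _ _ _ h => (N_symm h).1) perm_exists

end Cfsg.Agent.Lib.Helper41.OmBN
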