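import Cfsg.Agent.Lib.Helper41.PSLnDefs

set_option autoImplicit false

namespace Cfsg.Agent.Lib.Helper41.PSLn

open Matrix

variable {n : ℕ} {K : Type*} [Field K] [Fintype K]

theorem t10_tv_mem_RRow {a j : Fin n} (haj : a ≠ j) (c : K) : tv haj c ∈ RRow n K a := by
  rw [mem_RRow]
  refine ⟨?_, ?_⟩
  · intro i hi l
    show (Matrix.SpecialLinearGroup.transvection haj c).1 i l = _
    rw [Matrix.SpecialLinearGroup.transvection_coe, Matrix.add_apply, Matrix.single_apply_of_ne,
      add_zero]
    rintro ⟨rfl, _⟩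
    exact hi rfl
  · show (Matrix.SpecialLinearGroup.transvection haj c).1 a a = 1
    rw [Matrix.SpecialLinearGroup.transvection_coe, Matrix.add_apply, Matrix.one_apply_eq,
      Matrix.single_apply_of_ne, add_zero]
    rintro ⟨_, h⟩
    exact haj h.symm

theorem t10_tv_mem_RCol {i b : Fin n} (hib : i ≠ b) (c : K) : tv hib c ∈ RCol n K b := by
  rw [mem_RCol]
  refine ⟨?_, ?_⟩
  · intro j hj k
    show (Matrix.SpecialLinearGroup.transvection hib c).1 k j = _
    rw [Matrix.SpecialLinearGroup.transvection_coe, Matrix.add_apply, Matrix.single_apply_of_ne,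
      add_zero]
    rintro ⟨_, rfl⟩
    exact hj rfl
  · show (Matrix.SpecialLinearGroup.transvection hib c).1 b b = 1
    rw [Matrix.SpecialLinearGroup.transvection_coe, Matrix.add_apply, Matrix.one_apply_eq,
      Matrix.single_apply_of_ne, add_zero]
    rintro ⟨h, _⟩
    exact hib h

omit [Fintype K] in
/-- commuting with a transvection, in matrix form -/
theorem t10_comm {i j : Fin n} (hij : i ≠ j) (g : SLn n K) (h : g * tv hij 1 = tv hij 1 * g) :
    g.1 * Matrix.single i j (1 : K) = Matrix.single i j (1 : K) * g.1 := by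
  have h1 : g.1 * (Matrix.SpecialLinearGroup.transvection hij (1 : K)).1 =
      (Matrix.SpecialLinearGroup.transvection hij (1 : K)).1 * g.1 := congrArg Subtype.val h
  rw [Matrix.SpecialLinearGroup.transvection_coe, Matrix.mul_add, Matrix.add_mul, Matrix.mul_one,
    Matrix.one_mul] at h1
  exact add_left_cancel h1

omit [Fintype K] in
/-- scalar part -/
theorem t10_assemble (a : Fin n) (g : SLn n K) (lam : K) (hdiag : ∀ i, g.1 i i = lam)
    (htri : g.1.BlockTriangular id) :
    lam ≠ 0 ∧ ∃ z zi : SLn n K, z ∈ Subgroup.center (SLn n K) ∧ z * zi = 1 ∧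
      ∀ i l, (zi * g).1 i l = lam⁻¹ * g.1 i l := by
  have hdet : lam ^ n = 1 := by
    have h1 := Matrix.det_of_isUpperTriangular htri
    rw [g.2] at h1
    rw [h1]
    simp only [hdiag, Finset.prod_const, Finset.card_univ, Fintype.card_fin]
  have hn : n ≠ 0 := by
    rintro rfl
    exact a.elim0
  have hlam : lam ≠ 0 := by
    rintro rfl
    rw [zero_pow hn] at hdet
    exact zero_ne_one hdet
  refine ⟨hlam, dg (fun _ => lam) (by rw [Finset.prod_const, Finset.card_univ, Fintype.card_fin, hdet]),
    dg (fun _ => lam⁻¹) (by rw [Finset.prod_const, Finset.card_univ, Fintype.card_fin, inv_pow, hdet, inv_one]),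
    ?_, ?_, ?_⟩
  · rw [Matrix.SpecialLinearGroup.mem_center_iff]
    refine ⟨lam, by rw [Fintype.card_fin, hdet], ?_⟩
    rw [Matrix.scalar_apply]
    rfl
  · apply Subtype.ext
    show Matrix.diagonal (fun _ => lam) * Matrix.diagonal (fun _ => lam⁻¹) = 1
    rw [Matrix.diagonal_mul_diagonal]
    simp only [mul_inv_cancel₀ hlam]
    exact Matrix.diagonal_one
  · intro i l
    show ((Matrix.diagonal (fun _ : Fin n => lam⁻¹) * g.1 : Matrix (Fin n) (Fin n) K)) i l = _
    rw [Matrix.diagonal_mul]

theorem centralizer_RRow {a : Fin n} (ha : ∀ i, a ≤ i) (g : SLn n K)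
    (hg : ∀ r ∈ RRow n K a, g * r = r * g) :
    ∃ z ∈ Subgroup.center (SLn n K), ∃ r ∈ RRow n K a, g = z * r := by
  classical
  have hrel : ∀ j : Fin n, a ≠ j → g.1 * Matrix.single a j (1 : K) = Matrix.single a j (1 : K) * g.1 :=
    fun j haj => t10_comm haj g (hg _ (t10_tv_mem_RRow haj 1))
  -- rows j ≠ a are scalar
  have hdiag : ∀ j, g.1 j j = g.1 a a := by
    intro j
    by_cases haj : a = j
    · rw [haj]
    · have := congrFun (congrFun (hrel j haj) a) j
      rw [Matrix.mul_single_apply_same, Matrix.single_mul_apply_same, mul_one, one_mul] at this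
      exact this.symm
  have hoff : ∀ j l : Fin n, a ≠ j → l ≠ j → g.1 j l = 0 := by
    intro j l haj hlj
    have := congrFun (congrFun (hrel j haj) a) l
    rw [Matrix.mul_single_apply_of_ne _ _ _ _ _ hlj, Matrix.single_mul_apply_same, one_mul] at this
    exact this.symm
  have htri : g.1.BlockTriangular id := by
    intro i l hli
    have hli' : l < i := hli
    have hai : a ≠ i := by
      rintro rfl
      exact absurd (ha l) (not_le.mpr hli')
    exact hoff i l hai (ne_of_lt hli')
  obtain ⟨hlam, z, zi, hz, hzzi, hent⟩ := t10_assemble a g (g.1 a a) hdiag htri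
  refine ⟨z, hz, zi * g, ?_, ?_⟩
  · rw [mem_RRow]
    refine ⟨?_, ?_⟩
    · intro i hi l
      rw [hent]
      by_cases hil : l = i
      · subst hil
        rw [hdiag l, inv_mul_cancel₀ hlam, Matrix.one_apply_eq]
      · rw [hoff i l (Ne.symm hi) hil, mul_zero, Matrix.one_apply_ne (Ne.symm hil)]
    · rw [hent, inv_mul_cancel₀ hlam]
  · rw [← mul_assoc, hzzi, one_mul]

theorem centralizer_RCol {b : Fin n} (hb : ∀ i, i ≤ b) (g : SLn n K)
    (hg : ∀ r ∈ RCol n K b, g * r = r * g) :
    ∃ z ∈ Subgroup.center (SLn n K), ∃ r ∈ RCol n K b, g = z * r := by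
  classical
  have hrel : ∀ i : Fin n, i ≠ b → g.1 * Matrix.single i b (1 : K) = Matrix.single i b (1 : K) * g.1 :=
    fun i hib => t10_comm hib g (hg _ (t10_tv_mem_RCol hib 1))
  have hdiag : ∀ i, g.1 i i = g.1 b b := by
    intro i
    by_cases hib : i = b
    · rw [hib]
    · have := congrFun (congrFun (hrel i hib) i) b
      rw [Matrix.mul_single_apply_same, Matrix.single_mul_apply_same, mul_one, one_mul] at this
      exact this
  have hoff : ∀ k i : Fin n, i ≠ b → k ≠ i → g.1 k i = 0 := by
    intro k i hib hki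
    have := congrFun (congrFun (hrel i hib) k) b
    rw [Matrix.mul_single_apply_same, Matrix.single_mul_apply_of_ne _ _ _ _ _ hki, mul_one] at this
    exact this
  have htri : g.1.BlockTriangular id := by
    intro k i hik
    have hik' : i < k := hik
    have hib : i ≠ b := by
      rintro rfl
      exact absurd (hb k) (not_le.mpr hik')
    exact hoff k i hib (ne_of_gt hik')
  obtain ⟨hlam, z, zi, hz, hzzi, hent⟩ := t10_assemble b g (g.1 b b) hdiag htri
  refine ⟨z, hz, zi * g, ?_, ?_⟩
  · rw [mem_RCol]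
    refine ⟨?_, ?_⟩
    · intro j hj i
      rw [hent]
      by_cases hij : i = j
      · subst hij
        rw [hdiag i, inv_mul_cancel₀ hlam, Matrix.one_apply_eq]
      · rw [hoff i j hj hij, mul_zero, Matrix.one_apply_ne hij]
    · rw [hent, inv_mul_cancel₀ hlam]
  · rw [← mul_assoc, hzzi, one_mul]

end Cfsg.Agent.Lib.Helper41.PSLn
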