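import Cfsg.Agent.Lib.Helper41.PSLnDefs

set_option autoImplicit false

namespace Cfsg.Agent.Lib.Helper41.PSLn

open Matrix

variable {n : ℕ} {K : Type*} [Field K] [Fintype K]

omit [Fintype K] in
theorem t2_entry (G H : Matrix (Fin n) (Fin n) K) (i j k l : Fin n) (c : K) :
    (G * Matrix.single i j c * H) k l = G k i * c * H j l := by
  rw [Matrix.mul_apply, Finset.sum_eq_single j]
  · rw [Matrix.mul_single_apply_same]
  · intro m _ hm
    rw [Matrix.mul_single_apply_of_ne _ _ _ _ _ hm, zero_mul]
  · intro h; exact absurd (Finset.mem_univ j) h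

theorem t2_tv_mem_UU {i j : Fin n} (hij : i < j) (c : K) : tv (ne_of_lt hij) c ∈ UU n K := by
  rw [mem_UU]
  refine ⟨?_, ?_⟩
  · intro a b hba
    show (Matrix.SpecialLinearGroup.transvection (ne_of_lt hij) c).1 a b = 0
    rw [Matrix.SpecialLinearGroup.transvection_coe, Matrix.add_apply,
      Matrix.one_apply_ne (ne_of_gt hba), zero_add, Matrix.single_apply_of_ne]
    rintro ⟨rfl, rfl⟩
    exact lt_asymm hij hba
  · intro a
    show (Matrix.SpecialLinearGroup.transvection (ne_of_lt hij) c).1 a a = 1
    rw [Matrix.SpecialLinearGroup.transvection_coe, Matrix.add_apply,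
      Matrix.one_apply_eq, Matrix.single_apply_of_ne, add_zero]
    rintro ⟨rfl, h⟩
    exact (ne_of_lt hij) h.symm

theorem mem_BB_of_normalizes (g : SLn n K) (hg : ∀ u ∈ UU n K, g * u * g⁻¹ ∈ UU n K) :
    g ∈ BB n K := by
  classical
  set G : Matrix (Fin n) (Fin n) K := g.1 with hG
  set H : Matrix (Fin n) (Fin n) K := (g⁻¹).1 with hH
  have hHG : H * G = 1 := by
    have : ((g⁻¹ * g : SLn n K) : Matrix (Fin n) (Fin n) K) = 1 := by
      rw [inv_mul_cancel]; rfl
    exact this
  have hGH : G * H = 1 := by
    have : ((g * g⁻¹ : SLn n K) : Matrix (Fin n) (Fin n) K) = 1 := by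
      rw [mul_inv_cancel]; rfl
    exact this
  have key : ∀ i j : Fin n, i < j → ∀ k l : Fin n, l ≤ k → G k i * H j l = 0 := by
    intro i j hij k l hlk
    have hu := hg _ (t2_tv_mem_UU hij (1 : K))
    rw [mem_UU] at hu
    have hcoe : ((g * tv (ne_of_lt hij) (1 : K) * g⁻¹ : SLn n K) : Matrix (Fin n) (Fin n) K) =
        1 + G * Matrix.single i j (1 : K) * H := by
      show G * (Matrix.SpecialLinearGroup.transvection (ne_of_lt hij) (1 : K)).1 * H = _
      rw [Matrix.SpecialLinearGroup.transvection_coe, Matrix.mul_add, Matrix.add_mul, Matrix.mul_one,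
        hGH]
    rcases lt_or_eq_of_le hlk with h | h
    · have := hu.1 k l h
      rw [hcoe, Matrix.add_apply, Matrix.one_apply_ne (ne_of_gt h), zero_add, t2_entry,
        mul_one] at this
      exact this
    · subst h
      have := hu.2 l
      rw [hcoe, Matrix.add_apply, Matrix.one_apply_eq, t2_entry, mul_one] at this
      exact left_eq_add.mp this.symm
  have hex : ∀ i : Fin n, ∃ k : Fin n, H i k * G k i ≠ 0 := by
    intro i
    by_contra hcon
    push Not at hcon
    have h1 : (H * G) i i = 0 := by
      rw [Matrix.mul_apply]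
      exact Finset.sum_eq_zero (fun k _ => hcon k)
    rw [hHG, Matrix.one_apply_eq] at h1
    exact one_ne_zero h1
  choose w hw using hex
  have hmono : StrictMono w := by
    intro i j hij
    by_contra hcon
    have hle : w j ≤ w i := not_lt.mp hcon
    have h0 := key i j hij (w i) (w j) hle
    rcases mul_eq_zero.mp h0 with h | h
    · exact hw i (by rw [h, mul_zero])
    · exact hw j (by rw [h, zero_mul])
  have hwid : ∀ i, w i = i := fun i => hmono.apply_eq
  rw [mem_BB]
  intro k i hik
  have h0 := key i k hik k k le_rfl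
  rcases mul_eq_zero.mp h0 with h | h
  · exact h
  · exfalso
    have := hw k
    rw [hwid k, h, zero_mul] at this
    exact this rfl

end Cfsg.Agent.Lib.Helper41.PSLn
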