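import Cfsg.Agent.Lib.Helper97.Stn_WHH
import Cfsg.Agent.Lib.Helper13.Stn_HONE
import Cfsg.Agent.Lib.Helper69.Stn_HWW

/-! # Stn hive (S2401, helper41), leaf STN-H-REL (helper97): `hh_rel` -/

set_option autoImplicit false

namespace Cfsg.Agent.Lib.Helper41.Stn

open Matrix

variable {K : Type*} [Field K] {n : ℕ}

/-- STN-H-REL: `h_il(t) = h_jl(t) h_ij(t)` for distinct `i, j, l`
(`w_ij(1) h_jl(t) w_ij(1)⁻¹ = h_il(t)` by STN-W-HH, and `h_jl(t)⁻¹ w_ij(1) h_jl(t) = w_ij(t)` by STN-H-WW). -/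
theorem hh_rel (hn : 3 ≤ n) {i j l : Fin n} (hij : i ≠ j) (hjl : j ≠ l) (hil : i ≠ l) {t : K}
    (ht : t ≠ 0) : hh i l t = hh j l t * hh i j t :=
  hrel_core ww_inv hh_one
    (fun {_ _} hij {_} ht {_ _} hkl {_} hu => ww_conj_hh hn hij ht hkl hu)
    (fun {_ _} hij {_} ht {_ _} hkl {_} hu => hh_conj_ww hn hij ht hkl hu) hij hjl hil ht

end Cfsg.Agent.Lib.Helper41.Stn
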