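import Cfsg.Agent.Lib.Helper97.FwCONJcore
import Cfsg.Agent.Lib.Helper51.FwINVY
import Cfsg.Agent.Lib.Helper29.FwT0

/-! # Fw hive (S3211, helper43): leaf FW-CONJ (helper97): exact-name wrapper of `conj_t0_core` -/

set_option autoImplicit false

namespace Cfsg.Agent.Lib.Helper43.Fw

variable {G : Type*} [Group G] {L₁ L₂ : Subgroup G} {j n : G}

/-- FW-CONJ: every involution `s ≠ j` of `C` is `C`-conjugate to `t₀` (inv_mem_Y + invY; orderOf s = 2 ↔ s*s = 1 ∧ s ≠ 1). -/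
theorem conj_t0 (h : Setup L₁ L₂ j n) (x₁ : G) (hx : x₁ ∈ L₁) (hxx : x₁ * x₁ = j)
    (s : G) (hs : s ∈ Subgroup.centralizer ({j} : Set G)) (hss : s * s = 1) (hs1 : s ≠ 1) (hsj : s ≠ j) :
    ∃ c ∈ Subgroup.centralizer ({j} : Set G), c * s * c⁻¹ = t0 n x₁ := by
  obtain ⟨hT1, hT2, hT3, hT4, -⟩ := t0_props h x₁ hx hxx
  exact conj_t0_core h x₁ (inv_mem_Y h) hT1 hT2 hT3 hT4 s hs hss hs1 hsj

end Cfsg.Agent.Lib.Helper43.Fw
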