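import Mathlib

/-!
# Frobenius complements and the six quotient types, part 4: groups with a self-centralizing
normal Klein four subgroup
-/

set_option autoImplicit false
set_option linter.unusedSectionVars false
set_option linter.style.haveILetI false
set_option linter.deprecated false

namespace Cfsg.Agent.Lib.Helper97.FC

open Subgroup

section General

variable {G : Type*} [Group G]

theorem ker_conjNormal (L : Subgroup G) [L.Normal] :
    (MulAut.conjNormal : G →* MulAut L).ker = centralizer (L : Set G) := by
  ext g
  rw [MonoidHom.mem_ker, Subgroup.mem_centralizer_iff]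
  constructor
  · intro h x hx
    have h1 : (MulAut.conjNormal g : MulAut L) ⟨x, hx⟩ = ⟨x, hx⟩ := by rw [h]; rfl
    have h2 : g * x * g⁻¹ = x := by
      have := congrArg Subtype.val h1
      rwa [MulAut.conjNormal_apply] at this
    calc x * g = g * x * g⁻¹ * g := by rw [h2]
      _ = g * x := by group
  · intro h
    apply MulEquiv.ext
    intro x
    apply Subtype.ext
    rw [MulAut.conjNormal_apply]
    show g * x * g⁻¹ = x
    have := h x x.2
    calc g * x * g⁻¹ = x * g * g⁻¹ := by rw [this]
      _ = x := by group

/-- Automorphisms act on the non-identity elements. -/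
def autToPerm (V : Type*) [Group V] : MulAut V →* Equiv.Perm {v : V // v ≠ 1} where
  toFun φ := φ.toEquiv.subtypeEquiv (fun a => (MulEquiv.map_ne_one_iff φ).symm)
  map_one' := by ext; rfl
  map_mul' := fun φ ψ => by ext; rfl

theorem autToPerm_injective (V : Type*) [Group V] : Function.Injective (autToPerm V) := by
  intro φ ψ h
  apply MulEquiv.ext
  intro v
  by_cases hv : v = 1
  · rw [hv, map_one, map_one]
  · have := congrArg (fun σ : Equiv.Perm {v : V // v ≠ 1} => ((σ ⟨v, hv⟩ : {v : V // v ≠ 1}) : V)) h
    exact this

end General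

variable {Y : Type*} [Group Y] [Finite Y]

theorem index_dvd_six (V : Subgroup Y) [hVn : V.Normal] (hV4 : Nat.card V = 4)
    (hV2 : ∀ v ∈ V, v * v = 1) (hCV : centralizer (V : Set Y) ≤ V) : V.index ∣ 6 := by
  classical
  -- `V` is abelian
  have hVc : V ≤ centralizer (V : Set Y) := by
    intro v hv
    rw [Subgroup.mem_centralizer_iff]
    intro w hw
    have hinv : ∀ x ∈ V, x⁻¹ = x := fun x hx => inv_eq_of_mul_eq_one_left (hV2 x hx)
    calc w * v = (w * v)⁻¹ := (hinv _ (V.mul_mem hw hv)).symm
      _ = v⁻¹ * w⁻¹ := mul_inv_rev w v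
      _ = v * w := by rw [hinv v hv, hinv w hw]
  have hCeq : centralizer (V : Set Y) = V := le_antisymm hCV hVc
  let θ : Y →* Equiv.Perm {v : V // v ≠ 1} := (autToPerm V).comp MulAut.conjNormal
  have hker : θ.ker = V := by
    have h0 : θ.ker = centralizer (V : Set Y) := by
      rw [← ker_conjNormal V]
      ext g
      rw [MonoidHom.mem_ker, MonoidHom.mem_ker]
      constructor
      · intro h
        apply autToPerm_injective V
        rw [map_one]
        exact h
      · intro h
        show autToPerm V (MulAut.conjNormal g) = 1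
        rw [h, map_one]
    exact h0.trans hCeq
  have hfinV : Fintype V := Fintype.ofFinite V
  have hcard3 : Fintype.card {v : V // v ≠ 1} = 3 := by
    rw [Fintype.card_subtype_compl, Fintype.card_subtype_eq, ← Nat.card_eq_fintype_card, hV4]
  have hcard6 : Nat.card (Equiv.Perm {v : V // v ≠ 1}) = 6 := by
    rw [Nat.card_eq_fintype_card, Fintype.card_perm, hcard3]; rfl
  rw [← hker, Subgroup.index_ker, ← hcard6]
  exact Subgroup.card_subgroup_dvd_card _

/-- A finite group with a self-centralizing normal Klein four subgroup of index different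
from `2` is the Klein four group, `A₄` or `S₄`. -/
theorem klein_ident (V : Subgroup Y) [hVn : V.Normal] (hV4 : Nat.card V = 4)
    (hV2 : ∀ v ∈ V, v * v = 1) (hCV : centralizer (V : Set Y) ≤ V) (hidx : V.index ≠ 2) :
    Nonempty (Y ≃* DihedralGroup 2) ∨ Nonempty (Y ≃* alternatingGroup (Fin 4)) ∨
      Nonempty (Y ≃* Equiv.Perm (Fin 4)) := by
  classical
  have h6 := index_dvd_six V hV4 hV2 hCV
  have hcard : Nat.card V * V.index = Nat.card Y := Subgroup.card_mul_index V
  have hidx' : V.index = 1 ∨ V.index = 3 ∨ V.index = 6 := by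
    have h7 : V.index ∈ Nat.divisors 6 := by simp [h6]
    have h8 : Nat.divisors 6 = {1, 2, 3, 6} := by decide
    rw [h8] at h7
    simp only [Finset.mem_insert, Finset.mem_singleton] at h7
    tauto
  rcases hidx' with h1 | h36
  · left
    have hY4 : Nat.card Y = 4 := by rw [← hcard, hV4, h1]
    have htop : V = ⊤ := Subgroup.index_eq_one.mp h1
    have hexp : Monoid.exponent Y = 2 := by
      have hd : Monoid.exponent Y ∣ 2 := Monoid.exponent_dvd_of_forall_pow_eq_one (fun g => by
        rw [pow_two]; exact hV2 g (htop ▸ Subgroup.mem_top g))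
      rcases (Nat.dvd_prime Nat.prime_two).mp hd with h | h
      · exfalso
        have hs : Subsingleton Y := Monoid.exp_eq_one_iff.mp h
        have : Nat.card Y = 1 := Nat.card_eq_one_iff_unique.mpr ⟨hs, ⟨1⟩⟩
        omega
      · exact h
    haveI : IsKleinFour Y := ⟨hY4, hexp⟩
    exact IsKleinFour.nonempty_mulEquiv
  · right
    have hY : Nat.card Y = 12 ∨ Nat.card Y = 24 := by
      rcases h36 with h | h
      · left; rw [← hcard, hV4, h]
      · right; rw [← hcard, hV4, h]
    haveI h3 : Fact (Nat.Prime 3) := ⟨by norm_num⟩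
    obtain R : Sylow 3 Y := default
    have hR3 : Nat.card R = 3 := by
      obtain ⟨k, hk⟩ := R.isPGroup'.exists_card_eq
      have hdvd : Nat.card R ∣ Nat.card Y := Subgroup.card_subgroup_dvd_card _
      have hnd : ¬ 3 ∣ (R : Subgroup Y).index := R.not_dvd_index
      have hmul := Subgroup.card_mul_index (R : Subgroup Y)
      have hk1 : k = 1 := by
        rcases Nat.lt_or_ge k 2 with hlt | hge
        · interval_cases k
          · exfalso
            apply hnd
            rw [hk, pow_zero, one_mul] at hmul
            rw [hmul]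
            rcases hY with h | h <;> rw [h] <;> norm_num
          · rfl
        · exfalso
          have h9 : 3 ^ 2 ∣ Nat.card Y := by
            refine dvd_trans (pow_dvd_pow 3 hge) ?_
            rw [← hk]; exact hdvd
          rcases hY with h | h <;> rw [h] at h9 <;> omega
      rw [hk, hk1]; norm_num
    have hRidx : (R : Subgroup Y).index ∣ 8 := by
      have hmul := Subgroup.card_mul_index (R : Subgroup Y)
      rw [hR3] at hmul
      rcases hY with h | h <;> rw [h] at hmul
      · have : (R : Subgroup Y).index = 4 := by omega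
        rw [this]; norm_num
      · have : (R : Subgroup Y).index = 8 := by omega
        rw [this]
    have hn3mod : Nat.card (Sylow 3 Y) ≡ 1 [MOD 3] := card_sylow_modEq_one 3 Y
    have hn3dvd : Nat.card (Sylow 3 Y) ∣ 8 := dvd_trans (Sylow.card_dvd_index R) hRidx
    have hRV : (R : Subgroup Y) ⊓ V = ⊥ :=
      Subgroup.inf_eq_bot_of_coprime (by rw [hR3, hV4]; norm_num)
    -- a subgroup centralizing `V` is not `R`
    have hnotC : ¬ (R : Subgroup Y) ≤ centralizer (V : Set Y) := by
      intro hRC
      have := Subgroup.card_dvd_of_le (hRC.trans hCV)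
      rw [hR3, hV4] at this
      omega
    have hn3 : Nat.card (Sylow 3 Y) = 4 := by
      have hmod : Nat.card (Sylow 3 Y) % 3 = 1 := hn3mod
      have hne1 : Nat.card (Sylow 3 Y) ≠ 1 := by
        intro h1
        haveI : Subsingleton (Sylow 3 Y) := (Nat.card_eq_one_iff_unique.mp h1).1
        have hRn : (R : Subgroup Y).Normal := Sylow.normal_of_subsingleton R
        apply hnotC
        intro r hr
        rw [mem_centralizer_iff]
        intro v hv
        have hm : r * v * r⁻¹ * v⁻¹ ∈ (R : Subgroup Y) ⊓ V := by
          refine ⟨?_, ?_⟩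
          · have : r * v * r⁻¹ * v⁻¹ = r * (v * r⁻¹ * v⁻¹) := by group
            rw [this]
            exact R.mul_mem hr (hRn.conj_mem _ (R.inv_mem hr) v)
          · exact V.mul_mem (hVn.conj_mem _ hv r) (V.inv_mem hv)
        rw [hRV, mem_bot] at hm
        calc v * r = (r * v * r⁻¹ * v⁻¹)⁻¹ * (r * v) := by group
          _ = r * v := by rw [hm]; group
      have h7 : Nat.card (Sylow 3 Y) ∈ Nat.divisors 8 := by simp [hn3dvd]
      have h8 : Nat.divisors 8 = {1, 2, 4, 8} := by decide
      rw [h8] at h7
      simp only [Finset.mem_insert, Finset.mem_singleton] at h7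
      rcases h7 with h | h | h | h <;> omega
    let φ : Y →* Equiv.Perm (Sylow 3 Y) := MulAction.toPermHom Y (Sylow 3 Y)
    -- the kernel meets `V` trivially
    have hKV : ∀ v ∈ V, v ∈ φ.ker → v = 1 := by
      intro v hv hvk
      have hvR : v • R = R := by
        have := congrArg (fun σ : Equiv.Perm (Sylow 3 Y) => σ R) (MonoidHom.mem_ker.mp hvk)
        exact this
      have hvN : v ∈ normalizer ((R : Subgroup Y) : Set Y) := Sylow.smul_eq_iff_mem_normalizer.mp hvR
      have hvc : ∀ r ∈ R, v * r = r * v := by
        intro r hr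
        have h1 : v * r * v⁻¹ ∈ (R : Subgroup Y) := (mem_normalizer_iff.mp hvN r).mp hr
        have hm : v * r * v⁻¹ * r⁻¹ ∈ (R : Subgroup Y) ⊓ V := by
          refine ⟨R.mul_mem h1 (R.inv_mem hr), ?_⟩
          have : v * r * v⁻¹ * r⁻¹ = v * (r * v⁻¹ * r⁻¹) := by group
          rw [this]
          exact V.mul_mem hv (hVn.conj_mem _ (V.inv_mem hv) r)
        rw [hRV, mem_bot] at hm
        calc v * r = (v * r * v⁻¹ * r⁻¹) * (r * v) := by group
          _ = r * v := by rw [hm, one_mul]
      -- the action of `R` on `V`
      letI act : MulAction R V := MulAction.compHom V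
        ((MulAut.conjNormal (H := V) : Y →* MulAut V).comp (R : Subgroup Y).subtype)
      have hsmul : ∀ (r : R) (x : V), ((r • x : V) : Y) = r * x * (r : Y)⁻¹ := fun r x =>
        MulAut.conjNormal_apply (r : Y) x
      have hfp := R.isPGroup'.card_modEq_card_fixedPoints V
      rw [hV4] at hfp
      have hone : (1 : V) ∈ MulAction.fixedPoints R V := by
        intro r
        apply Subtype.ext
        rw [hsmul]
        simp
      have hvfix : (⟨v, hv⟩ : V) ∈ MulAction.fixedPoints R V := by
        intro r
        apply Subtype.ext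
        rw [hsmul]
        show (r : Y) * v * (r : Y)⁻¹ = v
        rw [← hvc r r.2]
        group
      have hle : Nat.card (MulAction.fixedPoints R V) ≤ 4 := by
        rw [← hV4]
        exact Nat.card_le_card_of_injective _ Subtype.val_injective
      have hpos : 0 < Nat.card (MulAction.fixedPoints R V) := by
        haveI : Nonempty (MulAction.fixedPoints R V) := ⟨⟨1, hone⟩⟩
        exact Nat.card_pos
      have hmod : Nat.card (MulAction.fixedPoints R V) % 3 = 1 := by
        have : 4 % 3 = Nat.card (MulAction.fixedPoints R V) % 3 := hfp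
        omega
      have hcases : Nat.card (MulAction.fixedPoints R V) = 1 ∨
          Nat.card (MulAction.fixedPoints R V) = 4 := by omega
      rcases hcases with hc1 | hc4
      · have hs : Subsingleton (MulAction.fixedPoints R V) := (Nat.card_eq_one_iff_unique.mp hc1).1
        have : (⟨⟨v, hv⟩, hvfix⟩ : MulAction.fixedPoints R V) = ⟨1, hone⟩ := Subsingleton.elim _ _
        have h2 := congrArg (fun x : MulAction.fixedPoints R V => ((x : V) : Y)) this
        exact h2
      · exfalso
        have hbij : Function.Bijective (Subtype.val : MulAction.fixedPoints R V → V) :=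
          Function.Injective.bijective_of_nat_card_le Subtype.val_injective (by rw [hc4, hV4])
        apply hnotC
        intro r hr
        rw [mem_centralizer_iff]
        intro x hx
        obtain ⟨⟨y, hy⟩, hyx⟩ := hbij.2 ⟨x, hx⟩
        have h1 := hy ⟨r, hr⟩
        have h2 : (((⟨r, hr⟩ : R) • y : V) : Y) = (y : Y) := congrArg (fun x : V => (x : Y)) h1
        rw [hsmul] at h2
        have hyx' : (y : Y) = x := congrArg (fun x : V => (x : Y)) hyx
        rw [hyx'] at h2
        calc x * r = r * x * r⁻¹ * r := by rw [h2]
          _ = r * x := by group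
    have hφker : φ.ker = ⊥ := by
      rw [eq_bot_iff]
      intro k hk
      rw [mem_bot]
      have hkn : φ.ker.Normal := inferInstance
      have hkC : k ∈ centralizer (V : Set Y) := by
        rw [mem_centralizer_iff]
        intro v hv
        have hm1 : k * v * k⁻¹ * v⁻¹ ∈ φ.ker := by
          have : k * v * k⁻¹ * v⁻¹ = k * (v * k⁻¹ * v⁻¹) := by group
          rw [this]
          exact φ.ker.mul_mem hk (hkn.conj_mem _ (φ.ker.inv_mem hk) v)
        have hm2 : k * v * k⁻¹ * v⁻¹ ∈ V := V.mul_mem (hVn.conj_mem _ hv k) (V.inv_mem hv)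
        have := hKV _ hm2 hm1
        calc v * k = (k * v * k⁻¹ * v⁻¹)⁻¹ * (k * v) := by group
          _ = k * v := by rw [this]; group
      exact hKV k (hCV hkC) hk
    have hφinj : Function.Injective φ := (MonoidHom.ker_eq_bot_iff φ).mp hφker
    have hfinS : Fintype (Sylow 3 Y) := Fintype.ofFinite _
    have hcardS : Fintype.card (Sylow 3 Y) = 4 := by
      rw [← Nat.card_eq_fintype_card]; exact hn3
    let σ : Sylow 3 Y ≃ Fin 4 := Fintype.equivFinOfCardEq hcardS
    have hcardP : Nat.card (Equiv.Perm (Sylow 3 Y)) = 24 := by
      rw [Nat.card_eq_fintype_card, Fintype.card_perm, hcardS]; rfl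
    rcases hY with h12 | h24
    · left
      have hr : Nat.card φ.range = 12 := by
        rw [← h12]
        exact (Nat.card_congr (MonoidHom.ofInjective hφinj).toEquiv).symm
      have hidx2 : φ.range.index = 2 := by
        have := Subgroup.card_mul_index φ.range
        rw [hr, hcardP] at this
        omega
      have hra : φ.range = alternatingGroup (Sylow 3 Y) :=
        Equiv.Perm.eq_alternatingGroup_of_index_eq_two hidx2
      exact ⟨(MonoidHom.ofInjective hφinj).trans
        ((MulEquiv.subgroupCongr hra).trans (Equiv.altCongrHom σ))⟩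
    · right
      have hbij : Function.Bijective φ :=
        Function.Injective.bijective_of_nat_card_le hφinj (by rw [h24, hcardP])
      exact ⟨(MulEquiv.ofBijective φ hbij).trans (Equiv.permCongrHom σ)⟩

end Cfsg.Agent.Lib.Helper97.FC
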