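import Mathlib
import Cfsg.Prelude.Def_GeometricClasses
import Cfsg.Agent.Lib.Helper44.OcDefs

/-! # Oc hive (helper44, S5977/S5978), LEAF OC-COMM (helper97) -/

set_option autoImplicit false
open scoped MatrixGroups
open Matrix Polynomial

namespace Cfsg.Agent.Lib.Helper44.Oc

universe v

variable {F : Type v} [Field F] {ι : Type} [Fintype ι] [DecidableEq ι]

theorem comm_pow_anti (J y : Matrix ι ι F) (h : y * J = -(J * y)) (k : ℕ) :
    y ^ k * J = (-1 : F) ^ k • (J * y ^ k) := by
  induction k with
  | zero => simp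
  | succ k ih =>
    rw [pow_succ, Matrix.mul_assoc, h, Matrix.mul_neg, ← Matrix.mul_assoc, ih, Matrix.smul_mul,
      Matrix.mul_assoc, pow_succ (-1 : F), mul_comm ((-1 : F) ^ k) (-1), mul_smul, neg_one_smul,
      ← smul_neg]

/-- OC-COMM : an element of odd order that commutes or anticommutes with `J` commutes with `J` -/
theorem commute_of_odd (h2 : (2 : F) ≠ 0) (J : Matrix ι ι F) (δ : F) (hδ0 : δ ≠ 0)
    (hJJ : J * J = δ • (1 : Matrix ι ι F)) (y : Matrix ι ι F) (n : ℕ) (hn : Odd n) (hyn : y ^ n = 1)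
    (h : y * J = J * y ∨ y * J = -(J * y)) : y * J = J * y := by
  rcases h with h | h
  · exact h
  · have h1 := comm_pow_anti J y h n
    rw [hyn, Matrix.one_mul, Matrix.mul_one, hn.neg_one_pow, neg_one_smul] at h1
    have h3 : (2 : F) • J = 0 := by
      rw [two_smul]
      nth_rewrite 1 [h1]
      exact neg_add_cancel J
    have h4 : J = 0 := by
      rcases smul_eq_zero.mp h3 with h5 | h5
      · exact absurd h5 h2
      · exact h5
    rw [h4, Matrix.mul_zero, Matrix.zero_mul]

end Cfsg.Agent.Lib.Helper44.Oc
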