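import Mathlib
import Cfsg.Prelude.Def_GeometricClasses
import Cfsg.Agent.Lib.Helper44.OcDefs
import Cfsg.Agent.Lib.Helper8.GUSpJ

/-! # Oc hive (helper44, S5977/S5978), LEAF OC-EVRK (helper97) -/

set_option autoImplicit false
open scoped MatrixGroups
open Matrix Polynomial

namespace Cfsg.Agent.Lib.Helper44.Oc

universe v

variable {F : Type v} [Field F] {ι : Type} [Fintype ι] [DecidableEq ι]

/-- OC-EVRK : a matrix commuting with `J` (`J² = δ` a nonsquare) has even rank -/
theorem even_rank_of_commute (δ : F) (hδ : ¬ IsSquare δ) (J M : Matrix ι ι F)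
    (hJJ : J * J = δ • (1 : Matrix ι ι F)) (hMJ : M * J = J * M) : Even M.rank := by
  unfold Matrix.rank
  apply Cfsg.Agent.Lib.Helper8.GUSp.even_finrank_of_sq (Matrix.mulVecLin J) δ hδ
  · intro v
    rw [Matrix.mulVecLin_apply, Matrix.mulVecLin_apply, Matrix.mulVec_mulVec, hJJ, Matrix.smul_mulVec,
      Matrix.one_mulVec]
  · rintro u ⟨w, rfl⟩
    refine ⟨J *ᵥ w, ?_⟩
    rw [Matrix.mulVecLin_apply, Matrix.mulVecLin_apply, Matrix.mulVecLin_apply, Matrix.mulVec_mulVec,
      Matrix.mulVec_mulVec, hMJ]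

end Cfsg.Agent.Lib.Helper44.Oc
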