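import Mathlib
import Cfsg.Prelude.Def_GeometricClasses
import Cfsg.Agent.Lib.Helper44.OcDefs

/-! # Oc hive (helper44, S5977/S5978), LEAF OC-SQ (helper97) -/

set_option autoImplicit false
open scoped MatrixGroups
open Matrix Polynomial

namespace Cfsg.Agent.Lib.Helper44.Oc

universe v

variable {F : Type v} [Field F] {ι : Type} [Fintype ι] [DecidableEq ι]

/-- a nondegenerate quadratic form on a nonzero space takes a nonzero value -/
theorem sq_exists_ne_zero (Q : (ι → F) → F) (hQ : Cfsg.Geo.IsNondegenerateQuadraticForm Q) [Nonempty ι] :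
    ∃ w : ι → F, Q w ≠ 0 := by
  obtain ⟨i⟩ := ‹Nonempty ι›
  have hv : (Pi.single i 1 : ι → F) ≠ 0 := by
    intro h
    have := congrFun h i
    rw [Pi.single_eq_same, Pi.zero_apply] at this
    exact one_ne_zero this
  obtain ⟨⟨x, hx⟩, _⟩ := hQ.nondegenerate _ hv
  by_contra hall
  rw [not_exists] at hall
  apply hx
  unfold QuadraticMap.polar
  rw [not_not.mp (hall _), not_not.mp (hall _), not_not.mp (hall _)]
  ring

/-- OC-SQ : an isometry with scalar square has square `±1` -/
theorem sq_scalar_cases (Q : (ι → F) → F) (hQ : Cfsg.Geo.IsNondegenerateQuadraticForm Q) [Nonempty ι]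
    (x : GL ι F) (hx : x ∈ Cfsg.isometryGroup F Q) (z : F)
    (hz : (x : Matrix ι ι F) * (x : Matrix ι ι F) = z • (1 : Matrix ι ι F)) : z = 1 ∨ z = -1 := by
  obtain ⟨w, hw⟩ := sq_exists_ne_zero Q hQ
  have h1 : ∀ u : ι → F, Q ((x : Matrix ι ι F) *ᵥ u) = Q u := fun u => hx u u
  have h2 : Q (z • w) = Q w := by
    have h3 := h1 ((x : Matrix ι ι F) *ᵥ w)
    rw [h1 w, Matrix.mulVec_mulVec, hz, Matrix.smul_mulVec, Matrix.one_mulVec] at h3
    exact h3
  rw [hQ.smul] at h2
  have h4 : (z - 1) * (z + 1) = 0 := by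
    have h5 : (z ^ 2 - 1) * Q w = 0 := by
      rw [sub_mul, h2, one_mul, sub_self]
    rcases mul_eq_zero.mp h5 with h6 | h6
    · rw [← h6]; ring
    · exact absurd h6 hw
  rcases mul_eq_zero.mp h4 with h | h
  · left
    exact sub_eq_zero.mp h
  · right
    exact eq_neg_of_add_eq_zero_left h

end Cfsg.Agent.Lib.Helper44.Oc
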