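import Mathlib
import Cfsg.Prelude.Def_GeometricClasses
import Cfsg.Agent.Lib.Helper44.UfDefs

/-! # S5982 hive (helper44), leaf UF-COMB: the exceptional combinatorics for `r = 3, 5` (helper97) -/

set_option autoImplicit false
set_option linter.unusedVariables false
open scoped MatrixGroups
open Matrix

namespace Cfsg.Agent.Lib.Helper44.Uf

universe v

variable {F : Type v} [Field F]

/-- the fifteen involutions of `Fin 5` with exactly one fixed point -/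
def comb_T : Fin 15 → Fin 5 → Fin 5 :=
  ![![0, 2, 1, 4, 3], ![0, 3, 4, 1, 2], ![0, 4, 3, 2, 1],
    ![2, 1, 0, 4, 3], ![3, 1, 4, 0, 2], ![4, 1, 3, 2, 0],
    ![1, 0, 2, 4, 3], ![3, 4, 2, 0, 1], ![4, 3, 2, 1, 0],
    ![1, 0, 4, 3, 2], ![2, 4, 0, 3, 1], ![4, 2, 1, 3, 0],
    ![1, 0, 3, 2, 4], ![2, 3, 0, 1, 4], ![3, 2, 1, 0, 4]]

theorem comb_T_invol : ∀ (t : Fin 15) (x : Fin 5), comb_T t (comb_T t x) = x := by
  decide

set_option maxRecDepth 100000 in
/-- the combinatorial core for `r = 5` -/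
theorem comb_core5 : ∀ a0 a1 a2 a3 a4 : Fin 5, a0 + a1 + a2 + a3 + a4 = 0 →
    ∃ (t : Fin 15) (s : Fin 5), ∀ x : Fin 5,
      ![a0, a1, a2, a3, a4] x + ![a0, a1, a2, a3, a4] (comb_T t x) = s := by
  decide

theorem comb_core5' (a : Fin 5 → Fin 5) (ha : a 0 + a 1 + a 2 + a 3 + a 4 = 0) :
    ∃ (t : Fin 15) (s : Fin 5), ∀ x : Fin 5, a x + a (comb_T t x) = s := by
  obtain ⟨t, s, h⟩ := comb_core5 (a 0) (a 1) (a 2) (a 3) (a 4) ha
  have e : ![a 0, a 1, a 2, a 3, a 4] = a := by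
    funext i
    fin_cases i <;> rfl
  rw [e] at h
  exact ⟨t, s, h⟩

/-- `d ^ q₀ = d` for an `r`-th root of unity when `r ∣ q₀ - 1` -/
theorem comb_pow_q₀ {q₀ r : ℕ} (hq : 1 ≤ q₀) (hr1 : r ∣ q₀ - 1) {x : F} (hx : x ^ r = 1) :
    x ^ q₀ = x := by
  obtain ⟨m, hm⟩ := hr1
  have e : q₀ = r * m + 1 := by omega
  rw [e, pow_succ, pow_mul, hx, one_pow, one_mul]

/-- UF-COMB -/
theorem exists_invol_of_exceptional [Fintype F] {q₀ : ℕ} (hF : Fintype.card F = q₀ ^ 2) (r : ℕ)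
    (hr : r = 3 ∨ r = 5) (hr1 : r ∣ q₀ - 1) (d : Fin r → F) (hd : ∀ i, d i ^ r = 1)
    (hprod : ∏ i, d i = 1) (hnc : ∃ i j, d i ≠ d j) :
    ∃ (ι : Fin r → Fin r) (c : F), (∀ i, ι (ι i) = i) ∧ c ≠ 0 ∧ ∀ i, d i * (d (ι i)) ^ q₀ = c := by
  have hq : 1 ≤ q₀ := by
    rcases Nat.eq_zero_or_pos q₀ with h0 | h0
    · exfalso
      rw [h0] at hF
      have : 1 < Fintype.card F := Fintype.one_lt_card
      omega
    · exact h0
  have hpw : ∀ i, d i ^ q₀ = d i := fun i => comb_pow_q₀ hq hr1 (hd i)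
  have hne : ∀ i, d i ≠ 0 := by
    intro i h0
    have := hd i
    rw [h0] at this
    rcases hr with rfl | rfl <;> simp at this
  rcases hr with rfl | rfl
  · -- `r = 3`
    refine ⟨![0, 2, 1], d 0 ^ 2, ?_, pow_ne_zero 2 (hne 0), ?_⟩
    · intro i; fin_cases i <;> rfl
    · have h3 : d 0 * d 1 * d 2 = 1 := by
        rw [Fin.prod_univ_three] at hprod; exact hprod
      have h0 : d 0 ^ 3 = 1 := hd 0
      have key : d 1 * d 2 = d 0 ^ 2 := by
        have : d 0 * (d 1 * d 2) = d 0 * d 0 ^ 2 := by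
          rw [← mul_assoc, h3, ← pow_succ', h0]
        exact mul_left_cancel₀ (hne 0) this
      intro i
      rw [hpw]
      fin_cases i
      · show d 0 * d 0 = d 0 ^ 2
        ring
      · show d 1 * d 2 = d 0 ^ 2
        exact key
      · show d 2 * d 1 = d 0 ^ 2
        rw [mul_comm]; exact key
  · -- `r = 5`
    obtain ⟨i0, j0, hij⟩ := hnc
    -- a nontrivial fifth root of unity
    obtain ⟨ζ, hζ5, hζ1⟩ : ∃ ζ : F, ζ ^ 5 = 1 ∧ ζ ≠ 1 := by
      by_cases h1 : d i0 = 1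
      · refine ⟨d j0, hd j0, ?_⟩
        intro h2
        exact hij (h1.trans h2.symm)
      · exact ⟨d i0, hd i0, h1⟩
    haveI : Fact (Nat.Prime 5) := ⟨by norm_num⟩
    have hord : orderOf ζ = 5 := orderOf_eq_prime hζ5 hζ1
    have hprim : IsPrimitiveRoot ζ 5 := by
      rw [← hord]; exact IsPrimitiveRoot.orderOf ζ
    -- exponents
    have hex : ∀ i, ∃ a : Fin 5, d i = ζ ^ (a : ℕ) := by
      intro i
      obtain ⟨k, hk, hke⟩ := hprim.eq_pow_of_pow_eq_one (hd i)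
      exact ⟨⟨k, hk⟩, hke.symm⟩
    choose a ha using hex
    have hζmod : ∀ n : ℕ, ζ ^ (n % 5) = ζ ^ n := by
      intro n
      conv_rhs => rw [← Nat.mod_add_div n 5, pow_add, pow_mul, hζ5, one_pow, mul_one]
    have hsum : a 0 + a 1 + a 2 + a 3 + a 4 = 0 := by
      have h5 : d 0 * d 1 * d 2 * d 3 * d 4 = 1 := by
        rw [Fin.prod_univ_five] at hprod; exact hprod
      rw [ha 0, ha 1, ha 2, ha 3, ha 4, ← pow_add, ← pow_add, ← pow_add, ← pow_add] at h5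
      have h6 : 5 ∣ ((a 0 : ℕ) + a 1 + a 2 + a 3 + a 4) := (hprim.pow_eq_one_iff_dvd _).mp h5
      apply Fin.ext
      rw [Fin.val_add, Fin.val_add, Fin.val_add, Fin.val_add]
      simp only [Nat.add_mod, Nat.mod_mod, Fin.val_zero]
      omega
    obtain ⟨t, s, hts⟩ := comb_core5' a hsum
    refine ⟨comb_T t, ζ ^ (s : ℕ), comb_T_invol t, pow_ne_zero _ (fun h0 => ?_), ?_⟩
    · rw [h0] at hζ5; simp at hζ5
    · intro i
      rw [hpw, ha i, ha (comb_T t i), ← pow_add, ← hts i, Fin.val_add, hζmod]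

end Cfsg.Agent.Lib.Helper44.Uf
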