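import Mathlib
import Cfsg.Prelude.Def_GeometricClasses
import Cfsg.Agent.Lib.Helper44.UfDefs

/-! # S5982 hive (helper44), leaf UF-EXCZ: in `SL_r(q)` with `v_r(q₀ - 1) = 1`, `x ^ r = z` forces `z = 1`
(helper97) -/

set_option autoImplicit false
set_option linter.unusedVariables false
open scoped MatrixGroups
open Matrix

namespace Cfsg.Agent.Lib.Helper44.Uf

universe v

variable {F : Type v} [Field F]

open Polynomial in
/-- if `M ^ r = z • 1` for an `r × r` matrix `M` (`r` an odd prime) and `z` is not an `r`-th power, then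
`det M = z` -/
theorem excz_det_eq (r : ℕ) (hr : r.Prime) (hr2 : r ≠ 2) (M : Matrix (Fin r) (Fin r) F) (z : F)
    (hM : M ^ r = z • (1 : Matrix (Fin r) (Fin r) F)) (hz : ∀ b : F, b ^ r ≠ z) : M.det = z := by
  haveI : Nonempty (Fin r) := ⟨⟨0, hr.pos⟩⟩
  have hirr : Irreducible (X ^ r - C z : F[X]) := X_pow_sub_C_irreducible_of_prime hr hz
  have hmonic : (X ^ r - C z : F[X]).Monic := monic_X_pow_sub_C z hr.ne_zero
  have hdeg : (X ^ r - C z : F[X]).natDegree = r := natDegree_X_pow_sub_C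
  -- `M` is a root
  have haeval : aeval M (X ^ r - C z : F[X]) = 0 := by
    rw [map_sub, map_pow, aeval_X, aeval_C, hM, Algebra.algebraMap_eq_smul_one, sub_self]
  have hint : IsIntegral F M := Matrix.isIntegral M
  have hdvd : minpoly F M ∣ X ^ r - C z := minpoly.dvd F M haeval
  have hassoc : Associated (minpoly F M) (X ^ r - C z) :=
    ((hirr.dvd_iff.mp hdvd).resolve_left (minpoly.not_isUnit F M)).symm
  · have hmin : minpoly F M = X ^ r - C z :=
      eq_of_monic_of_associated (minpoly.monic hint) hmonic hassoc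
    have hdvd2 : (X ^ r - C z : F[X]) ∣ M.charpoly := by
      rw [← hmin]; exact Matrix.minpoly_dvd_charpoly M
    have hchar : M.charpoly = X ^ r - C z := by
      apply eq_of_monic_of_dvd_of_natDegree_le hmonic (Matrix.charpoly_monic M) hdvd2
      rw [Matrix.charpoly_natDegree_eq_dim, hdeg, Fintype.card_fin]
    rw [Matrix.det_eq_sign_charpoly_coeff, hchar, Fintype.card_fin,
      (hr.odd_of_ne_two hr2).neg_one_pow, coeff_sub, coeff_X_pow, coeff_C_zero,
      if_neg (Ne.symm hr.ne_zero)]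
    ring

/-- `r ^ 2` does not divide `q₀ ^ 2 - 1` when `v_r(q₀ - 1) = 1` and `r` is odd -/
theorem excz_not_sq_dvd {q₀ : ℕ} (r : ℕ) [Fact r.Prime] (hr2 : r ≠ 2)
    (hv : padicValNat r (q₀ - 1) = 1) : ¬ r ^ 2 ∣ q₀ ^ 2 - 1 := by
  have hr : r.Prime := Fact.out
  have hq1 : q₀ - 1 ≠ 0 := by
    intro h0
    rw [h0, padicValNat_zero_right] at hv
    exact absurd hv (by norm_num)
  have hq : 2 ≤ q₀ := by omega
  have hdvd : r ∣ q₀ - 1 := dvd_of_one_le_padicValNat (by omega)
  have hndvd : ¬ r ∣ q₀ + 1 := by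
    intro h
    have h2 : r ∣ (q₀ + 1) - (q₀ - 1) := Nat.dvd_sub h hdvd
    have e : (q₀ + 1) - (q₀ - 1) = 2 := by omega
    rw [e] at h2
    have := Nat.le_of_dvd (by norm_num) h2
    have := hr.two_le
    omega
  have e : q₀ ^ 2 - 1 = (q₀ - 1) * (q₀ + 1) := by
    obtain ⟨k, rfl⟩ : ∃ k, q₀ = k + 1 := ⟨q₀ - 1, by omega⟩
    simp only [Nat.add_sub_cancel]
    ring_nf
    omega
  intro h
  rw [e] at h
  have hne : (q₀ - 1) * (q₀ + 1) ≠ 0 := Nat.mul_ne_zero hq1 (by omega)
  have h3 : 2 ≤ padicValNat r ((q₀ - 1) * (q₀ + 1)) := (padicValNat_dvd_iff_le hne).mp h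
  rw [padicValNat.mul hq1 (by omega), hv, padicValNat.eq_zero_of_not_dvd hndvd] at h3
  omega

/-- UF-EXCZ -/
theorem eq_one_of_exceptional [Fintype F] {q₀ : ℕ} (hF : Fintype.card F = q₀ ^ 2) (r : ℕ) [Fact r.Prime]
    (hr2 : r ≠ 2) (hv : padicValNat r (q₀ - 1) = 1) (x : GL (Fin r) F)
    (hx : x ∈ Cfsg.Geo.specialLinear (Fin r) F) (z : F)
    (hz : ((x ^ r : GL (Fin r) F) : Matrix (Fin r) (Fin r) F) = z • (1 : Matrix (Fin r) (Fin r) F)) :
    z = 1 := by
  have hr : r.Prime := Fact.out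
  set M : Matrix (Fin r) (Fin r) F := (x : Matrix (Fin r) (Fin r) F) with hMdef
  have hM : M ^ r = z • (1 : Matrix (Fin r) (Fin r) F) := by
    rw [← hz, Units.val_pow_eq_pow_val]
  have hdet : M.det = 1 := by
    have h1 : Matrix.GeneralLinearGroup.det x = 1 := hx
    have h2 := congrArg (fun u : Fˣ => (u : F)) h1
    simpa using h2
  have hzr : z ^ r = 1 := by
    have h1 := congrArg Matrix.det hM
    rw [Matrix.det_pow, hdet, one_pow, Matrix.det_smul, Matrix.det_one, mul_one,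
      Fintype.card_fin] at h1
    exact h1.symm
  by_contra hz1
  have hnp : ∀ b : F, b ^ r ≠ z := by
    intro b hb
    apply hz1
    have hb0 : b ≠ 0 := by
      intro h0
      rw [h0, zero_pow hr.ne_zero] at hb
      rw [← hb, zero_pow hr.ne_zero] at hzr
      exact zero_ne_one hzr
    have h1 : b ^ (r ^ 2) = 1 := by rw [pow_two, pow_mul, hb, hzr]
    have h2 : b ^ (q₀ ^ 2 - 1) = 1 := by
      rw [← hF]; exact FiniteField.pow_card_sub_one_eq_one b hb0
    have ho1 : orderOf b ∣ r ^ 2 := orderOf_dvd_of_pow_eq_one h1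
    have ho2 : orderOf b ∣ q₀ ^ 2 - 1 := orderOf_dvd_of_pow_eq_one h2
    obtain ⟨m, hm, hom⟩ := (Nat.dvd_prime_pow hr).mp ho1
    have hm1 : m ≤ 1 := by
      by_contra hm2
      have hm2' : m = 2 := by omega
      rw [hm2'] at hom
      rw [hom] at ho2
      exact excz_not_sq_dvd r hr2 hv ho2
    have ho3 : orderOf b ∣ r := by
      rw [hom]
      calc r ^ m ∣ r ^ 1 := Nat.pow_dvd_pow r hm1
        _ = r := pow_one r
    rw [← hb]
    exact orderOf_dvd_iff_pow_eq_one.mp ho3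
  have h3 := excz_det_eq r hr hr2 M z hM hnp
  rw [hdet] at h3
  exact hz1 h3.symm

end Cfsg.Agent.Lib.Helper44.Uf
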