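import Mathlib
import Cfsg.Prelude.Def_GeometricClasses
import Cfsg.Agent.Lib.Helper44.UfDefs
import Cfsg.Agent.Lib.Helper97.UfCOMB

/-! # S5981 hive (helper44), leaf OF-COMB (helper97): the involution on the eigenvalues in the exceptional
case `n = r ∈ {3, 5}` (orthogonal version, no Frobenius twist) -/

set_option autoImplicit false
set_option linter.unusedVariables false
open scoped MatrixGroups
open Matrix

namespace Cfsg.Agent.Lib.Helper44.Of

universe v

variable {F : Type v} [Field F]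

open Cfsg.Agent.Lib.Helper44.Uf

/-- OF-COMB -/
theorem exists_invol_of_exceptional (r : ℕ) (hr : r = 3 ∨ r = 5) (d : Fin r → F) (hd : ∀ i, d i ^ r = 1)
    (hprod : ∏ i, d i = 1) (hnc : ∃ i j, d i ≠ d j) :
    ∃ (ι : Fin r → Fin r) (c : F), (∀ i, ι (ι i) = i) ∧ c ≠ 0 ∧ ∀ i, d i * d (ι i) = c := by
  have hne : ∀ i, d i ≠ 0 := by
    intro i h0
    have := hd i
    rw [h0] at this
    rcases hr with rfl | rfl <;> simp at this
  rcases hr with rfl | rfl
  · -- `r = 3`
    refine ⟨![0, 2, 1], d 0 ^ 2, ?_, pow_ne_zero 2 (hne 0), ?_⟩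
    · intro i; fin_cases i <;> rfl
    · have h3 : d 0 * d 1 * d 2 = 1 := by
        rw [Fin.prod_univ_three] at hprod; exact hprod
      have h0 : d 0 ^ 3 = 1 := hd 0
      have key : d 1 * d 2 = d 0 ^ 2 := by
        have : d 0 * (d 1 * d 2) = d 0 * d 0 ^ 2 := by
          rw [← mul_assoc, h3, ← pow_succ', h0]
        exact mul_left_cancel₀ (hne 0) this
      intro i
      fin_cases i
      · show d 0 * d 0 = d 0 ^ 2
        ring
      · show d 1 * d 2 = d 0 ^ 2
        exact key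
      · show d 2 * d 1 = d 0 ^ 2
        rw [mul_comm]; exact key
  · -- `r = 5`
    obtain ⟨i0, j0, hij⟩ := hnc
    obtain ⟨ζ, hζ5, hζ1⟩ : ∃ ζ : F, ζ ^ 5 = 1 ∧ ζ ≠ 1 := by
      by_cases h1 : d i0 = 1
      · refine ⟨d j0, hd j0, ?_⟩
        intro h2
        exact hij (h1.trans h2.symm)
      · exact ⟨d i0, hd i0, h1⟩
    haveI : Fact (Nat.Prime 5) := ⟨by norm_num⟩
    have hord : orderOf ζ = 5 := orderOf_eq_prime hζ5 hζ1
    have hprim : IsPrimitiveRoot ζ 5 := by
      rw [← hord]; exact IsPrimitiveRoot.orderOf ζ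
    have hex : ∀ i, ∃ a : Fin 5, d i = ζ ^ (a : ℕ) := by
      intro i
      obtain ⟨k, hk, hke⟩ := hprim.eq_pow_of_pow_eq_one (hd i)
      exact ⟨⟨k, hk⟩, hke.symm⟩
    choose a ha using hex
    have hζmod : ∀ n : ℕ, ζ ^ (n % 5) = ζ ^ n := by
      intro n
      conv_rhs => rw [← Nat.mod_add_div n 5, pow_add, pow_mul, hζ5, one_pow, mul_one]
    have hsum : a 0 + a 1 + a 2 + a 3 + a 4 = 0 := by
      have h5 : d 0 * d 1 * d 2 * d 3 * d 4 = 1 := by
        rw [Fin.prod_univ_five] at hprod; exact hprod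
      rw [ha 0, ha 1, ha 2, ha 3, ha 4, ← pow_add, ← pow_add, ← pow_add, ← pow_add] at h5
      have h6 : 5 ∣ ((a 0 : ℕ) + a 1 + a 2 + a 3 + a 4) := (hprim.pow_eq_one_iff_dvd _).mp h5
      apply Fin.ext
      rw [Fin.val_add, Fin.val_add, Fin.val_add, Fin.val_add]
      simp only [Nat.add_mod, Nat.mod_mod, Fin.val_zero]
      omega
    obtain ⟨t, s, hts⟩ := comb_core5' a hsum
    refine ⟨comb_T t, ζ ^ (s : ℕ), comb_T_invol t, pow_ne_zero _ (fun h0 => ?_), ?_⟩
    · rw [h0] at hζ5; simp at hζ5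
    · intro i
      rw [ha i, ha (comb_T t i), ← pow_add, ← hts i, Fin.val_add, hζmod]

end Cfsg.Agent.Lib.Helper44.Of
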