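import Mathlib
import Cfsg.Prelude.Def_GeometricClasses
import Cfsg.Agent.Lib.Helper44.UfDefs
import Cfsg.Agent.Lib.Helper97.UfEXCZ

/-! # S5981 hive (helper44), leaf OF-EXCZ (helper97): in `SL_r(q)` with `v_r(q - 1) = 1`, `x ^ r = z`
forces `z = 1` -/

set_option autoImplicit false
set_option linter.unusedVariables false
open scoped MatrixGroups
open Matrix

namespace Cfsg.Agent.Lib.Helper44.Of

universe v

variable {F : Type v} [Field F]

open Cfsg.Agent.Lib.Helper44.Uf

/-- OF-EXCZ -/
theorem eq_one_of_exceptional [Fintype F] (r : ℕ) [Fact r.Prime] (hr2 : r ≠ 2)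
    (hv : padicValNat r (Fintype.card F - 1) = 1) (x : GL (Fin r) F)
    (hx : x ∈ Cfsg.Geo.specialLinear (Fin r) F) (z : F)
    (hz : ((x ^ r : GL (Fin r) F) : Matrix (Fin r) (Fin r) F) = z • (1 : Matrix (Fin r) (Fin r) F)) :
    z = 1 := by
  have hr : r.Prime := Fact.out
  set M : Matrix (Fin r) (Fin r) F := (x : Matrix (Fin r) (Fin r) F) with hMdef
  have hM : M ^ r = z • (1 : Matrix (Fin r) (Fin r) F) := by
    rw [← hz, Units.val_pow_eq_pow_val]
  have hdet : M.det = 1 := by
    have h1 : Matrix.GeneralLinearGroup.det x = 1 := hx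
    have h2 := congrArg (fun u : Fˣ => (u : F)) h1
    simpa using h2
  have hzr : z ^ r = 1 := by
    have h1 := congrArg Matrix.det hM
    rw [Matrix.det_pow, hdet, one_pow, Matrix.det_smul, Matrix.det_one, mul_one,
      Fintype.card_fin] at h1
    exact h1.symm
  have hq1 : Fintype.card F - 1 ≠ 0 := by
    intro h0
    rw [h0, padicValNat_zero_right] at hv
    exact absurd hv (by norm_num)
  by_contra hz1
  have hnp : ∀ b : F, b ^ r ≠ z := by
    intro b hb
    apply hz1
    have hb0 : b ≠ 0 := by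
      intro h0
      rw [h0, zero_pow hr.ne_zero] at hb
      rw [← hb, zero_pow hr.ne_zero] at hzr
      exact zero_ne_one hzr
    have h1 : b ^ (r ^ 2) = 1 := by rw [pow_two, pow_mul, hb, hzr]
    have h2 : b ^ (Fintype.card F - 1) = 1 := FiniteField.pow_card_sub_one_eq_one b hb0
    have ho1 : orderOf b ∣ r ^ 2 := orderOf_dvd_of_pow_eq_one h1
    have ho2 : orderOf b ∣ Fintype.card F - 1 := orderOf_dvd_of_pow_eq_one h2
    obtain ⟨m, hm, hom⟩ := (Nat.dvd_prime_pow hr).mp ho1
    have hm1 : m ≤ 1 := by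
      by_contra hm2
      have hm2' : m = 2 := by omega
      rw [hm2'] at hom
      rw [hom] at ho2
      have h3 : 2 ≤ padicValNat r (Fintype.card F - 1) := (padicValNat_dvd_iff_le hq1).mp ho2
      omega
    have ho3 : orderOf b ∣ r := by
      rw [hom]
      calc r ^ m ∣ r ^ 1 := Nat.pow_dvd_pow r hm1
        _ = r := pow_one r
    rw [← hb]
    exact orderOf_dvd_iff_pow_eq_one.mp ho3
  have h3 := excz_det_eq r hr hr2 M z hM hnp
  rw [hdet] at h3
  exact hz1 h3.symm

end Cfsg.Agent.Lib.Helper44.Of
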