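import Mathlib
import Cfsg.Prelude.Def_GeometricClasses
import Cfsg.Agent.Lib.Helper2.BGMain
import Cfsg.Agent.Lib.Helper38.SLCard
import Cfsg.Agent.Lib.Helper44.SubfE

set_option autoImplicit false
open scoped MatrixGroups
open Matrix Polynomial

/-! SFR-A for S5965 (helper44): the index of the subfield group in `SL_n(F)` and an odd prime `r`
different from the characteristic. -/

namespace Cfsg.Agent.Lib.Helper44.Sfr

universe v

section val

variable {F : Type v} [Field F] [Fintype F]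

theorem sfrA_not_dvd_card {p : ℕ} [hp : Fact p.Prime] [CharP F p] {r : ℕ} [hr : Fact r.Prime]
    (hrp : r ≠ p) : ¬ r ∣ Fintype.card F := by
  obtain ⟨k, _, hk⟩ := FiniteField.card F p
  rw [hk]
  intro h
  have := hr.out.dvd_of_dvd_pow h
  exact hrp ((Nat.prime_dvd_prime_iff_eq hr.out hp.out).mp this)

theorem sfrA_fact_card_GL (r : ℕ) [hr : Fact r.Prime] (hrq : ¬ r ∣ Fintype.card F) (n : ℕ) :
    (Nat.card (Matrix.GeneralLinearGroup (Fin n) F)).factorization r =
      ∑ j ∈ Finset.range n, padicValNat r (Fintype.card F ^ (j + 1) - 1) := by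
  have hq1 : 1 < Fintype.card F := Fintype.one_lt_card
  rw [Matrix.card_GL_field,
    Fin.prod_univ_eq_prod_range (fun i => Fintype.card F ^ n - Fintype.card F ^ i) n]
  have hfac : ∀ i ∈ Finset.range n, Fintype.card F ^ n - Fintype.card F ^ i =
      Fintype.card F ^ i * (Fintype.card F ^ (n - 1 - i + 1) - 1) := by
    intro i hi
    rw [Finset.mem_range] at hi
    have : n = i + (n - 1 - i + 1) := by omega
    conv_lhs => rw [this, pow_add]
    rw [Nat.mul_sub, mul_one]
  rw [Finset.prod_congr rfl hfac]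
  have hne : ∀ i ∈ Finset.range n,
      Fintype.card F ^ i * (Fintype.card F ^ (n - 1 - i + 1) - 1) ≠ 0 := by
    intro i _
    have h1 : 1 < Fintype.card F ^ (n - 1 - i + 1) := Nat.one_lt_pow (by omega) hq1
    have h2 : 0 < Fintype.card F ^ i := by positivity
    have h3 : 0 < Fintype.card F ^ (n - 1 - i + 1) - 1 := by omega
    exact (Nat.mul_pos h2 h3).ne'
  rw [Nat.factorization_prod hne, Finsupp.finsetSum_apply]
  rw [← Finset.sum_range_reflect]
  apply Finset.sum_congr rfl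
  intro i hi
  rw [Finset.mem_range] at hi
  rw [Nat.factorization_def _ hr.out]
  have hk : n - 1 - (n - 1 - i) = i := by omega
  rw [hk]
  have hnd : ¬ r ∣ Fintype.card F ^ (n - 1 - i) := fun h =>
    hrq (hr.out.dvd_of_dvd_pow h)
  have h1 : 1 < Fintype.card F ^ (i + 1) := Nat.one_lt_pow (by omega) hq1
  rw [padicValNat.mul (by positivity) (by omega), padicValNat.eq_zero_of_not_dvd hnd, zero_add]

theorem sfrA_fact_card_SL (r : ℕ) [hr : Fact r.Prime] (hrq : ¬ r ∣ Fintype.card F) (n : ℕ)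
    (hn : 1 ≤ n) :
    (Nat.card (Matrix.SpecialLinearGroup (Fin n) F)).factorization r +
      padicValNat r (Fintype.card F - 1) =
      ∑ j ∈ Finset.range n, padicValNat r (Fintype.card F ^ (j + 1) - 1) := by
  have hq1 : 1 < Fintype.card F := Fintype.one_lt_card
  have h := Cfsg.Agent.Lib.Helper38.card_SL_mul (F := F) n hn
  rw [← sfrA_fact_card_GL r hrq n, ← h,
    Nat.factorization_mul Nat.card_pos.ne' (by omega), Finsupp.add_apply,
    Nat.factorization_def (Fintype.card F - 1) hr.out]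

end val

section index

open Cfsg.Agent.Lib.Helper44.SLInv

variable {F : Type v} [Field F] [Fintype F] {n : ℕ}

/-- if the `r`-parts of `|SL_n(F)|` and `|SL_n(F₀)|` agree, `r` does not divide the index -/
theorem sfrA_not_dvd_index (F₀ : Subfield F) (r : ℕ) [hr : Fact r.Prime]
    (hfac : (Nat.card (Matrix.SpecialLinearGroup (Fin n) F)).factorization r =
      (Nat.card (Matrix.SpecialLinearGroup (Fin n) F₀)).factorization r) :
    ¬ r ∣ ((Cfsg.Geo.subfieldSubgroup F₀ (1 : GL (Fin n) F)).comap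
      (Matrix.SpecialLinearGroup.toGL :
        Matrix.SpecialLinearGroup (Fin n) F →* GL (Fin n) F)).index := by
  classical
  let φ : Matrix.SpecialLinearGroup (Fin n) F₀ →* Matrix.SpecialLinearGroup (Fin n) F :=
    Matrix.SpecialLinearGroup.map (F₀.subtype : F₀ →+* F)
  have hφ : ∀ (g : Matrix.SpecialLinearGroup (Fin n) F₀) (i j : Fin n),
      (φ g : Matrix (Fin n) (Fin n) F) i j = ((g : Matrix (Fin n) (Fin n) F₀) i j : F) :=
    fun g i j => rfl
  have hinj : Function.Injective φ := by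
    intro g g' h
    ext i j
    have h3 := congrArg (fun M : Matrix.SpecialLinearGroup (Fin n) F =>
      (M : Matrix (Fin n) (Fin n) F) i j) h
    simp only [hφ] at h3
    exact h3
  have hle : φ.range ≤ (Cfsg.Geo.subfieldSubgroup F₀ (1 : GL (Fin n) F)).comap
      (Matrix.SpecialLinearGroup.toGL :
        Matrix.SpecialLinearGroup (Fin n) F →* GL (Fin n) F) := by
    rintro _ ⟨g₀, rfl⟩
    rw [Subgroup.mem_comap, mem_subfieldSubgroup_one]
    apply Subgroup.mem_sup_left
    refine ⟨Matrix.SpecialLinearGroup.toGL g₀, ?_⟩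
    apply Units.ext
    ext i j
    rfl
  have hdvd := Subgroup.index_dvd_of_le hle
  have hcardrange : Nat.card φ.range = Nat.card (Matrix.SpecialLinearGroup (Fin n) F₀) :=
    (Nat.card_congr (MonoidHom.ofInjective hinj).toEquiv).symm
  have hmul := Subgroup.index_mul_card φ.range
  intro h2dvd
  have h2dvd' : r ∣ φ.range.index := dvd_trans h2dvd hdvd
  have hidx0 : φ.range.index ≠ 0 := Subgroup.index_ne_zero_of_finite
  have hpos : 0 < (φ.range.index).factorization r :=
    Nat.Prime.factorization_pos_of_dvd hr.out hidx0 h2dvd'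
  have h3 : (φ.range.index * Nat.card φ.range).factorization r =
      (Nat.card (Matrix.SpecialLinearGroup (Fin n) F)).factorization r := by rw [hmul]
  rw [Nat.factorization_mul hidx0 Nat.card_pos.ne', Finsupp.add_apply, hcardrange] at h3
  omega

end index

section leaves

variable {F : Type v} [Field F] [Fintype F]

/-- the key valuation identity: `v_r(q₀^(k m) - 1) = v_r(q₀^m - 1)` -/
theorem sfrA_val_pow (q₀ k r : ℕ) [hr : Fact r.Prime] (hq₀ : 0 < q₀) (hr2 : r ≠ 2) (hk : k.Prime)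
    (hrk : r ≠ k) (hrq₀ : ¬ r ∣ q₀) (hkd : ¬ k ∣ orderOf ((q₀ : ℕ) : ZMod r)) (m : ℕ) (hm : 0 < m) :
    padicValNat r ((q₀ ^ k) ^ m - 1) = padicValNat r (q₀ ^ m - 1) := by
  have hodd : Odd r := hr.out.odd_of_ne_two hr2
  have hq₀1 : 1 ≤ q₀ := hq₀
  rcases Nat.lt_or_ge 1 q₀ with hq1 | hq1
  swap
  · have hq1' : q₀ = 1 := by omega
    subst hq1'
    simp
  by_cases hdiv : r ∣ q₀ ^ m - 1
  · -- LTE
    have hx : 1 < q₀ ^ m := Nat.one_lt_pow (by omega) hq1
    have hnd : ¬ r ∣ q₀ ^ m := fun h => hrq₀ (hr.out.dvd_of_dvd_pow h)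
    have h := padicValNat.pow_sub_pow (p := r) (x := q₀ ^ m) (y := 1) hodd hx hdiv hnd
      (n := k) hk.ne_zero
    rw [one_pow] at h
    have hvk : padicValNat r k = 0 := by
      apply padicValNat.eq_zero_of_not_dvd
      intro hd
      exact hrk ((Nat.prime_dvd_prime_iff_eq hr.out hk).1 hd)
    rw [hvk, add_zero] at h
    rw [← h, ← pow_mul, ← pow_mul, mul_comm]
  · rw [padicValNat.eq_zero_of_not_dvd hdiv]
    apply padicValNat.eq_zero_of_not_dvd
    intro hd
    apply hdiv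
    rw [← pow_mul] at hd
    have h1 := (Cfsg.Agent.Lib.Helper2.BG.orderOf_dvd_iff_dvd_pow_sub_one (r := r) q₀ hq₀ (k * m)).2 hd
    have hcop : Nat.Coprime (orderOf ((q₀ : ℕ) : ZMod r)) k :=
      (Nat.Coprime.symm ((Nat.Prime.coprime_iff_not_dvd hk).2 hkd))
    have h2 : orderOf ((q₀ : ℕ) : ZMod r) ∣ m := hcop.dvd_of_dvd_mul_left h1
    exact (Cfsg.Agent.Lib.Helper2.BG.orderOf_dvd_iff_dvd_pow_sub_one (r := r) q₀ hq₀ m).1 h2

/-- A1 -/
theorem not_dvd_index_of_not_dvd_order {p : ℕ} [Fact p.Prime] [CharP F p] (n : ℕ) (hn : 1 ≤ n)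
    (F₀ : Subfield F) (k : ℕ) (hk : k.Prime) (hqk : Fintype.card F = Nat.card F₀ ^ k)
    (r : ℕ) [Fact r.Prime] (hr2 : r ≠ 2) (hrp : r ≠ p) (hrk : r ≠ k)
    (hkd : ¬ k ∣ orderOf ((Nat.card F₀ : ℕ) : ZMod r)) :
    ¬ r ∣ ((Cfsg.Geo.subfieldSubgroup F₀ (1 : GL (Fin n) F)).comap
      (Matrix.SpecialLinearGroup.toGL : Matrix.SpecialLinearGroup (Fin n) F →* GL (Fin n) F)).index := by
  classical
  have hr : r.Prime := Fact.out
  haveI : Fintype F₀ := Fintype.ofFinite F₀
  have hcard₀ : Fintype.card F₀ = Nat.card F₀ := Nat.card_eq_fintype_card.symm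
  have hrq : ¬ r ∣ Fintype.card F := sfrA_not_dvd_card (p := p) hrp
  have hq₀pos : 0 < Nat.card F₀ := Nat.card_pos
  have hrq₀ : ¬ r ∣ Nat.card F₀ := by
    intro h
    apply hrq
    rw [hqk]
    exact dvd_pow h hk.ne_zero
  have hA : ∀ j, padicValNat r (Fintype.card F ^ (j + 1) - 1) =
      padicValNat r (Nat.card F₀ ^ (j + 1) - 1) := by
    intro j
    rw [hqk]
    exact sfrA_val_pow (Nat.card F₀) k r hq₀pos hr2 hk hrk hrq₀ hkd (j + 1) (Nat.succ_pos j)
  have hB : padicValNat r (Fintype.card F - 1) = padicValNat r (Nat.card F₀ - 1) := by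
    have h := hA 0
    simpa using h
  have h1 := sfrA_fact_card_SL (F := F) r hrq n hn
  have h2 := sfrA_fact_card_SL (F := F₀) r (by rw [hcard₀]; exact hrq₀) n hn
  rw [hcard₀] at h2
  rw [hB, Finset.sum_congr rfl (fun j _ => hA j)] at h1
  apply sfrA_not_dvd_index F₀ r
  omega

/-- A2 -/
theorem order_le_of_dvd_index {p : ℕ} [Fact p.Prime] [CharP F p] (n : ℕ) (hn : 1 ≤ n)
    (F₀ : Subfield F) (r : ℕ) [Fact r.Prime] (hrp : r ≠ p)
    (hΩ : r ∣ ((Cfsg.Geo.subfieldSubgroup F₀ (1 : GL (Fin n) F)).comap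
      (Matrix.SpecialLinearGroup.toGL : Matrix.SpecialLinearGroup (Fin n) F →* GL (Fin n) F)).index) :
    orderOf ((Fintype.card F : ℕ) : ZMod r) ≤ n := by
  classical
  have hr : r.Prime := Fact.out
  have hrq : ¬ r ∣ Fintype.card F := sfrA_not_dvd_card (p := p) hrp
  have hqpos : 0 < Fintype.card F := Fintype.card_pos
  have h1 : r ∣ Nat.card (Matrix.SpecialLinearGroup (Fin n) F) :=
    dvd_trans hΩ (Subgroup.index_dvd_card _)
  have h2 : r ∣ Nat.card (GL (Fin n) F) := by
    rw [← Cfsg.Agent.Lib.Helper38.card_SL_mul (F := F) n hn]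
    exact dvd_mul_of_dvd_left h1 _
  rw [Matrix.card_GL_field] at h2
  obtain ⟨i, -, hi⟩ := (Nat.Prime.prime hr).exists_mem_finset_dvd h2
  have hi' : (i : ℕ) < n := i.2
  have hfac : ∀ j : ℕ, j < n → Fintype.card F ^ n - Fintype.card F ^ j =
      Fintype.card F ^ j * (Fintype.card F ^ (n - j) - 1) := by
    intro j hj
    have : n = j + (n - j) := by omega
    conv_lhs => rw [this, pow_add]
    rw [Nat.mul_sub, mul_one]
  rw [hfac _ hi'] at hi
  rcases (Nat.Prime.dvd_mul hr).1 hi with h | h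
  · exact absurd (hr.dvd_of_dvd_pow h) hrq
  · have h3 := (Cfsg.Agent.Lib.Helper2.BG.orderOf_dvd_iff_dvd_pow_sub_one (r := r)
      (Fintype.card F) hqpos (n - i)).2 h
    have h4 := Nat.le_of_dvd (by omega) h3
    omega

/-- A3 -/
theorem not_dvd_index_two {p : ℕ} [Fact p.Prime] [CharP F p]
    (F₀ : Subfield F) (hqk : Fintype.card F = Nat.card F₀ ^ 2)
    (r : ℕ) [Fact r.Prime] (hr2 : r ≠ 2) (hrp : r ≠ p) (hrq : r ∣ Fintype.card F - 1) :
    ¬ r ∣ ((Cfsg.Geo.subfieldSubgroup F₀ (1 : GL (Fin 2) F)).comap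
      (Matrix.SpecialLinearGroup.toGL : Matrix.SpecialLinearGroup (Fin 2) F →* GL (Fin 2) F)).index := by
  classical
  have hr : r.Prime := Fact.out
  haveI : Fintype F₀ := Fintype.ofFinite F₀
  have hcard₀ : Fintype.card F₀ = Nat.card F₀ := Nat.card_eq_fintype_card.symm
  have hrqF : ¬ r ∣ Fintype.card F := sfrA_not_dvd_card (p := p) hrp
  have hq₀pos : 0 < Nat.card F₀ := Nat.card_pos
  have hq1 : 1 < Fintype.card F := Fintype.one_lt_card
  have hq₀1 : 1 < Nat.card F₀ := by
    rw [← hcard₀]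
    exact Fintype.one_lt_card
  have hrq₀ : ¬ r ∣ Nat.card F₀ := by
    intro h
    apply hrqF
    rw [hqk]
    exact dvd_pow h two_ne_zero
  have h1 := sfrA_fact_card_SL (F := F) r hrqF 2 (by norm_num)
  have h2 := sfrA_fact_card_SL (F := F₀) r (by rw [hcard₀]; exact hrq₀) 2 (by norm_num)
  rw [hcard₀] at h2
  rw [Finset.sum_range_succ, Finset.sum_range_one] at h1 h2
  simp only [zero_add, pow_one] at h1 h2
  -- `v_r(q^2 - 1) = v_r(q - 1)`
  have hq2 : Fintype.card F ^ (1 + 1) - 1 = (Fintype.card F - 1) * (Fintype.card F + 1) := by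
    have : 1 ≤ Fintype.card F ^ (1 + 1) := Nat.one_le_pow _ _ (by omega)
    zify [this, hq1.le]
    ring
  have hnd : ¬ r ∣ Fintype.card F + 1 := by
    intro h
    have h3 : r ∣ (Fintype.card F + 1) - (Fintype.card F - 1) := Nat.dvd_sub h hrq
    have h4 : (Fintype.card F + 1) - (Fintype.card F - 1) = 2 := by omega
    rw [h4] at h3
    exact hr2 ((Nat.prime_dvd_prime_iff_eq hr Nat.prime_two).1 h3)
  have hv : padicValNat r (Fintype.card F ^ (1 + 1) - 1) = padicValNat r (Fintype.card F - 1) := by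
    rw [hq2, padicValNat.mul (by omega) (by omega), padicValNat.eq_zero_of_not_dvd hnd, add_zero]
  rw [hv] at h1
  rw [← hqk] at h2
  apply sfrA_not_dvd_index F₀ r
  omega

end leaves

end Cfsg.Agent.Lib.Helper44.Sfr
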