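import Cfsg.Agent.Lib.Helper46.AhDefs

/-! # Ah hive (S2538, helper46), leaf AH-BLKA (helper97): classes from an intransitive group -/

set_option autoImplicit false

namespace Cfsg.Agent.Lib.Helper46.Ah

open Cfsg Equiv
open Cfsg.Agent.Lib.Helper15.Hs (resSub mem_resSub)

section leaves

variable {α : Type*} [Fintype α] [DecidableEq α] {π : Set ℕ} (M : Subgroup (Perm α)) (B : Set α)

theorem classes_of_intransitive (hnofix : ∀ a : α, ∃ g ∈ M, g a ≠ a)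
    (hnt : ¬ MulAction.IsPretransitive M α) :
    ∃ (B : Set α) (x₁ y₁ x₂ y₂ : α), Rel M B x₁ y₁ ∧ x₁ ≠ y₁ ∧ Rel M B x₂ y₂ ∧ x₂ ≠ y₂ ∧
      ¬ Rel M B x₁ x₂ := by
  have h1 : ∃ x z : α, ∀ g ∈ M, g x ≠ z := by
    by_contra hcon
    push Not at hcon
    apply hnt
    constructor
    intro x y
    obtain ⟨g, hg, hgx⟩ := hcon x y
    exact ⟨⟨g, hg⟩, hgx⟩
  obtain ⟨x₁, z, hz⟩ := h1
  obtain ⟨O, hO⟩ : ∃ O : Set α, ∀ y, y ∈ O ↔ ∃ g ∈ M, g x₁ = y :=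
    ⟨{y | ∃ g ∈ M, g x₁ = y}, fun y => Iff.rfl⟩
  have hinv : ∀ g ∈ M, ∀ y, g y ∈ O ↔ y ∈ O := by
    intro g hg y
    rw [hO, hO]
    constructor
    · rintro ⟨h, hh, hhy⟩
      refine ⟨g⁻¹ * h, M.mul_mem (M.inv_mem hg) hh, ?_⟩
      rw [Perm.mul_apply, hhy]
      simp
    · rintro ⟨h, hh, hhy⟩
      refine ⟨g * h, M.mul_mem hg hh, ?_⟩
      rw [Perm.mul_apply, hhy]
  have hrel : ∀ x y, (x ∈ O ↔ y ∈ O) → Rel M O x y := by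
    intro x y hxy g hg
    rw [hinv g hg, hinv g hg, hxy]
  have hx₁ : x₁ ∈ O := (hO x₁).mpr ⟨1, M.one_mem, rfl⟩
  have hzO : z ∉ O := by
    intro h
    obtain ⟨g, hg, hgz⟩ := (hO z).mp h
    exact hz g hg hgz
  obtain ⟨g₁, hg₁, hne₁⟩ := hnofix x₁
  obtain ⟨g₂, hg₂, hne₂⟩ := hnofix z
  refine ⟨O, x₁, g₁ x₁, z, g₂ z, ?_, ?_, ?_, ?_, ?_⟩
  · exact hrel _ _ ⟨fun _ => (hinv g₁ hg₁ x₁).mpr hx₁, fun _ => hx₁⟩
  · exact fun h => hne₁ h.symm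
  · exact hrel _ _ ⟨fun h => absurd h hzO, fun h => absurd ((hinv g₂ hg₂ z).mp h) hzO⟩
  · exact fun h => hne₂ h.symm
  · intro h
    have h3 := (h 1 M.one_mem).mp hx₁
    exact hzO h3

end leaves

end Cfsg.Agent.Lib.Helper46.Ah
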