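import Cfsg.Agent.Lib.Helper46.AhDefs

/-! # Ah hive (S2538, helper46), leaf AH-BLKB (helper97): classes from an imprimitive group -/

set_option autoImplicit false

namespace Cfsg.Agent.Lib.Helper46.Ah

open Cfsg Equiv
open Cfsg.Agent.Lib.Helper15.Hs (resSub mem_resSub)
open scoped Pointwise

section leaves

variable {α : Type*} [Fintype α] [DecidableEq α] {π : Set ℕ} (M : Subgroup (Perm α)) (B : Set α)

theorem classes_of_imprimitive (htr : MulAction.IsPretransitive M α)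
    (hnp : ¬ MulAction.IsPreprimitive M α) :
    ∃ (B : Set α) (x₁ y₁ x₂ y₂ : α), Rel M B x₁ y₁ ∧ x₁ ≠ y₁ ∧ Rel M B x₂ y₂ ∧ x₂ ≠ y₂ ∧
      ¬ Rel M B x₁ x₂ := by
  -- a nontrivial block
  have h1 : ∃ O : Set α, MulAction.IsBlock M O ∧ ¬ MulAction.IsTrivialBlock O := by
    by_contra hcon
    push Not at hcon
    exact hnp ⟨fun {O} hO => hcon O hO⟩
  obtain ⟨O, hO, hOt⟩ := h1
  unfold MulAction.IsTrivialBlock at hOt
  push Not at hOt
  obtain ⟨hns, hnu⟩ := hOt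
  obtain ⟨x₁, hx₁, y₁, hy₁, hxy⟩ := hns
  obtain ⟨x₂, hx₂⟩ : ∃ x₂, x₂ ∉ O := by
    by_contra hcon
    push Not at hcon
    exact hnu (Set.eq_univ_of_forall hcon)
  obtain ⟨m, hm⟩ := MulAction.exists_smul_eq M x₁ x₂
  -- the key property of a block
  have hkey : ∀ g ∈ M, ∀ a ∈ O, ∀ b ∈ O, g a ∈ O → g b ∈ O := by
    intro g hg a ha b hb hga
    have hga' : (⟨g, hg⟩ : M) • a ∈ O := hga
    have h2 : (⟨g, hg⟩ : M) • O = O := hO.smul_eq_of_mem ha hga'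
    rw [← h2]
    exact ⟨b, hb, rfl⟩
  have hrel : Rel M O x₁ y₁ := fun g hg =>
    ⟨hkey g hg x₁ hx₁ y₁ hy₁, hkey g hg y₁ hy₁ x₁ hx₁⟩
  refine ⟨O, x₁, y₁, x₂, (m : Perm α) y₁, hrel, hxy, ?_, ?_, ?_⟩
  · have h3 := hrel.smul m.2
    have h4 : (m : Perm α) x₁ = x₂ := hm
    rw [h4] at h3
    exact h3
  · intro h
    have h4 : (m : Perm α) x₁ = x₂ := hm
    rw [← h4] at h
    exact hxy ((m : Perm α).injective h)
  · intro h
    have h3 := (h 1 M.one_mem).mp hx₁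
    exact hx₂ h3

end leaves

end Cfsg.Agent.Lib.Helper46.Ah
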