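import Mathlib

/-! A5c hive (S3278), leaf A5c-FORM. -/

set_option autoImplicit false
set_option linter.unusedVariables false

universe u

namespace Cfsg.Agent.Lib.Helper47.A5c

/-- LEAF A5c-FORM. -/
theorem form_arith (N c d x₂ x₃ x₄ : ℕ) (ε : ℤ) (hN : N = d * c) (hN0 : N ≠ 0)
    (h : (N : ℚ) = 8 * ((((x₂ : ℚ) * x₃ * x₄)) /
      (((x₂ : ℚ) + ((1 : ℤ) : ℚ)) * ((x₃ : ℚ) + (ε : ℚ)) * ((x₄ : ℚ) + ((-1 : ℤ) : ℚ)))) *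
      (c : ℚ) ^ 3 / (c : ℚ) ^ 2) :
    (d : ℤ) * (x₂ + 1) * (x₃ + ε) * (x₄ - 1) = 8 * x₂ * x₃ * x₄ := by
  have hc : c ≠ 0 := by
    rintro rfl
    apply hN0
    rw [hN, mul_zero]
  have hcq : (c : ℚ) ≠ 0 := by exact_mod_cast hc
  have hNq : (N : ℚ) ≠ 0 := by exact_mod_cast hN0
  have hD0 : ((x₂ : ℚ) + ((1 : ℤ) : ℚ)) * ((x₃ : ℚ) + (ε : ℚ)) * ((x₄ : ℚ) + ((-1 : ℤ) : ℚ)) ≠ 0 := by
    intro h0
    rw [h0, div_zero, mul_zero, zero_mul, zero_div] at h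
    exact hNq h
  have h1 : (c : ℚ) ^ 3 / (c : ℚ) ^ 2 = c := by field_simp
  have h2 : (N : ℚ) = (d : ℚ) * c := by rw [hN]; push_cast; ring
  rw [mul_div_assoc, h1, h2] at h
  have h4 := mul_right_cancel₀ hcq h
  have key : (d : ℚ) * (((x₂ : ℚ) + ((1 : ℤ) : ℚ)) * ((x₃ : ℚ) + (ε : ℚ)) * ((x₄ : ℚ) + ((-1 : ℤ) : ℚ)))
      = 8 * ((x₂ : ℚ) * x₃ * x₄) := by
    rw [h4, mul_assoc, div_mul_cancel₀ _ hD0]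
  have h5 : (((d : ℤ) * ((x₂ : ℤ) + 1) * ((x₃ : ℤ) + ε) * ((x₄ : ℤ) - 1) : ℤ) : ℚ)
      = ((8 * (x₂ : ℤ) * x₃ * x₄ : ℤ) : ℚ) := by
    push_cast
    push_cast at key
    linarith [key]
  exact_mod_cast h5

end Cfsg.Agent.Lib.Helper47.A5c
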