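import Mathlib

/-! A5c hive (S3278), leaf A5c-INV3. -/

set_option autoImplicit false
set_option linter.unusedVariables false

universe u

namespace Cfsg.Agent.Lib.Helper47.A5c

open Subgroup

/-- LEAF A5c-INV3. -/
theorem inv3 {G : Type u} [Group G] [Finite G] (C S₀ : Subgroup G) (hle : S₀ ≤ C)
    (hcard : Nat.card S₀ = 4) (hmem : ∀ u ∈ C, orderOf u = 2 → u ∈ S₀) :
    Nat.card {u : ↥C // orderOf u = 2} ≤ 3 := by
  classical
  let f : {u : ↥C // orderOf u = 2} → {s : ↥S₀ // s ≠ 1} := fun u =>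
    ⟨⟨(u.1 : G), hmem _ u.1.2 (by rw [Subgroup.orderOf_coe]; exact u.2)⟩, by
      intro h
      have h1 : (u.1 : G) = 1 := congrArg (fun s : ↥S₀ => (s : G)) h
      have h2 : u.1 = 1 := Subtype.ext h1
      have h3 := u.2
      rw [h2, orderOf_one] at h3
      omega⟩
  have hf : Function.Injective f := by
    intro a b hab
    apply Subtype.ext
    apply Subtype.ext
    exact congrArg (fun s : {s : ↥S₀ // s ≠ 1} => ((s.1 : ↥S₀) : G)) hab
  have h1 := Nat.card_le_card_of_injective f hf
  have h2 : Nat.card {s : ↥S₀ // s ≠ 1} = 3 := by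
    have := Fintype.ofFinite ↥S₀
    rw [Nat.card_eq_fintype_card, Fintype.card_subtype, Finset.filter_ne',
      Finset.card_erase_of_mem (Finset.mem_univ _), Finset.card_univ, ← Nat.card_eq_fintype_card, hcard]
  omega

end Cfsg.Agent.Lib.Helper47.A5c
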