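import Cfsg.Agent.Lib.Helper47.FLDefs

set_option autoImplicit false

/-! # S2863 hive (`FL`, helper47), LEAF FL-MODPROD (helper97): `mod_prod`. -/

namespace Cfsg.Agent.Lib.Helper47.FL

open Cfsg

section mod

variable {X : Type*} [Group X] {V : Type*} [AddCommGroup V] {ρ : X →* AddMonoid.End V}
  {P : Subgroup X}

/-- quadratic action of a conjugate of `P` -/
theorem modprod_quad_cj (h : ModSetup ρ P) (g : X) {y : X} (hy : y ∈ cj g P) (v : V) :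
    ρ y v - v ∈ fx ρ (cj g P) := by
  obtain ⟨y0, hy0, rfl⟩ := mem_cj.mp hy
  have h1 : ρ (g * y0 * g⁻¹) v - v = ρ g (ρ y0 (ρ g⁻¹ v) - ρ g⁻¹ v) := by
    rw [map_sub, rho_cancel_inv, rho_mul, rho_mul]
  rw [h1]
  exact rho_mem_fx_cj (h.quad y0 hy0 _)

theorem mod_prod (h : ModSetup ρ P) {g : X} (hg : cj g P ≠ P) {y1 y2 : X} (hy1 : y1 ∈ P)
    (hy2 : y2 ∈ cj g P) (hf1 : ∀ v : V, ρ y1 v = v → v ∈ fx ρ P)
    (hf2 : ∀ v : V, ρ y2 v = v → v ∈ fx ρ (cj g P)) : ∀ v : V, ρ (y1 * y2) v = v → v = 0 := by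
  intro v hv
  rw [rho_mul] at hv
  -- `y2 v = y1⁻¹ v`
  have h1 : ρ y2 v = ρ y1⁻¹ v := by
    have := congrArg (ρ y1⁻¹) hv
    rwa [rho_inv_cancel] at this
  have hw2 : ρ y2 v - v ∈ fx ρ (cj g P) := modprod_quad_cj h g hy2 v
  have hw1 : ρ y2 v - v ∈ fx ρ P := by
    rw [h1]
    exact h.quad y1⁻¹ (P.inv_mem hy1) v
  have hw0 : ρ y2 v - v = 0 := h.disj g hg _ hw1 hw2
  have hy2v : ρ y2 v = v := sub_eq_zero.mp hw0
  have hy1v : ρ y1 v = v := by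
    rw [hy2v] at hv
    exact hv
  exact h.disj g hg v (hf1 v hy1v) (hf2 v hy2v)

end mod

end Cfsg.Agent.Lib.Helper47.FL
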