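import Mathlib
import Cfsg.Agent.Lib.Helper43.ZeroCount
import Cfsg.Agent.Lib.Helper43.ZZmod

/-! # Tq hive (helper59, S5973 + S5987), LEAF TQ-TYPEEVEN, part (a) (helper97): the zero count of a nondegenerate
quadratic space containing a totally singular subspace of half the dimension (any characteristic), and the
characterisation of the plus type by the zero count. -/

set_option autoImplicit false

namespace Cfsg.Agent.Lib.Helper59.Tq

open Module QuadraticMap

section count
variable {F M : Type*} [Field F] [AddCommGroup M] [Module F M] [Fintype F] [FiniteDimensional F M]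

/-- fibre counting along `M → Dual U` for a totally singular `U` of half the dimension -/
theorem typeeven_count (Q : QuadraticForm F M)
    (hnd : ∀ u, (∀ v, polar Q u v = 0) → u = 0) (U : Submodule F M)
    (hUts : ∀ u ∈ U, Q u = 0) (k : ℕ) (hk : finrank F U = k)
    (hn : finrank F M = 2 * k) :
    Nat.card {v : M // Q v = 0} * Fintype.card F =
      Fintype.card F ^ (2 * k) + (Fintype.card F - 1) * Fintype.card F ^ k := by
  classical
  have hfinM : Finite M := Module.finite_of_finite F
  have hftM : Fintype M := Fintype.ofFinite M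
  have hq1 : 1 ≤ Fintype.card F := Fintype.card_pos
  set β : LinearMap.BilinForm F M := polarBilin Q with hβ
  have hβa : ∀ u v, β u v = polar Q u v := fun u v => rfl
  have hs : ∀ u v, β u v = β v u := fun u v => polar_comm Q u v
  have hUti : ∀ u ∈ U, ∀ v ∈ U, β u v = 0 := by
    intro u hu v hv
    rw [hβa, polar, hUts _ (U.add_mem hu hv), hUts u hu, hUts v hv]
    ring
  -- U is its own orthogonal complement
  have hβnd : LinearMap.BilinForm.Nondegenerate β :=
    ⟨fun x hx => hnd x hx, fun y hy => hnd y (fun v => by rw [← hβa, hs]; exact hy v)⟩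
  have hWdim := LinearMap.BilinForm.finrank_orthogonal hβnd U
  have hUW : U ≤ LinearMap.BilinForm.orthogonal β U := by
    intro u hu
    rw [LinearMap.BilinForm.mem_orthogonal_iff]
    intro n hn
    exact hUti n hn u hu
  have hUeqW : U = LinearMap.BilinForm.orthogonal β U :=
    Submodule.eq_of_le_of_finrank_eq hUW (by rw [hWdim, hn, hk]; omega)
  have hUmem : ∀ v, v ∉ U → ∃ u ∈ U, β v u ≠ 0 := by
    intro v hv
    by_contra hcon
    push Not at hcon
    apply hv
    rw [hUeqW, LinearMap.BilinForm.mem_orthogonal_iff]
    intro n hn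
    show β n v = 0
    rw [hs]
    exact hcon n hn
  have hcU : Fintype.card U = Fintype.card F ^ k := by
    rw [Module.card_eq_pow_finrank (K := F) (V := U), hk]
  have hcM : Fintype.card M = Fintype.card F ^ k * Fintype.card F ^ k := by
    rw [Module.card_eq_pow_finrank (K := F) (V := M), hn, two_mul, pow_add]
  set q := Fintype.card F with hq
  set a := q ^ k with ha
  have hapos : 0 < a := Nat.pos_of_ne_zero (pow_ne_zero _ (by omega))
  -- the zero count as a filter
  have hZ : Nat.card {v : M // Q v = 0} =
      (Finset.univ.filter (fun v : M => Q v = 0)).card := by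
    rw [Nat.card_eq_fintype_card, Fintype.card_subtype]
  -- the fibre counts
  let c : M → ℕ := fun v => (Finset.univ.filter (fun u : U => Q (v + u) = 0)).card
  have h1 : ∑ v : M, c v = Nat.card {v : M // Q v = 0} * a := by
    have : ∀ v : M, c v = ∑ u : U, if Q (v + u) = 0 then 1 else 0 := by
      intro v
      simp only [c, Finset.card_filter]
    simp only [this]
    rw [Finset.sum_comm]
    have h3 : ∀ u : U, (∑ v : M, if Q (v + u) = 0 then 1 else 0) =
        Nat.card {v : M // Q v = 0} := by
      intro u
      rw [hZ, Finset.card_filter]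
      exact Fintype.sum_equiv (Equiv.addRight (u : M)) _ _ (fun v => rfl)
    simp only [h3]
    rw [Finset.sum_const, Finset.card_univ, hcU, smul_eq_mul, mul_comm]
  have h2a : ∀ v ∈ U, c v = a := by
    intro v hv
    have : (Finset.univ.filter (fun u : U => Q (v + u) = 0)) = Finset.univ := by
      apply Finset.filter_true_of_mem
      intro u _
      exact hUts _ (U.add_mem hv u.2)
    simp only [c, this, Finset.card_univ, hcU]
  have h2b : ∀ v, v ∉ U → c v * q = a := by
    intro v hv
    obtain ⟨u₀, hu₀, hne⟩ := hUmem v hv
    let ψ : U →+ F := ((β v).domRestrict U).toAddMonoidHom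
    have hψ : ∀ u : U, ψ u = β v u := fun u => rfl
    have hsurj : ∀ t : F, t ∈ Set.range ψ := by
      intro t
      refine ⟨(t / (β v u₀)) • ⟨u₀, hu₀⟩, ?_⟩
      rw [hψ]
      simp only [Submodule.coe_smul, map_smul, smul_eq_mul]
      field_simp
    have hfil : ∀ u : U, (Q (v + u) = 0) ↔ ψ u = - Q v := by
      intro u
      rw [hψ, hβa]
      have h5 : Q (v + u) = Q v + Q u + polar Q v u := by
        rw [polar]; ring
      rw [h5, hUts u u.2]
      constructor
      · intro h; linear_combination h
      · intro h; linear_combination h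
    have hcv : c v = (Finset.univ.filter (fun u : U => ψ u = - Q v)).card := by
      simp only [c]
      congr 1
      ext u
      simp only [Finset.mem_filter, Finset.mem_univ, true_and]
      exact hfil u
    have hsum := Finset.card_eq_sum_card_fiberwise (f := ψ) (s := (Finset.univ : Finset U))
      (t := (Finset.univ : Finset F)) (fun _ _ => Finset.mem_coe.2 (Finset.mem_univ _))
    have heq : ∀ b : F, (Finset.univ.filter (fun u : U => ψ u = b)).card = c v := by
      intro b
      rw [hcv]
      exact AddMonoidHom.card_fiber_eq_of_mem_range ψ (hsurj b) (hsurj _)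
    simp only [heq] at hsum
    rw [Finset.sum_const, Finset.card_univ, Finset.card_univ, hcU, smul_eq_mul] at hsum
    rw [mul_comm, ← hsum]
  -- summing up
  have h3 : (∑ v : M, c v) * q = ∑ v : M, if v ∈ U then a * q else a := by
    rw [Finset.sum_mul]
    apply Finset.sum_congr rfl
    intro v _
    by_cases hv : v ∈ U
    · rw [if_pos hv, h2a v hv]
    · rw [if_neg hv, h2b v hv]
  rw [Finset.sum_ite, Finset.sum_const, Finset.sum_const, smul_eq_mul, smul_eq_mul] at h3
  have hA : (Finset.univ.filter (fun v : M => v ∈ U)).card = a := by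
    rw [← hcU, Fintype.card_subtype]
  have hAB := Finset.card_filter_add_card_filter_not (s := (Finset.univ : Finset M))
    (fun v : M => v ∈ U)
  rw [Finset.card_univ, hcM, hA] at hAB
  rw [hA, h1] at h3
  set nB := (Finset.univ.filter (fun v : M => ¬ v ∈ U)).card with hnB
  have h4 : a * (Nat.card {v : M // Q v = 0} * q) = a * (a * q + nB) := by
    calc a * (Nat.card {v : M // Q v = 0} * q)
        = Nat.card {v : M // Q v = 0} * a * q := by ring
      _ = a * (a * q) + nB * a := h3
      _ = a * (a * q + nB) := by ring
  have h5 := Nat.eq_of_mul_eq_mul_left hapos h4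
  have h6 : q ^ (2 * k) = a * a := by rw [two_mul, pow_add]
  have h7 : (q - 1) * a = a * q - a := by rw [Nat.sub_mul, one_mul, mul_comm]
  have h8 : a ≤ a * q := Nat.le_mul_of_pos_right a (by omega)
  rw [h5, h6, h7]
  omega

end count

/-- the plus zero count times `q` -/
theorem typeeven_ZZ_plus_mul (q : ℕ) (hq : 1 ≤ q) (n : ℕ) :
    Cfsg.Agent.Lib.Helper43.ZZ q 0 1 n * q = q ^ (2 * n) + (q - 1) * q ^ n := by
  obtain ⟨t, rfl⟩ : ∃ t, q = t + 1 := ⟨q - 1, by omega⟩
  simp only [Nat.add_sub_cancel]
  induction n with
  | zero => rw [Cfsg.Agent.Lib.Helper43.ZZ_zero]; simp; ring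
  | succ n ih =>
    rw [Cfsg.Agent.Lib.Helper43.ZZ_succ, add_mul, mul_assoc, ih]
    simp only [Nat.add_sub_cancel]
    ring

end Cfsg.Agent.Lib.Helper59.Tq
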