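import Mathlib
import Cfsg.Agent.Lib.Helper43.ZeroCount
import Cfsg.Agent.Lib.Helper43.ZZmod
import Cfsg.Agent.Lib.Helper99.SympForm
import Cfsg.Agent.Lib.Helper59.TqDefs
import Cfsg.Agent.Lib.Helper97.TqTYPEEVENa

/-! # Tq hive (helper59, S5973 + S5987), LEAF TQ-TYPEEVEN, part (b) (helper97): plus type ↔ plus zero count. -/

set_option autoImplicit false

namespace Cfsg.Agent.Lib.Helper59.Tq

open Module QuadraticMap
open Cfsg.Agent.Lib.Helper99 Cfsg.Agent.Lib.Helper43 Cfsg.Agent.Lib.Helper43.ZeroCount

universe u

variable {F : Type u} [Field F] [Fintype F]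

/-- a nondegenerate quadratic space of dimension `2 M` has a totally singular subspace of dimension `M` iff its
zero count is the plus count -/
theorem typeeven_plus_iff_count (W : Type u) [AddCommGroup W] [Module F W] [FiniteDimensional F W]
    (QW : QuadraticForm F W) (hnd : (polarBilin QW).Nondegenerate) (M : ℕ)
    (hdim : finrank F W = 2 * M) :
    (∃ U : Submodule F W, (∀ u ∈ U, QW u = 0) ∧ 2 * finrank F U = finrank F W) ↔
      Nat.card {w : W // QW w = 0} = ZZ (Fintype.card F) 0 1 M := by
  have hq1 : 1 ≤ Fintype.card F := Fintype.card_pos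
  constructor
  · rintro ⟨U, hU, hUd⟩
    have hk : finrank F U = M := by omega
    have h1 := typeeven_count QW (fun u hu => hnd.1 u hu) U hU M hk hdim
    rw [← typeeven_ZZ_plus_mul _ hq1 M] at h1
    exact Nat.eq_of_mul_eq_mul_right hq1 h1
  · intro hcount
    obtain ⟨Θ, hΘ⟩ := classify_plus W QW hnd M hdim hcount
    -- the subspace of vectors supported on the `inl` coordinates
    let ι₀ : (Fin M → F) →ₗ[F] (Fin M ⊕ Fin M → F) :=
      { toFun := fun w => Sum.elim w 0
        map_add' := by
          intro x y
          ext (i | i) <;> simp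
        map_smul' := by
          intro c x
          ext (i | i) <;> simp }
    have hι₀ : Function.Injective ι₀ := by
      intro x y hxy
      ext i
      have := congrFun hxy (Sum.inl i)
      exact this
    let φ : (Fin M → F) →ₗ[F] W := Θ.symm.toLinearMap.comp ι₀
    have hφ : Function.Injective φ := Θ.symm.injective.comp hι₀
    refine ⟨LinearMap.range φ, ?_, ?_⟩
    · rintro u ⟨w, rfl⟩
      rw [← hΘ]
      show Cfsg.quadFormPlus M F (Θ (Θ.symm (ι₀ w))) = 0
      rw [LinearEquiv.apply_symm_apply]
      unfold Cfsg.quadFormPlus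
      apply Finset.sum_eq_zero
      intro i _
      have h1 : (ι₀ w) (Sum.inr i) = 0 := rfl
      rw [h1, mul_zero]
    · rw [LinearMap.finrank_range_of_inj hφ, Module.finrank_fintype_fun_eq_card, Fintype.card_fin, hdim]

end Cfsg.Agent.Lib.Helper59.Tq
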