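import Mathlib
import Cfsg.Prelude.Def_ClassicalGeometry
import Cfsg.Prelude.Def_GeometricClasses
import Cfsg.Agent.Lib.Helper99.SympForm
import Cfsg.Agent.Lib.Helper59.TqDefs
import Cfsg.Agent.Lib.Helper79.TsSplit
import Cfsg.Agent.Lib.Helper2.BGPoly
import Cfsg.Agent.Lib.Helper97.TqTYPEEVENb

/-! # Tq hive (helper59, S5973 + S5987), LEAF TQ-TYPEEVEN (helper97): the type of the fixed space of an isometry
of odd prime order `r ≠ p` with `ord_r(q)` even. -/

set_option autoImplicit false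

namespace Cfsg.Agent.Lib.Helper59.Tq

open Module
open Cfsg.Agent.Lib.Helper99

section tools

universe u

variable {F : Type u} [Field F] {V : Type u} [AddCommGroup V] [Module F V] [FiniteDimensional F V]

open Cfsg.Agent.Lib.Helper43 Cfsg.Agent.Lib.Helper43.ZeroCount in
theorem typeeven_nondeg_top (Q : QuadraticForm F V) (hV : Nd (QuadraticMap.polarBilin Q) ⊤) :
    (QuadraticMap.polarBilin Q).Nondegenerate := by
  refine ⟨fun x hx => hV x Submodule.mem_top (fun v _ => hx v), fun y hy => ?_⟩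
  apply hV y Submodule.mem_top
  intro v _
  have := hy v
  rw [QuadraticMap.polarBilin_apply_apply] at this ⊢
  rw [QuadraticMap.polar_comm]
  exact this

theorem typeeven_nondeg_sub (Q : QuadraticForm F V) {C : Submodule F V}
    (hC : Nd (QuadraticMap.polarBilin Q) C) :
    (QuadraticMap.polarBilin (Q.comp C.subtype)).Nondegenerate := by
  have key : ∀ x : C, (∀ y : C, QuadraticMap.polar Q (x : V) (y : V) = 0) → x = 0 := by
    intro x hx
    apply Subtype.ext
    exact hC x x.2 (fun v hv => hx ⟨v, hv⟩)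
  refine ⟨fun x hx => key x (fun y => hx y), fun y hy => key y (fun x => ?_)⟩
  rw [QuadraticMap.polar_comm]
  exact hy x

open Cfsg.Agent.Lib.Helper43 Cfsg.Agent.Lib.Helper43.ZeroCount in
theorem typeeven_plusOn_top [Fintype F] (Q : QuadraticForm F V)
    (hV : Nd (QuadraticMap.polarBilin Q) ⊤) (M : ℕ) (hdim : finrank F V = 2 * M) :
    PlusOn Q ⊤ ↔ Nat.card {v : V // Q v = 0} = ZZ (Fintype.card F) 0 1 M := by
  rw [← typeeven_plus_iff_count V Q (typeeven_nondeg_top Q hV) M hdim]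
  unfold PlusOn
  constructor
  · rintro ⟨U, _, hU, hUd⟩
    exact ⟨U, hU, by rw [hUd, finrank_top]⟩
  · rintro ⟨U, hU, hUd⟩
    exact ⟨U, le_top, hU, by rw [hUd, finrank_top]⟩

open Cfsg.Agent.Lib.Helper43 Cfsg.Agent.Lib.Helper43.ZeroCount in
theorem typeeven_plusOn_sub [Fintype F] (Q : QuadraticForm F V) (C : Submodule F V)
    (hC : Nd (QuadraticMap.polarBilin Q) C) (M : ℕ) (hdim : finrank F C = 2 * M) :
    PlusOn Q C ↔
      Nat.card {c : C // (Q.comp C.subtype) c = 0} = ZZ (Fintype.card F) 0 1 M := by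
  rw [← typeeven_plus_iff_count C (Q.comp C.subtype) (typeeven_nondeg_sub Q hC) M hdim]
  unfold PlusOn
  constructor
  · rintro ⟨U, hUC, hU, hUd⟩
    refine ⟨U.comap C.subtype, ?_, ?_⟩
    · intro u hu
      exact hU _ hu
    · rw [(Submodule.comapSubtypeEquivOfLe hUC).finrank_eq, hUd]
  · rintro ⟨U, hU, hUd⟩
    refine ⟨U.map C.subtype, ?_, ?_, ?_⟩
    · rintro _ ⟨u, _, rfl⟩
      exact u.2
    · rintro _ ⟨u, hu, rfl⟩
      exact hU u hu
    · rw [Submodule.finrank_map_subtype_eq, hUd]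

open Cfsg.Agent.Lib.Helper43 Cfsg.Agent.Lib.Helper43.ZeroCount
  Cfsg.Agent.Lib.Helper48.Ti Cfsg.Agent.Lib.Helper2.BG Cfsg.Agent.Lib.Helper79.TsSwap in
/-- TQ-TYPEEVEN -/
theorem plusOn_fixed_even [Fintype F] {p : ℕ} [Fact p.Prime] [CharP F p] (Q : QuadraticForm F V)
    (hV : Nd (QuadraticMap.polarBilin Q) ⊤) (hev : Even (finrank F V)) (f : Module.End F V)
    (hf : ∀ v, Q (f v) = Q v) (r : ℕ) [Fact r.Prime] (hr2 : r ≠ 2) (hrp : r ≠ p)
    (hfr : f ^ r = 1) (i : ℕ) (hi : i = orderOf ((Fintype.card F : ℕ) : ZMod r)) (hie : Even i)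
    (N : ℕ)
    (hN : finrank F (LinearMap.ker (Polynomial.aeval f (Polynomial.cyclotomic r F))) = i * N) :
    PlusOn Q (LinearMap.ker (f - 1)) ↔ (PlusOn Q ⊤ ↔ Even N) := by
  classical
  have hrP : r.Prime := Fact.out
  have hpP : p.Prime := Fact.out
  have hq1 : 1 ≤ Fintype.card F := Fintype.card_pos
  have hq2 : 2 ≤ Fintype.card F := Fintype.one_lt_card
  -- `q` modulo `r`
  have hrF : (r : F) ≠ 0 := by
    rw [Ne, CharP.cast_eq_zero_iff F p r]
    intro h
    exact hrp ((Nat.prime_dvd_prime_iff_eq hpP hrP).1 h).symm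
  have hq0 : ((Fintype.card F : ℕ) : ZMod r) ≠ 0 := by
    rw [Ne, ZMod.natCast_eq_zero_iff]
    intro h
    obtain ⟨n, -, hn⟩ := FiniteField.card F p
    rw [hn] at h
    exact hrp ((Nat.prime_dvd_prime_iff_eq hrP hpP).1 (hrP.dvd_of_dvd_pow h))
  obtain ⟨i', hi'⟩ := hie
  have hipos : 0 < i := by
    rcases Nat.eq_zero_or_pos i with h0 | h0
    · exfalso
      have hpow := ZMod.pow_card_sub_one_eq_one hq0
      have hdvd := orderOf_dvd_of_pow_eq_one hpow
      rw [← hi, h0, zero_dvd_iff] at hdvd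
      have := hrP.two_le
      omega
    · exact h0
  have hi'pos : 0 < i' := by omega
  have hqi : ((Fintype.card F : ℕ) : ZMod r) ^ i = 1 := by
    rw [hi]
    exact pow_orderOf_eq_one _
  have hqi' : ((Fintype.card F : ℕ) : ZMod r) ^ i' = -1 := by
    have h1 : (((Fintype.card F : ℕ) : ZMod r) ^ i' - 1) * (((Fintype.card F : ℕ) : ZMod r) ^ i' + 1) = 0 := by
      have : ((Fintype.card F : ℕ) : ZMod r) ^ i' * ((Fintype.card F : ℕ) : ZMod r) ^ i' = 1 := by
        rw [← pow_add, ← hi', hqi]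
      linear_combination this
    rcases mul_eq_zero.mp h1 with h | h
    · exfalso
      have h2 : ((Fintype.card F : ℕ) : ZMod r) ^ i' = 1 := sub_eq_zero.mp h
      have h3 := orderOf_dvd_of_pow_eq_one h2
      rw [← hi] at h3
      have := Nat.le_of_dvd hi'pos h3
      omega
    · exact eq_neg_of_add_eq_zero_left h
  have hq1' : ((Fintype.card F : ℕ) : ZMod r) ≠ 1 := by
    intro h
    rw [h, orderOf_one] at hi
    omega
  have hone : (1 : ZMod r) ≠ -1 := by
    intro h
    have h2 : (2 : ZMod r) = 0 := by linear_combination h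
    have h3 : ((2 : ℕ) : ZMod r) = 0 := by exact_mod_cast h2
    rw [ZMod.natCast_eq_zero_iff] at h3
    exact hr2 ((Nat.prime_dvd_prime_iff_eq hrP Nat.prime_two).1 h3)
  -- the decomposition `V = C ⟂ R`
  have hs : ∀ u v, QuadraticMap.polarBilin Q u v = QuadraticMap.polarBilin Q v u :=
    fun u v => QuadraticMap.polar_comm Q u v
  have hIsom : Isom (QuadraticMap.polarBilin Q) f := by
    intro u v
    show QuadraticMap.polar Q (f u) (f v) = QuadraticMap.polar Q u v
    unfold QuadraticMap.polar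
    rw [← map_add, hf, hf, hf]
  have hcop := isCoprime_X_sub_one_cyclotomic (F := F) (r := r) hrF
  have hkill : Polynomial.aeval f ((Polynomial.X - 1) * Polynomial.cyclotomic r F) = 0 := by
    rw [mul_comm, Polynomial.cyclotomic_prime_mul_X_sub_one F r]
    simp [hfr]
  obtain ⟨hCnd, -, hsum⟩ := fix_split_symm hs hIsom hcop hkill hV (inv_top f)
  rw [top_inf_eq] at hCnd
  rw [top_inf_eq, top_inf_eq, finrank_top, hN] at hsum
  obtain ⟨M, hM⟩ := hev
  set k := i' * N with hk
  have hik : i * N = k + k := by rw [hi', hk]; ring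
  have hdimV : finrank F V = 2 * M := by omega
  have hkM : k ≤ M := by omega
  have hdimC : finrank F (LinearMap.ker (f - 1)) = 2 * (M - k) := by omega
  -- zero counts
  have hfinV : Finite V := Module.finite_of_finite F
  have hmod : Nat.card {v : V // Q v = 0} ≡
      Nat.card {c : LinearMap.ker (f - 1) // (Q.comp (LinearMap.ker (f - 1)).subtype) c = 0} [MOD r] := by
    have h1 := card_zeros_modEq (V := V) (R := F) (fun v => Q v) (fun v => f v) r (by
      intro v
      rw [← Module.End.pow_apply, hfr, Module.End.one_apply]) hf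
    have h2 : Nat.card {v : V // Q v = 0 ∧ f v = v} =
        Nat.card {c : LinearMap.ker (f - 1) // (Q.comp (LinearMap.ker (f - 1)).subtype) c = 0} := by
      apply Nat.card_congr
      exact ⟨fun v => ⟨⟨v.1, mem_ker_of_fix v.2.2⟩, v.2.1⟩,
        fun c => ⟨c.1.1, c.2, fix_of_mem_ker c.1.2⟩, fun v => rfl, fun c => rfl⟩
    rw [← h2]
    exact h1
  have hZ := card_zeros_dichotomy V Q (typeeven_nondeg_top Q hV) M hdimV
  have hZ₂ := card_zeros_dichotomy (LinearMap.ker (f - 1)) (Q.comp (LinearMap.ker (f - 1)).subtype)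
    (typeeven_nondeg_sub Q hCnd) (M - k) hdimC
  have hPV := typeeven_plusOn_top Q hV M hdimV
  have hPC := typeeven_plusOn_sub Q (LinearMap.ker (f - 1)) hCnd (M - k) hdimC
  have hτ : ((-1 : ZMod r)) ^ N = 1 ∨ ((-1 : ZMod r)) ^ N = -1 := neg_one_pow_eq_or _ N
  have hqk : ((Fintype.card F : ℕ) : ZMod r) ^ k = (-1) ^ N := by
    rw [hk, pow_mul, hqi']
  -- the minus count is not the plus count
  have hneV : 1 ≤ M → Nat.card {v : V // Q v = 0} = ZZ (Fintype.card F) 2 1 (M - 1) →
      ¬ Nat.card {v : V // Q v = 0} = ZZ (Fintype.card F) 0 1 M := by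
    intro h1 h2 h3
    rw [h2] at h3
    have := ZZ_plus_ne_minus (Fintype.card F) hq2 (M - 1)
    rw [show M - 1 + 1 = M by omega] at this
    exact this h3.symm
  rcases hZ₂ with hC1 | ⟨hMk, hC2⟩
  · -- `C` of plus type
    have hZ₂' : ((Nat.card {c : LinearMap.ker (f - 1) // (Q.comp (LinearMap.ker (f - 1)).subtype) c = 0} : ℕ) : ZMod r)
        * ((Fintype.card F : ℕ) : ZMod r) = zhat ((Fintype.card F : ℕ) : ZMod r) 1 (M - k) := by
      rw [hC1]
      exact cast_ZZ_plus (Fintype.card F) hq1 (M - k)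
    have hdec := zero_count_decide r hr2 (Fintype.card F) hq1 hq0 hq1' M k hkM ((-1) ^ N) 1 hτ
      (Or.inl rfl) hqk _ _ hZ hZ₂' hmod
    have hCplus : PlusOn Q (LinearMap.ker (f - 1)) := hPC.mpr hC1
    rcases Nat.even_or_odd N with hNe | hNo
    · have h1 := hdec.1 (by rw [hNe.neg_one_pow, one_mul])
      exact ⟨fun _ => ⟨fun _ => hNe, fun _ => hPV.mpr h1⟩, fun _ => hCplus⟩
    · obtain ⟨hM1, h1⟩ := hdec.2 (by rw [hNo.neg_one_pow, one_mul])
      have hnotV : ¬ PlusOn Q ⊤ := fun h => hneV hM1 h1 (hPV.mp h)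
      have hnotE : ¬ Even N := Nat.not_even_iff_odd.mpr hNo
      exact ⟨fun _ => ⟨fun h => absurd h hnotV, fun h => absurd h hnotE⟩, fun _ => hCplus⟩
  · -- `C` of minus type
    have hZ₂' : ((Nat.card {c : LinearMap.ker (f - 1) // (Q.comp (LinearMap.ker (f - 1)).subtype) c = 0} : ℕ) : ZMod r)
        * ((Fintype.card F : ℕ) : ZMod r) = zhat ((Fintype.card F : ℕ) : ZMod r) (-1) (M - k) := by
      rw [hC2]
      have := cast_ZZ_minus (R := ZMod r) (Fintype.card F) hq1 (M - k - 1)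
      rw [show M - k - 1 + 1 = M - k by omega] at this
      exact this
    have hdec := zero_count_decide r hr2 (Fintype.card F) hq1 hq0 hq1' M k hkM ((-1) ^ N) (-1) hτ
      (Or.inr rfl) hqk _ _ hZ hZ₂' hmod
    have hCnot : ¬ PlusOn Q (LinearMap.ker (f - 1)) := by
      intro h
      have h3 := hPC.mp h
      rw [hC2] at h3
      have := ZZ_plus_ne_minus (Fintype.card F) hq2 (M - k - 1)
      rw [show M - k - 1 + 1 = M - k by omega] at this
      exact this h3.symm
    rcases Nat.even_or_odd N with hNe | hNo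
    · obtain ⟨hM1, h1⟩ := hdec.2 (by rw [hNe.neg_one_pow, mul_one])
      have hnotV : ¬ PlusOn Q ⊤ := fun h => hneV hM1 h1 (hPV.mp h)
      exact ⟨fun h => absurd h hCnot, fun h => absurd (h.mpr hNe) hnotV⟩
    · have h1 := hdec.1 (by rw [hNo.neg_one_pow]; ring)
      have hnotE : ¬ Even N := Nat.not_even_iff_odd.mpr hNo
      exact ⟨fun h => absurd h hCnot, fun h => absurd (h.mp (hPV.mpr h1)) hnotE⟩

end tools

end Cfsg.Agent.Lib.Helper59.Tq
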