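import Mathlib
import Cfsg.Prelude.Def_Balance
import Cfsg.Agent.Lib.Helper22.FStar
import Cfsg.Agent.Lib.Helper23.PComponent

/-! # S1305 hive (MC, architect helper18): leaf MC-OSPLIT (helper97)

`E(X) = N M` with `N = J J^a` and `M` the join of the other components. -/

set_option autoImplicit false

open Cfsg

namespace Cfsg.Agent.Lib.Helper18.Mc

open Subgroup

/-- the join of a set of components is subnormal -/
theorem mcosplit_sSup_subnormal {X : Type*} [Group X] [Finite X] (S : Set (Subgroup X))
    (hS : ∀ L ∈ S, IsComponent L) : (sSup S).IsSubnormal := by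
  have hle : sSup S ≤ layer X := sSup_le fun L hL => le_sSup (hS L hL)
  have hEn : (layer X).Normal := Cfsg.Agent.Lib.Helper22.layer_normal X
  have hnorm : layer X ≤ normalizer ((sSup S : Subgroup X) : Set X) := by
    intro g hg
    rw [Subgroup.mem_normalizer_iff]
    have key : ∀ g ∈ layer X, ∀ h ∈ sSup S, g * h * g⁻¹ ∈ sSup S := by
      intro g hg h hh
      have hmap : sSup S ≤ (sSup S).comap (MulAut.conj g).toMonoidHom := by
        apply sSup_le
        intro L hL x hx
        rw [Subgroup.mem_comap]
        have hgn : g ∈ normalizer (L : Set X) :=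
          (sSup_le fun L' hL' => Cfsg.Agent.Lib.Helper23.component_le_normalizer (hS L hL) hL' :
            layer X ≤ normalizer (L : Set X)) hg
        have : g * x * g⁻¹ ∈ L := (Subgroup.mem_normalizer_iff.1 hgn x).1 hx
        exact (le_sSup hL : L ≤ sSup S) this
      exact hmap hh
    intro h
    constructor
    · exact key g hg h
    · intro hh
      have := key g⁻¹ (inv_mem hg) _ hh
      simpa [mul_assoc] using this
  have h1 : ((sSup S).subgroupOf (layer X)).Normal := by
    refine ⟨fun n hn g => ?_⟩
    rw [Subgroup.mem_subgroupOf] at hn ⊢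
    have := (Subgroup.mem_normalizer_iff.1 (hnorm g.2) (n : X)).1 hn
    simpa using this
  exact Subgroup.IsSubnormal.trans hle h1.isSubnormal hEn.isSubnormal

theorem mcosplit_conj_comp {X : Type*} [Group X] (a : X) {J : Subgroup X} (hJ : IsComponent J) :
    IsComponent (J.map (MulAut.conj a).toMonoidHom) :=
  ⟨hJ.1.map (f := (MulAut.conj a).toMonoidHom) (MulAut.conj a).surjective,
    Cfsg.Agent.Lib.Helper21.quasisimple_of_mulEquiv
      (J.equivMapOfInjective (MulAut.conj a).toMonoidHom (MulAut.conj a).injective) hJ.2⟩

/-- MC-OSPLIT.  `E(X) = N M` with `N = J J^a` and `M` the join of the other components.  (`M := sSup {L | IsComponent L ∧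
L ≠ J ∧ L ≠ J^a}`; Helper91 `component_commute_of_ne`, Helper23.TwoLayer `isComponent_cj`; `sSup_comp_subnormal`.) -/
theorem split {X : Type*} [Group X] [Finite X] (a : X) (ha : a * a = 1) (J : Subgroup X) (hJ : IsComponent J) :
    ∃ M : Subgroup X, M.IsSubnormal ∧ (J ⊔ J.map (MulAut.conj a).toMonoidHom).IsSubnormal ∧
      layer X ≤ (J ⊔ J.map (MulAut.conj a).toMonoidHom) ⊔ M ∧
      (∀ n ∈ J ⊔ J.map (MulAut.conj a).toMonoidHom, ∀ m ∈ M, n * m = m * n) ∧
      (∀ m ∈ M, a * m * a⁻¹ ∈ M) := by
  have hJa : IsComponent (J.map (MulAut.conj a).toMonoidHom) := mcosplit_conj_comp a hJ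
  have hainv : a⁻¹ = a := inv_eq_of_mul_eq_one_left ha
  refine ⟨sSup {L : Subgroup X | IsComponent L ∧ L ≠ J ∧ L ≠ J.map (MulAut.conj a).toMonoidHom}, ?_, ?_, ?_, ?_, ?_⟩
  · exact mcosplit_sSup_subnormal _ (fun L hL => hL.1)
  · have : J ⊔ J.map (MulAut.conj a).toMonoidHom = sSup ({J, J.map (MulAut.conj a).toMonoidHom} : Set (Subgroup X)) := by
      rw [sSup_pair]
    rw [this]
    apply mcosplit_sSup_subnormal
    intro L hL
    rcases hL with rfl | hL
    · exact hJ
    · rw [Set.mem_singleton_iff] at hL
      rw [hL]; exact hJa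
  · apply sSup_le
    intro L hL
    by_cases h1 : L = J
    · rw [h1]; exact le_sup_left.trans le_sup_left
    by_cases h2 : L = J.map (MulAut.conj a).toMonoidHom
    · rw [h2]; exact le_sup_right.trans le_sup_left
    · exact (le_sSup (show L ∈ {L : Subgroup X | IsComponent L ∧ L ≠ J ∧ L ≠ J.map (MulAut.conj a).toMonoidHom} from
        ⟨hL, h1, h2⟩)).trans le_sup_right
  · -- commuting
    have hle : sSup {L : Subgroup X | IsComponent L ∧ L ≠ J ∧ L ≠ J.map (MulAut.conj a).toMonoidHom} ≤
        centralizer ((J ⊔ J.map (MulAut.conj a).toMonoidHom : Subgroup X) : Set X) := by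
      apply sSup_le
      rintro L ⟨hL, h1, h2⟩
      intro l hl
      rw [Subgroup.mem_centralizer_iff]
      intro n hn
      have hN : J ⊔ J.map (MulAut.conj a).toMonoidHom ≤ centralizer ({l} : Set X) := by
        apply sup_le
        · intro x hx
          rw [Subgroup.mem_centralizer_iff]
          intro y hy
          rw [Set.mem_singleton_iff] at hy
          rw [hy]
          exact Cfsg.Agent.Lib.Helper91.component_commute_of_ne hL hJ h1 l hl x hx
        · intro x hx
          rw [Subgroup.mem_centralizer_iff]
          intro y hy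
          rw [Set.mem_singleton_iff] at hy
          rw [hy]
          exact Cfsg.Agent.Lib.Helper91.component_commute_of_ne hL hJa h2 l hl x hx
      have := Subgroup.mem_centralizer_iff.1 (hN hn) l rfl
      exact this.symm
    intro n hn m hm
    exact Subgroup.mem_centralizer_iff.1 (hle hm) n hn
  · -- a-invariance
    have hle : sSup {L : Subgroup X | IsComponent L ∧ L ≠ J ∧ L ≠ J.map (MulAut.conj a).toMonoidHom} ≤
        (sSup {L : Subgroup X | IsComponent L ∧ L ≠ J ∧ L ≠ J.map (MulAut.conj a).toMonoidHom}).comap
          (MulAut.conj a).toMonoidHom := by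
      apply sSup_le
      rintro L ⟨hL, h1, h2⟩
      rw [← Subgroup.map_le_iff_le_comap]
      apply le_sSup
      refine ⟨mcosplit_conj_comp a hL, ?_, ?_⟩
      · -- L^a ≠ J
        intro h
        apply h2
        rw [← h, Subgroup.map_map]
        have : (MulAut.conj a).toMonoidHom.comp (MulAut.conj a).toMonoidHom = MonoidHom.id X := by
          ext x
          simp only [MonoidHom.comp_apply, MulEquiv.coe_toMonoidHom, MulAut.conj_apply, MonoidHom.id_apply]
          rw [hainv]
          calc a * (a * x * a) * a = (a * a) * x * (a * a) := by group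
            _ = x := by rw [ha, one_mul, mul_one]
        rw [this, Subgroup.map_id]
      · -- L^a ≠ J^a
        intro h
        apply h1
        exact Subgroup.map_injective (MulAut.conj a).injective h
    intro m hm
    have := hle hm
    rw [Subgroup.mem_comap] at this
    simpa using this

end Cfsg.Agent.Lib.Helper18.Mc
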