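import Mathlib
import Cfsg.Agent.S0293

/-! # Sq hive (S4625, helper20), sub-piece SQ-ORTH-ARITH+ for helper5 (helper97): `oplus_card`. -/

set_option autoImplicit false

namespace Cfsg.Agent.Lib.Helper20.Sq

open Cfsg.Agent.Lib.Helper37 Cfsg.Agent.Lib.Helper8 Cfsg.Agent.Lib.Helper43

/-- `q` even, `j ≥ 1`: `q ^ j - 1` is odd -/
theorem oarith_odd_pow_sub_one {q : ℕ} (hq : Even q) (hq0 : 0 < q) {j : ℕ} (hj : 1 ≤ j) :
    Odd (q ^ j - 1) := by
  have h1 : Even (q ^ j) := hq.pow_of_ne_zero (by omega)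
  have h3 : 0 < q ^ j := Nat.pow_pos hq0
  rw [Nat.even_iff] at h1
  rw [Nat.odd_iff]
  omega

/-- `q` even, `j ≥ 1`: `q ^ j + 1` is odd -/
theorem oarith_odd_pow_add_one {q : ℕ} (hq : Even q) {j : ℕ} (hj : 1 ≤ j) :
    Odd (q ^ j + 1) := by
  have h1 : Even (q ^ j) := hq.pow_of_ne_zero (by omega)
  exact h1.add_one

theorem oarith_odd_prod {q : ℕ} (hq : Even q) (hq0 : 0 < q) (n : ℕ) :
    Odd (∏ i ∈ Finset.range n, (q ^ (2 * (i + 1)) - 1)) := by
  apply Finset.prod_induction _ Odd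
  · intro a b ha hb; exact ha.mul hb
  · exact odd_one
  · intro i _
    exact oarith_odd_pow_sub_one hq hq0 (by omega)

/-- the order of `Ω` equals the order of `PΩ` when the centre is trivial -/
theorem oarith_card_omega {ι : Type} [Fintype ι] [DecidableEq ι] {F : Type*} [Field F]
    (Q : (ι → F) → F) (hc : Nat.card (Subgroup.center ↥(Cfsg.Omega F Q)) = 1) :
    Nat.card ↥(Cfsg.Omega F Q) = Nat.card (Cfsg.POmega F Q) := by
  rw [Subgroup.card_eq_card_quotient_mul_card_subgroup (Subgroup.center ↥(Cfsg.Omega F Q)), hc,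
    mul_one]

theorem oplus_card (F : Type) [Field F] [Fintype F] [CharP F 2] (m : ℕ) (hm : 4 ≤ m) :
    ∃ k, Odd k ∧ Nat.card (Cfsg.Omega F (Cfsg.quadFormPlus m F)) =
      Fintype.card F ^ (m * (m - 1)) * k := by
  have h2 : (2 : F) = 0 := CharTwo.two_eq_zero
  have hev : Even (Fintype.card F) := two_eq_zero_iff_even_card.mp h2
  have hq0 : 0 < Fintype.card F := Fintype.card_pos
  have hres := Cfsg.Agent.S0293.result (F := F) (q := Fintype.card F) rfl m hm
  have hodd1 : Odd (Fintype.card F ^ m - 1) := oarith_odd_pow_sub_one hev hq0 (by omega)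
  have hgcd : Nat.gcd 4 (Fintype.card F ^ m - 1) = 1 :=
    gcd_four_of_odd _ (Nat.odd_iff.mp hodd1)
  rw [hgcd, one_mul] at hres
  have hcen : Nat.card (Subgroup.center ↥(Cfsg.Omega F (Cfsg.quadFormPlus m F))) = 1 := by
    rw [plusForm_coe]
    exact card_center_omega_one (plusForm m F) (plusForm_nondegenerate _ _)
      (Cfsg.Agent.S0293.plus_hypFam m F) (by omega) (Or.inl h2)
  refine ⟨(Fintype.card F ^ m - 1) * ∏ i ∈ Finset.range (m - 1),
    (Fintype.card F ^ (2 * (i + 1)) - 1), hodd1.mul (oarith_odd_prod hev hq0 _), ?_⟩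
  rw [oarith_card_omega _ hcen, hres, mul_assoc]

end Cfsg.Agent.Lib.Helper20.Sq
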