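import Mathlib
import Cfsg.Agent.S0294
import Cfsg.Agent.Lib.Helper97.SqOrthArithP

/-! # Sq hive (S4625, helper20), sub-piece SQ-ORTH-ARITH- for helper5 (helper97): `ominus_card`. -/

set_option autoImplicit false

namespace Cfsg.Agent.Lib.Helper20.Sq

open Cfsg.Agent.Lib.Helper37 Cfsg.Agent.Lib.Helper8 Cfsg.Agent.Lib.Helper43

theorem ominus_card (F : Type) [Field F] [Fintype F] [CharP F 2] (m : ℕ) (hm : 3 ≤ m) (a b : F)
    (hab : ∀ z₁ z₂ : F, z₁ ^ 2 + a * z₁ * z₂ + b * z₂ ^ 2 = 0 → z₁ = 0 ∧ z₂ = 0) :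
    ∃ k, Odd k ∧ Nat.card (Cfsg.Omega F (Cfsg.quadFormMinus m F a b)) =
      Fintype.card F ^ ((m + 1) * m) * k := by
  have h2 : (2 : F) = 0 := CharTwo.two_eq_zero
  have hev : Even (Fintype.card F) := two_eq_zero_iff_even_card.mp h2
  have hq0 : 0 < Fintype.card F := Fintype.card_pos
  have hres := Cfsg.Agent.S0294.result (F := F) (q := Fintype.card F) rfl (m + 1) (by omega) a b hab
  rw [Nat.add_sub_cancel] at hres
  have hodd1 : Odd (Fintype.card F ^ (m + 1) + 1) := oarith_odd_pow_add_one hev (by omega)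
  have hgcd : Nat.gcd 4 (Fintype.card F ^ (m + 1) + 1) = 1 :=
    gcd_four_of_odd _ (Nat.odd_iff.mp hodd1)
  rw [hgcd, one_mul] at hres
  have hnd : (QuadraticMap.polarBilin (minusForm m F a b)).Nondegenerate :=
    (minus_family m F a b).nondegenerate (minusForm_zero_nondegenerate F a b hab)
  have hcen : Nat.card (Subgroup.center ↥(Cfsg.Omega F (Cfsg.quadFormMinus m F a b))) = 1 := by
    rw [minusForm_coe]
    exact card_center_omega_one (minusForm m F a b) hnd
      (Cfsg.Agent.S0294.minus_hypFam m F a b) hm (Or.inl h2)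
  refine ⟨(Fintype.card F ^ (m + 1) + 1) * ∏ i ∈ Finset.range m,
    (Fintype.card F ^ (2 * (i + 1)) - 1), hodd1.mul (oarith_odd_prod hev hq0 _), ?_⟩
  rw [oarith_card_omega _ hcen, hres, mul_assoc]

end Cfsg.Agent.Lib.Helper20.Sq
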