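import Cfsg.Agent.Lib.Helper77.Fourier
import Cfsg.Agent.Lib.Helper81.LocalRing
import Cfsg.Agent.Lib.Helper56.P3Defs
import Mathlib

set_option autoImplicit false

/-! S4427 hive, leaf P3-L4c: `e_Q` is an idempotent for `conv` with augmentation `1`, and its
coefficients lie in the local ring when `p ∤ |Q|`. -/

namespace Cfsg.Agent.Lib.P3

open Cfsg Cfsg.Agent.Lib.Helper77
open scoped ComplexConjugate
open Polynomial

universe u

section

variable {G : Type u} [Group G] [Fintype G]

theorem p3_L4c_apply (Q : Subgroup G) [DecidablePred (· ∈ Q)] (g : G) :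
    avgCoeff Q g = if g ∈ Q then (Nat.card Q : ℂ)⁻¹ else 0 := by
  unfold avgCoeff
  congr

theorem p3_L4c_card_ne (Q : Subgroup G) : (Nat.card Q : ℂ) ≠ 0 := by
  have : 0 < Nat.card Q := Nat.card_pos
  exact_mod_cast this.ne'

theorem p3_L4c_sum_indicator (Q : Subgroup G) [DecidablePred (· ∈ Q)] (c : ℂ) :
    ∑ g : G, (if g ∈ Q then c else 0) = (Nat.card Q : ℂ) * c := by
  rw [← Finset.sum_filter, Finset.sum_const, nsmul_eq_mul]
  congr 2
  rw [Nat.card_eq_fintype_card, Fintype.card_subtype]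

theorem p3_L4c_avg (Q : Subgroup G) :
    conv (avgCoeff Q) (avgCoeff Q) = avgCoeff Q ∧ ∑ g, avgCoeff Q g = 1 := by
  classical
  have hne := p3_L4c_card_ne Q
  constructor
  · funext g
    unfold conv
    simp only [p3_L4c_apply]
    by_cases hg : g ∈ Q
    · have h1 : ∀ h : G, (if h ∈ Q then (Nat.card Q : ℂ)⁻¹ else 0) *
          (if h⁻¹ * g ∈ Q then (Nat.card Q : ℂ)⁻¹ else 0)
          = if h ∈ Q then (Nat.card Q : ℂ)⁻¹ * (Nat.card Q : ℂ)⁻¹ else 0 := by
        intro h
        by_cases hh : h ∈ Q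
        · have : h⁻¹ * g ∈ Q := Q.mul_mem (Q.inv_mem hh) hg
          rw [if_pos hh, if_pos this, if_pos hh]
        · rw [if_neg hh, if_neg hh, zero_mul]
      rw [Finset.sum_congr rfl (fun h _ => h1 h), p3_L4c_sum_indicator, if_pos hg]
      field_simp
    · have h1 : ∀ h : G, (if h ∈ Q then (Nat.card Q : ℂ)⁻¹ else 0) *
          (if h⁻¹ * g ∈ Q then (Nat.card Q : ℂ)⁻¹ else 0) = 0 := by
        intro h
        by_cases hh : h ∈ Q
        · have : h⁻¹ * g ∉ Q := by
            intro h2
            apply hg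
            have := Q.mul_mem hh h2
            rwa [mul_inv_cancel_left] at this
          rw [if_neg this, mul_zero]
        · rw [if_neg hh, zero_mul]
      rw [Finset.sum_congr rfl (fun h _ => h1 h), Finset.sum_const_zero, if_neg hg]
  · simp only [p3_L4c_apply]
    rw [p3_L4c_sum_indicator]
    field_simp

theorem p3_L4c_avg_mem {p : ℕ} {M : Ideal AlgInt} (hpM : IsPModular p M) (Q : Subgroup G)
    (hQ : ¬ p ∣ Nat.card Q) (g : G) : MemLocalRing M (avgCoeff Q g) := by
  classical
  rw [p3_L4c_apply]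
  split_ifs
  · exact Cfsg.Agent.Lib.Helper81.memLocalRing_inv_natCast hpM hQ
  · exact Cfsg.Agent.Lib.Helper81.memLocalRing_zero (Cfsg.Agent.Lib.Helper81.isPrime_of_isPModular hpM)

end

end Cfsg.Agent.Lib.P3
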