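import Cfsg.Agent.Lib.Helper77.Fourier
import Cfsg.Agent.Lib.Helper81.LocalRing
import Cfsg.Agent.Lib.Helper56.P3Defs
import Mathlib

set_option autoImplicit false

/-! S4427 hive, leaf P3-L4d: `conv` preserves the local ring; augmentation is multiplicative. -/

namespace Cfsg.Agent.Lib.P3

open Cfsg Cfsg.Agent.Lib.Helper77
open scoped ComplexConjugate
open Polynomial

universe u

section

variable {G : Type u} [Group G] [Fintype G]

theorem p3_L4d_conv_mem {M : Ideal AlgInt} (hM : M.IsPrime) (a b : G → ℂ)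
    (ha : ∀ g, MemLocalRing M (a g)) (hb : ∀ g, MemLocalRing M (b g)) (g : G) :
    MemLocalRing M (conv a b g) := by
  unfold conv
  exact Cfsg.Agent.Lib.Helper81.memLocalRing_sum hM _ _
    (fun h _ => Cfsg.Agent.Lib.Helper81.memLocalRing_mul hM (ha h) (hb _))

theorem p3_L4d_conv_aug (a b : G → ℂ) : ∑ g, conv a b g = (∑ g, a g) * (∑ g, b g) := by
  unfold conv
  rw [Finset.sum_comm, Finset.sum_mul]
  refine Finset.sum_congr rfl (fun h _ => ?_)
  rw [← Finset.mul_sum]
  congr 1
  exact Fintype.sum_equiv (Equiv.mulLeft h⁻¹) _ _ (fun g => rfl)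

end

end Cfsg.Agent.Lib.P3
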