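import Mathlib
import Cfsg.Agent.Lib.Helper28.Sp44F4
import Cfsg.Agent.Lib.Helper28.PSetup

/-! U62-FAITH leaf of the `U62` hive (round 2): over a coset-enumeration `Setup` of a proper subgroup of a
simple group, a word fixing every point of the coset table evaluates to `1` (it lies in the normal core). -/

set_option autoImplicit false

namespace Cfsg.Agent.Lib.Helper57.U62

open Cfsg.Agent.Lib.Helper28 Cfsg.Agent.Lib.Helper28.Sp44F4

/-- an element fixing every coset lies in the normal core -/
theorem faith_mem_core {G : Type*} [Group G] {H : Subgroup G} (g : G)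
    (h : ∀ x : G ⧸ H, g • x = x) : g ∈ H.normalCore := by
  intro b
  have h1 := h ((b⁻¹ : G) : G ⧸ H)
  have h2 : ((g * b⁻¹ : G) : G ⧸ H) = ((b⁻¹ : G) : G ⧸ H) := h1
  rw [QuotientGroup.eq] at h2
  have h3 := H.inv_mem h2
  simpa [mul_assoc] using h3

theorem faith {C : Cert} {G : Type*} [Group G] [IsSimpleGroup G] {H : Subgroup G} {gam : ℕ → G}
    {φ : G →* Equiv.Perm ℕ} (hS : Setup C H gam φ) (hH : H ≠ ⊤) (w : List ℕ)
    (hw : ∀ l ∈ w, l < 2 * C.k) (hfix : ∀ p, p < C.n → walkT C p w = p) : evw gam w = 1 := by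
  have hmem : evw gam w ∈ H.normalCore := faith_mem_core _ (PSetup.fix_all hS w hw hfix)
  rcases IsSimpleGroup.eq_bot_or_eq_top_of_normal H.normalCore (Subgroup.normalCore_normal H) with h | h
  · rw [h] at hmem
    exact Subgroup.mem_bot.mp hmem
  · exfalso
    apply hH
    have h1 := Subgroup.normalCore_le H
    rw [h] at h1
    exact top_le_iff.mp h1

end Cfsg.Agent.Lib.Helper57.U62
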