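import Cfsg.Agent.Lib.Helper6.EqD.Defs
import Cfsg.Agent.Lib.Helper2.BGMain

set_option autoImplicit false

namespace Cfsg.Agent.Lib.Helper6.EqD

open Module Polynomial Cfsg.Agent.Lib.Helper2.BG

section general
variable {F V : Type*} [Field F] [AddCommGroup V] [Module F V]

lemma fo5_pow_mod {r : ℕ} (y : Module.End F V) (hy : y ^ r = 1) (n : ℕ) : y ^ (n % r) = y ^ n := by
  conv_rhs => rw [← Nat.div_add_mod n r, pow_add, pow_mul, hy, one_pow, one_mul]

lemma fo5_pow_fix (y : Module.End F V) {c : V} (hc : y c = c) (n : ℕ) : (y ^ n) c = c := by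
  induction n with
  | zero => simp
  | succ n ih => rw [pow_succ, Module.End.mul_apply, hc, ih]

lemma fo5_aeval_cyc {r : ℕ} [hr : Fact r.Prime] (y : Module.End F V) (x : V) :
    aeval y (cyclotomic r F) x = ∑ i ∈ Finset.range r, (y ^ i) x := by
  rw [Polynomial.cyclotomic_prime, map_sum, LinearMap.sum_apply]
  simp only [map_pow, aeval_X]

variable [FiniteDimensional F V]

theorem fo5_cycle {r : ℕ} [hr : Fact r.Prime] (hrF : (r : F) ≠ 0) (y : Module.End F V)
    (hy : y ^ r = 1) (hss : y.IsSemisimple) (hd : AllIrrDeg (cyclotomic r F) (r - 1))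
    {B : Submodule F V} (hB : Inv y B) (hBΦ : B ≤ LinearMap.ker (aeval y (cyclotomic r F)))
    (hBr : finrank F B = r - 1) {b c : V} (hb : b ∈ B) (hb0 : b ≠ 0) (hc : y c = c) (hc0 : c ≠ 0)
    (hdisj : Disjoint B (F ∙ c)) :
    ∃ (D : ZMod r → Submodule F V), Dec y 1 (B ⊔ F ∙ c) D (Equiv.addRight 1) := by
  classical
  have : NeZero r := ⟨hr.out.ne_zero⟩
  have hr2 : 2 ≤ r := hr.out.two_le
  set e : ℕ → V := fun n => (y ^ n) (b + c) with he_def
  have he : ∀ n, e n = (y ^ n) b + c := by
    intro n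
    simp only [he_def, map_add, fo5_pow_fix y hc n]
  have hper : ∀ n, e (n % r) = e n := by
    intro n
    simp only [he_def, fo5_pow_mod y hy n]
  have hye : ∀ n, y (e n) = e (n + 1) := by
    intro n
    simp only [he_def]
    rw [pow_succ', Module.End.mul_apply]
  set v : ZMod r → V := fun i => e i.val with hv_def
  have hyv : ∀ i, y (v i) = v (i + 1) := by
    intro i
    simp only [hv_def]
    rw [hye, ZMod.val_add, ZMod.val_one_eq_one_mod, Nat.mod_eq_of_lt (show 1 < r by omega), hper]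
  have hev : ∀ n, e n = v (n : ZMod r) := by
    intro n
    simp only [hv_def]
    rw [ZMod.val_natCast, hper]
  set Z : Submodule F V := Submodule.span F (Set.range v) with hZ_def
  have hvZ : ∀ i, v i ∈ Z := fun i => Submodule.subset_span (Set.mem_range_self i)
  have heZ : ∀ n, e n ∈ Z := fun n => by rw [hev]; exact hvZ _
  have hZinv : Inv y Z := by
    rw [inv_iff_map_le, hZ_def, Submodule.map_span, Submodule.span_le]
    rintro _ ⟨_, ⟨i, rfl⟩, rfl⟩
    rw [hyv]
    exact hvZ _
  have hcW : c ∈ B ⊔ F ∙ c := (le_sup_right : F ∙ c ≤ B ⊔ F ∙ c) (Submodule.mem_span_singleton_self c)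
  have hZW : Z ≤ B ⊔ F ∙ c := by
    rw [hZ_def, Submodule.span_le]
    rintro _ ⟨i, rfl⟩
    show e i.val ∈ _
    rw [he]
    exact Submodule.add_mem _ ((le_sup_left : B ≤ B ⊔ F ∙ c) (hB.pow _ b hb)) hcW
  -- c ∈ Z
  have hsum : ∑ i ∈ Finset.range r, e i = (r : F) • c := by
    simp only [he, Finset.sum_add_distrib, Finset.sum_const, Finset.card_range]
    rw [← fo5_aeval_cyc, LinearMap.mem_ker.mp (hBΦ hb), zero_add, Nat.cast_smul_eq_nsmul]
  have hcZ : c ∈ Z := by
    have h1 : (r : F) • c ∈ Z := by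
      rw [← hsum]
      exact Submodule.sum_mem _ (fun i _ => heZ i)
    have h2 := Z.smul_mem (r : F)⁻¹ h1
    rwa [smul_smul, inv_mul_cancel₀ hrF, one_smul] at h2
  have hbZ : b ∈ Z := by
    have h0 : e 0 = b + c := by simp [he_def]
    have : b = e 0 - c := by rw [h0]; abel
    rw [this]
    exact Z.sub_mem (heZ 0) hcZ
  have hBZ : B ≤ Z := by
    have hinv : Inv y (B ⊓ Z) := hB.inf hZinv
    have hkill : ∀ x ∈ B ⊓ Z, aeval y (cyclotomic r F) x = 0 := fun x hx =>
      LinearMap.mem_ker.mp (hBΦ hx.1)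
    have hdvd := dvd_finrank_of_inv hss (cyclotomic_ne_zero r F) hd _ (B ⊓ Z) rfl hinv hkill
    have hle : finrank F ↥(B ⊓ Z) ≤ finrank F B := Submodule.finrank_mono inf_le_left
    have hpos : 0 < finrank F ↥(B ⊓ Z) := by
      rw [Nat.pos_iff_ne_zero]
      intro h0
      have h := Submodule.finrank_eq_zero.mp h0
      have : b ∈ B ⊓ Z := ⟨hb, hbZ⟩
      rw [h, Submodule.mem_bot] at this
      exact hb0 this
    have heq : finrank F ↥(B ⊓ Z) = finrank F B := by
      rw [hBr] at hle ⊢
      exact Nat.le_antisymm hle (Nat.le_of_dvd hpos hdvd)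
    have := Submodule.eq_of_le_of_finrank_eq (inf_le_left : B ⊓ Z ≤ B) heq
    rw [← this]
    exact inf_le_right
  have hZeq : Z = B ⊔ F ∙ c := by
    apply le_antisymm hZW
    apply sup_le hBZ
    rw [Submodule.span_le]
    intro x hx
    rw [Set.mem_singleton_iff] at hx
    subst hx
    exact hcZ
  have hfrW : finrank F ↥(B ⊔ F ∙ c) = r := by
    rw [finrank_sup_of_disjoint' _ _ hdisj, hBr, finrank_span_singleton hc0]
    omega
  have hli : LinearIndependent F v := by
    rw [linearIndependent_iff_card_eq_finrank_span, ZMod.card]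
    show r = finrank F (Submodule.span F (Set.range v))
    rw [← hZ_def, hZeq, hfrW]
  have hv0 : ∀ i, v i ≠ 0 := fun i => hli.ne_zero i
  refine ⟨fun i => F ∙ v i, ?_, ?_, ?_, ?_⟩
  · intro i
    exact finrank_span_singleton (hv0 i)
  · exact hli.iSupIndep_span_singleton
  · rw [← hZeq, hZ_def, Submodule.span_range_eq_iSup]
  · intro i
    show Submodule.map y (F ∙ v i) = F ∙ v (i + 1)
    rw [Submodule.map_span, Set.image_singleton, hyv]

theorem fo5_main {r : ℕ} [hr : Fact r.Prime] (hrF : (r : F) ≠ 0) (y : Module.End F V)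
    (hy : y ^ r = 1) (hd : AllIrrDeg (cyclotomic r F) (r - 1)) (hc1 : 1 < r - 1) :
    ∀ (k : ℕ) (M : Submodule F V), finrank F M = k → Inv y M →
      finrank F ↥(M ⊓ LinearMap.ker (aeval y (cyclotomic r F))) ≤
        (r - 1) * finrank F ↥(M ⊓ LinearMap.ker (aeval y (X - 1 : F[X]))) →
      ∃ (ι : Type) (_ : Fintype ι) (D : ι → Submodule F V) (σ : Equiv.Perm ι),
        Dec y 1 M D σ := by
  classical
  have hX : (X - 1 : F[X]) * cyclotomic r F = X ^ r - 1 := by
    rw [mul_comm, Polynomial.cyclotomic_prime_mul_X_sub_one]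
  have hpoly : aeval y (X ^ r - 1 : F[X]) = 0 := by
    rw [map_sub, map_pow, aeval_X, map_one, hy, sub_self]
  have hss : y.IsSemisimple :=
    Module.End.isSemisimple_of_squarefree_aeval_eq_zero (squarefree_X_pow_sub_one hrF) hpoly
  have hcop := isCoprime_X_sub_one_cyclotomic (F := F) (r := r) hrF
  have hkill : ∀ (M : Submodule F V), ∀ v ∈ M,
      aeval y ((X - 1) * cyclotomic r F : F[X]) v = 0 := by
    intro M v _
    rw [hX, hpoly]; rfl
  have hK1 : ∀ c : V, c ∈ LinearMap.ker (aeval y (X - 1 : F[X])) → y c = c := by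
    intro c hc
    rw [LinearMap.mem_ker] at hc
    simp only [map_sub, aeval_X, map_one, LinearMap.sub_apply, Module.End.one_apply] at hc
    exact sub_eq_zero.mp hc
  have hspanInv : ∀ c : V, y c = c → Inv y (F ∙ c) := by
    intro c hc x hx
    obtain ⟨a, rfl⟩ := Submodule.mem_span_singleton.mp hx
    rw [map_smul, hc]
    exact Submodule.smul_mem _ _ (Submodule.mem_span_singleton_self c)
  have hmapeq : ∀ W : Submodule F V, Inv y W → W.map y = W := by
    intro W hW
    apply le_antisymm ((inv_iff_map_le y W).mp hW)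
    intro x hx
    refine ⟨(y ^ (r - 1)) x, hW.pow _ x hx, ?_⟩
    rw [← Module.End.mul_apply, ← pow_succ', Nat.sub_add_cancel hr.out.one_le, hy]
    rfl
  intro k
  induction k using Nat.strong_induction_on with
  | _ k ih =>
    intro M hk hM hsf
    set KΦ := LinearMap.ker (aeval y (cyclotomic r F)) with hKΦ
    set K1 := LinearMap.ker (aeval y (X - 1 : F[X])) with hK1def
    obtain ⟨hsplit, hdisjK, hfr0⟩ := finrank_inv_split hcop hM (hkill M)
    have hfr : finrank F M = finrank F ↥(M ⊓ K1) + finrank F ↥(M ⊓ KΦ) := hfr0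
    clear hfr0
    by_cases hM0 : M = ⊥
    · subst hM0
      exact ⟨Empty, inferInstance, fun _ => ⊥, 1, Dec.empty 1 _ _⟩
    by_cases hs0 : M ⊓ KΦ = ⊥
    · -- all of M is fixed
      rw [hs0, sup_bot_eq] at hsplit
      have hMK1 : M ≤ K1 := by rw [hsplit]; exact inf_le_right
      obtain ⟨c, hcM, hc0⟩ := (Submodule.ne_bot_iff M).mp hM0
      have hyc : y c = c := hK1 c (hMK1 hcM)
      have hWinv := hspanInv c hyc
      have hWM : F ∙ c ≤ M := by
        rw [Submodule.span_le]
        intro x hx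
        rw [Set.mem_singleton_iff] at hx
        subst hx; exact hcM
      obtain ⟨M', hM', hM'M, hdis, hsup, hfrM⟩ := exists_inv_compl_in hss hWinv hM hWM
      rw [finrank_span_singleton hc0] at hfrM
      have hlt : finrank F M' < k := by omega
      have hs' : finrank F ↥(M' ⊓ KΦ) ≤ (r - 1) * finrank F ↥(M' ⊓ K1) := by
        have : M' ⊓ KΦ = ⊥ := by
          apply le_bot_iff.mp
          rw [← hs0]
          exact inf_le_inf_right _ hM'M
        rw [this, finrank_bot]
        exact Nat.zero_le _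
      obtain ⟨ι, hι, D, σ, hDec⟩ := ih _ hlt M' rfl hM' hs'
      have h1 := Dec.single (y := y) (hmapeq _ hWinv)
      rw [finrank_span_singleton hc0] at h1
      have := h1.glue hDec hdis
      rw [hsup] at this
      exact ⟨Unit ⊕ ι, inferInstance, _, _, this⟩
    · -- a cycle
      have hspos : 0 < finrank F ↥(M ⊓ KΦ) := by
        rw [Nat.pos_iff_ne_zero]
        intro h0
        exact hs0 (Submodule.finrank_eq_zero.mp h0)
      have hfpos : 0 < finrank F ↥(M ⊓ K1) := by
        rw [Nat.pos_iff_ne_zero]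
        intro h0
        rw [h0, mul_zero] at hsf
        omega
      obtain ⟨c, hcMK, hc0⟩ : ∃ c ∈ M ⊓ K1, c ≠ 0 := by
        have hne : M ⊓ K1 ≠ ⊥ := by
          intro h
          rw [h, finrank_bot] at hfpos
          exact lt_irrefl _ hfpos
        exact (Submodule.ne_bot_iff _).mp hne
      have hyc : y c = c := hK1 c hcMK.2
      obtain ⟨_, B, hBle, hBinv, hBr⟩ := exists_inv_finrank_eq y (cyclotomic_ne_zero r F) hd
        (hM.inf (inv_ker_aeval y _)) (fun v hv => LinearMap.mem_ker.mp hv.2) hs0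
      have hBne : B ≠ ⊥ := by
        intro h
        rw [h, finrank_bot] at hBr
        omega
      obtain ⟨b, hbB, hb0⟩ := (Submodule.ne_bot_iff B).mp hBne
      have hBΦ : B ≤ KΦ := hBle.trans inf_le_right
      have hBM : B ≤ M := hBle.trans inf_le_left
      have hcK1 : F ∙ c ≤ K1 := by
        rw [Submodule.span_le]
        intro x hx
        rw [Set.mem_singleton_iff] at hx
        subst hx; exact hcMK.2
      have hcM : F ∙ c ≤ M := by
        rw [Submodule.span_le]
        intro x hx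
        rw [Set.mem_singleton_iff] at hx
        subst hx; exact hcMK.1
      have hdisjBc : Disjoint B (F ∙ c) := hdisjK.symm.mono hBΦ hcK1
      obtain ⟨D, hD⟩ := fo5_cycle hrF y hy hss hd hBinv hBΦ hBr hbB hb0 hyc hc0 hdisjBc
      have hWinv : Inv y (B ⊔ F ∙ c) := hBinv.sup (hspanInv c hyc)
      have hWM : B ⊔ F ∙ c ≤ M := sup_le hBM hcM
      have hfrW : finrank F ↥(B ⊔ F ∙ c) = r := by
        rw [finrank_sup_of_disjoint' _ _ hdisjBc, hBr, finrank_span_singleton hc0]
        have := hr.out.two_le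
        omega
      obtain ⟨M', hM', hM'M, hdis, hsup, hfrM⟩ := exists_inv_compl_in hss hWinv hM hWM
      rw [hfrW] at hfrM
      have hr2 := hr.out.two_le
      have hlt : finrank F M' < k := by omega
      obtain ⟨_, _, hfr0'⟩ := finrank_inv_split hcop hM' (hkill M')
      have hfr' : finrank F M' = finrank F ↥(M' ⊓ K1) + finrank F ↥(M' ⊓ KΦ) := hfr0'
      clear hfr0'
      -- superadditivity
      have hsΦ : finrank F ↥(M' ⊓ KΦ) + (r - 1) ≤ finrank F ↥(M ⊓ KΦ) := by
        have hd1 : Disjoint B (M' ⊓ KΦ) :=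
          hdis.mono (le_sup_left : B ≤ B ⊔ F ∙ c) inf_le_left
        have hle : B ⊔ (M' ⊓ KΦ) ≤ M ⊓ KΦ := sup_le hBle (inf_le_inf_right _ hM'M)
        have := Submodule.finrank_mono hle
        rw [finrank_sup_of_disjoint' _ _ hd1, hBr] at this
        omega
      have hs1 : finrank F ↥(M' ⊓ K1) + 1 ≤ finrank F ↥(M ⊓ K1) := by
        have hd1 : Disjoint (F ∙ c) (M' ⊓ K1) :=
          hdis.mono (le_sup_right : F ∙ c ≤ B ⊔ F ∙ c) inf_le_left
        have hle : (F ∙ c) ⊔ (M' ⊓ K1) ≤ M ⊓ K1 :=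
          sup_le (le_inf hcM hcK1) (inf_le_inf_right _ hM'M)
        have := Submodule.finrank_mono hle
        rw [finrank_sup_of_disjoint' _ _ hd1, finrank_span_singleton hc0] at this
        omega
      have hs' : finrank F ↥(M' ⊓ KΦ) ≤ (r - 1) * finrank F ↥(M' ⊓ K1) := by
        have e1 : finrank F ↥(M' ⊓ K1) + 1 = finrank F ↥(M ⊓ K1) := by omega
        have e2 : finrank F ↥(M' ⊓ KΦ) + (r - 1) = finrank F ↥(M ⊓ KΦ) := by omega
        have e3 : (r - 1) * finrank F ↥(M ⊓ K1) = (r - 1) * finrank F ↥(M' ⊓ K1) + (r - 1) := by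
          rw [← e1]; ring
        omega
      obtain ⟨ι, hι, D', σ, hDec⟩ := ih _ hlt M' rfl hM' hs'
      have := hD.glue hDec hdis
      rw [hsup] at this
      exact ⟨ZMod r ⊕ ι, inferInstance, _, _, this⟩

end general

section finite
variable {F V : Type*} [Field F] [Fintype F] [AddCommGroup V] [Module F V] [FiniteDimensional F V]

lemma fo5_arith (m f j n : ℕ) (_hm : 0 < m) (hn : n = f + m * j)
    (h : n ≤ (n % m) * (m + 1)) : m * j ≤ m * f := by
  have h1 : n % m = f % m := by rw [hn, Nat.add_mul_mod_self_left]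
  have h2 : f % m ≤ f := Nat.mod_le _ _
  rw [h1] at h
  have h3 : f % m * (m + 1) = m * (f % m) + f % m := by ring
  rw [h3, hn] at h
  have h4 : m * j ≤ m * (f % m) := by omega
  exact h4.trans (Nat.mul_le_mul_left _ h2)

/-! ## FO-5 (LINES) -/
theorem exists_dec_lines {p : ℕ} [Fact p.Prime] [CharP F p] {r : ℕ} [Fact r.Prime] (hrp : r ≠ p)
    (y : Module.End F V) (hy : y ^ r = 1)
    (hc : orderOf ((Fintype.card F : ℕ) : ZMod r) = r - 1) (hc1 : 1 < r - 1)
    (hn : finrank F V ≤ (finrank F V % (r - 1)) * r) :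
    ∃ (ι : Type) (_ : Fintype ι) (D : ι → Submodule F V) (σ : Equiv.Perm ι), Dec y 1 ⊤ D σ := by
  have hrF : (r : F) ≠ 0 := natCast_ne_zero_of_ne (p := p) hrp
  have hd : AllIrrDeg (cyclotomic r F) (r - 1) := by
    have := allIrrDeg_cyclotomic (F := F) (p := p) (r := r) hrp
    rwa [hc] at this
  have hX : (X - 1 : F[X]) * cyclotomic r F = X ^ r - 1 := by
    rw [mul_comm, Polynomial.cyclotomic_prime_mul_X_sub_one]
  have hpoly : aeval y (X ^ r - 1 : F[X]) = 0 := by
    rw [map_sub, map_pow, aeval_X, map_one, hy, sub_self]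
  have hss : y.IsSemisimple :=
    Module.End.isSemisimple_of_squarefree_aeval_eq_zero (squarefree_X_pow_sub_one hrF) hpoly
  have hcop := isCoprime_X_sub_one_cyclotomic (F := F) (r := r) hrF
  have hkill : ∀ v ∈ (⊤ : Submodule F V), aeval y ((X - 1) * cyclotomic r F : F[X]) v = 0 := by
    intro v _
    rw [hX, hpoly]; rfl
  obtain ⟨_, _, hsplit⟩ := finrank_inv_split hcop (inv_top y) hkill
  rw [top_inf_eq, top_inf_eq, finrank_top] at hsplit
  obtain ⟨j, hj⟩ := dvd_finrank_of_inv hss (cyclotomic_ne_zero r F) hd _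
    (LinearMap.ker (aeval y (cyclotomic r F))) rfl (inv_ker_aeval y _)
    (fun v hv => LinearMap.mem_ker.mp hv)
  refine fo5_main hrF y hy hd hc1 _ ⊤ rfl (inv_top y) ?_
  rw [top_inf_eq, top_inf_eq, hj]
  have hr1 : r - 1 + 1 = r := by omega
  rw [← hr1] at hn
  rw [hj] at hsplit
  exact fo5_arith (r - 1) _ j _ (by omega) hsplit (by simpa using hn)

end finite

end Cfsg.Agent.Lib.Helper6.EqD
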