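import Cfsg.Agent.Lib.Helper97.FH_W2

/-! # Feit–Higman hive (helper6), leaf FH-W3: enumeration of a dihedral exchange system (helper97) -/

set_option autoImplicit false
set_option linter.unusedVariables false

namespace Cfsg.Agent.Lib.Helper6.FH

open Cfsg.Agent.Lib.Helper6 Cfsg.Agent.Lib.Helper6.St Cfsg.Agent.Lib.Helper6.Exch

section W2
variable {W : Type*} [Group W] {ι : Type*} {σ : ι → W}

/-- the set of alternating products of length at most `n` -/
def w3_S (x y : W) (n : ℕ) : Set W := {w | ∃ l ≤ n, w = altP l x y ∨ w = altP l y x}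

theorem w3_S_symm (x y : W) (n : ℕ) : w3_S x y n = w3_S y x n := by
  ext w
  constructor
  · rintro ⟨l, hl, h | h⟩
    · exact ⟨l, hl, Or.inr h⟩
    · exact ⟨l, hl, Or.inl h⟩
  · rintro ⟨l, hl, h | h⟩
    · exact ⟨l, hl, Or.inr h⟩
    · exact ⟨l, hl, Or.inl h⟩

/-- closure under left multiplication with the first generator -/
theorem w3_mul_mem {x y : W} (hx : x * x = 1) {n : ℕ} (hn : 1 ≤ n)
    (hbr : altP n x y = altP n y x) {w : W} (hw : w ∈ w3_S x y n) : x * w ∈ w3_S x y n := by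
  obtain ⟨l, hl, h | h⟩ := hw
  · -- `w = altP l x y`
    rcases Nat.eq_zero_or_pos l with h0 | hpos
    · subst h0
      refine ⟨1, hn, Or.inl ?_⟩
      rw [h, altP_succ, altP_zero, altP_zero]
    · obtain ⟨l', rfl⟩ : ∃ l', l = l' + 1 := ⟨l - 1, by omega⟩
      refine ⟨l', by omega, Or.inr ?_⟩
      rw [h, altP_succ, ← mul_assoc, hx, one_mul]
  · -- `w = altP l y x`
    rcases Nat.lt_or_ge l n with hlt | hge
    · refine ⟨l + 1, by omega, Or.inl ?_⟩
      rw [h, altP_succ]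
    · have hln : l = n := by omega
      subst hln
      obtain ⟨l', rfl⟩ : ∃ l', l = l' + 1 := ⟨l - 1, by omega⟩
      refine ⟨l', by omega, Or.inr ?_⟩
      rw [h, ← hbr, altP_succ, ← mul_assoc, hx, one_mul]

/-- every element is an alternating product of length at most the order of `x * y` -/
theorem w3_mem_S [Finite W] (h : ExSys σ) {i₁ i₂ : ι} (hall : ∀ i, i = i₁ ∨ i = i₂) (w : W) :
    w ∈ w3_S (σ i₁) (σ i₂) (orderOf (σ i₁ * σ i₂)) := by
  have hn : 1 ≤ orderOf (σ i₁ * σ i₂) := orderOf_pos _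
  have hbr := altP_braid_of_orderOf (h.sq i₁) (h.sq i₂)
  obtain ⟨L, rfl⟩ := h.gen w
  induction L with
  | nil => exact ⟨0, Nat.zero_le _, Or.inl (by simp)⟩
  | cons i L ih =>
    rw [wp_cons]
    rcases hall i with rfl | rfl
    · exact w3_mul_mem (h.sq _) hn hbr ih
    · rw [w3_S_symm] at ih ⊢
      exact w3_mul_mem (h.sq _) hn hbr.symm ih

/-- the enumeration map -/
def w3_F (x y : W) (n : ℕ) : Bool × Fin n → W
  | (false, l) => altP (l : ℕ) x y
  | (true, l) => altP ((l : ℕ) + 1) y x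

theorem w3_F_bijective [Finite W] (h : ExSys σ) {i₁ i₂ : ι} (hall : ∀ i, i = i₁ ∨ i = i₂)
    (hne : σ i₁ ≠ σ i₂) :
    Function.Bijective (w3_F (σ i₁) (σ i₂) (orderOf (σ i₁ * σ i₂))) := by
  have hn : 1 ≤ orderOf (σ i₁ * σ i₂) := orderOf_pos _
  have hbr := altP_braid_of_orderOf (h.sq i₁) (h.sq i₂)
  have hell : ∀ l, l ≤ orderOf (σ i₁ * σ i₂) →
      ell σ (altP l (σ i₁) (σ i₂)) = l ∧ ell σ (altP l (σ i₂) (σ i₁)) = l :=
    fun l hl => ell_altP h hall hne hl
  have hswap : ∀ l, 0 < l → l < orderOf (σ i₁ * σ i₂) →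
      altP l (σ i₁) (σ i₂) ≠ altP l (σ i₂) (σ i₁) := by
    intro l h0 hl he
    exact pow_ne_one_of_lt_orderOf (by omega) hl (altP_eq_swap_imp (h.sq i₁) (h.sq i₂) he)
  constructor
  · rintro ⟨b, ⟨l, hl⟩⟩ ⟨b', ⟨l', hl'⟩⟩ he
    cases b <;> cases b' <;> simp only [w3_F] at he
    · have h1 := congrArg (ell σ) he
      rw [(hell l (by omega)).1, (hell l' (by omega)).1] at h1
      subst h1; rfl
    · exfalso
      have h1 := congrArg (ell σ) he
      rw [(hell l (by omega)).1, (hell (l' + 1) (by omega)).2] at h1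
      subst h1
      exact hswap (l' + 1) (by omega) hl he
    · exfalso
      have h1 := congrArg (ell σ) he
      rw [(hell (l + 1) (by omega)).2, (hell l' (by omega)).1] at h1
      subst h1
      exact hswap (l + 1) (by omega) hl' he.symm
    · have h1 := congrArg (ell σ) he
      rw [(hell (l + 1) (by omega)).2, (hell (l' + 1) (by omega)).2] at h1
      have h2 : l = l' := by omega
      subst h2; rfl
  · intro w
    obtain ⟨l, hl, hw | hw⟩ := w3_mem_S h hall w
    · rcases Nat.lt_or_ge l (orderOf (σ i₁ * σ i₂)) with hlt | hge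
      · exact ⟨(false, ⟨l, hlt⟩), by rw [hw]; rfl⟩
      · have hln : l = orderOf (σ i₁ * σ i₂) := by omega
        refine ⟨(true, ⟨orderOf (σ i₁ * σ i₂) - 1, by omega⟩), ?_⟩
        have e1 : w = altP (orderOf (σ i₁ * σ i₂) - 1 + 1) (σ i₂) (σ i₁) := by
          rw [hw, hln, hbr]
          congr 1
          omega
        rw [e1]
        rfl
    · rcases Nat.eq_zero_or_pos l with h0 | hpos
      · subst h0
        exact ⟨(false, ⟨0, by omega⟩), by rw [hw]; rfl⟩
      · refine ⟨(true, ⟨l - 1, by omega⟩), ?_⟩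
        have e1 : w = altP (l - 1 + 1) (σ i₂) (σ i₁) := by
          rw [hw]
          congr 1
          omega
        rw [e1]
        rfl

/-! ### FH-W3 (enumeration of the elements) -/
theorem sum_dihedral [Fintype W] (h : ExSys σ) {i₁ i₂ : ι} (hall : ∀ i, i = i₁ ∨ i = i₂) (hne : σ i₁ ≠ σ i₂)
    (g : W → ℂ) :
    ∑ w, g w = g 1 + ∑ l ∈ Finset.Ico 1 (orderOf (σ i₁ * σ i₂)),
        (g (altP l (σ i₁) (σ i₂)) + g (altP l (σ i₂) (σ i₁))) +
      g (altP (orderOf (σ i₁ * σ i₂)) (σ i₁) (σ i₂)) := by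
  have hn : 1 ≤ orderOf (σ i₁ * σ i₂) := orderOf_pos _
  have hbr := altP_braid_of_orderOf (h.sq i₁) (h.sq i₂)
  rw [← (w3_F_bijective h hall hne).sum_comp g, Fintype.sum_prod_type, Fintype.sum_bool]
  simp only [w3_F]
  rw [Fin.sum_univ_eq_sum_range (fun l => g (altP (l + 1) (σ i₂) (σ i₁))),
    Fin.sum_univ_eq_sum_range (fun l => g (altP l (σ i₁) (σ i₂)))]
  obtain ⟨m, hm⟩ : ∃ m, orderOf (σ i₁ * σ i₂) = m + 1 := ⟨orderOf (σ i₁ * σ i₂) - 1, by omega⟩
  rw [hbr, hm, Finset.sum_range_succ, Finset.sum_range_succ', Finset.sum_Ico_eq_sum_range,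
    Finset.sum_add_distrib]
  simp only [altP_zero, Nat.add_sub_cancel]
  have e : ∀ f : ℕ → ℂ, ∑ i ∈ Finset.range m, f (1 + i) = ∑ i ∈ Finset.range m, f (i + 1) := by
    intro f
    apply Finset.sum_congr rfl
    intro i _
    rw [add_comm]
  rw [e (fun l => g (altP l (σ i₁) (σ i₂))), e (fun l => g (altP l (σ i₂) (σ i₁)))]
  ring

end W2

end Cfsg.Agent.Lib.Helper6.FH
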