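import Mathlib
import Cfsg.Agent.Lib.Helper70.SpUDefs
import Cfsg.Agent.Lib.Helper41.SpBNBasic

/-! # S2316 hive (helper70), LEAF SPU-UT (helper97): `B = U T` and `U ⊓ T = ⊥` in `Sp_{2m}(F)`. -/

set_option autoImplicit false

namespace Cfsg.Agent.Lib.Helper70.SpU

open Matrix Cfsg Cfsg.Agent.Lib.Helper13 Cfsg.Agent.Lib.Helper41.SpBN

universe u

variable {F : Type u} [Field F] {m : ℕ}

/-- the elements of `B` are upper triangular for the order `pos` -/
theorem ut_B_upper {b : SpG F m} (hb : b ∈ Bsp F m) (a c : Idx m) (h : pos c < pos a) :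
    b.1 a c = 0 := by
  obtain ⟨h1, h2⟩ := (mem_Bsp_iff b).mp hb
  rcases a with i | i <;> rcases c with j | j
  · exact h1 i j (by simpa using h)
  · exfalso
    simp only [pos_inl, pos_inr] at h
    have := i.2; have := j.2; omega
  · exact h2 i j
  · apply B_lower hb i j
    simp only [pos_inr] at h
    have := i.2; have := j.2; omega

/-- the diagonal of an element of `B`: the entries at `a` and `a.swap` are inverse to each other -/
theorem ut_diag_mul {b : SpG F m} (hb : b ∈ Bsp F m) (a : Idx m) :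
    b.1 a a * b.1 a.swap a.swap = 1 := by
  obtain ⟨h1, h2⟩ := (mem_Bsp_iff b).mp hb
  have hC : b.1.toBlocks₂₁ = 0 := by
    ext i j
    exact h2 i j
  have hmem : Matrix.fromBlocks b.1.toBlocks₁₁ b.1.toBlocks₁₂ b.1.toBlocks₂₁ b.1.toBlocks₂₂ ∈
      Matrix.symplecticGroup (Fin m) F := by
    rw [Matrix.fromBlocks_toBlocks]
    exact b.2
  rw [SymplecticGroup.fromBlocks_mem_iff] at hmem
  have hAD : (b.1.toBlocks₁₁)ᵀ * b.1.toBlocks₂₂ = 1 := by
    have := hmem.2.2
    rwa [hC, Matrix.transpose_zero, Matrix.zero_mul, sub_zero] at this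
  have key : ∀ i : Fin m, b.1 (Sum.inl i) (Sum.inl i) * b.1 (Sum.inr i) (Sum.inr i) = 1 := by
    intro i
    have h3 := congrFun (congrFun hAD i) i
    rw [Matrix.mul_apply, Matrix.one_apply_eq] at h3
    rw [Finset.sum_eq_single i] at h3
    · exact h3
    · intro k _ hki
      rcases lt_or_gt_of_ne hki with hlt | hgt
      · have : b.1.toBlocks₂₂ k i = 0 := B_lower hb k i hlt
        rw [this, mul_zero]
      · have : (b.1.toBlocks₁₁)ᵀ i k = 0 := h1 k i hgt
        rw [this, zero_mul]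
    · intro hi
      exact absurd (Finset.mem_univ i) hi
  rcases a with i | i
  · exact key i
  · rw [Sum.swap_inr, mul_comm]
    exact key i

theorem ut_Usp_le_B [Finite F] : Usp F m ≤ Bsp F m := by
  intro g hg
  rw [mem_Bsp_iff]
  have hg' : ∀ a b, pos b ≤ pos a → g.1 a b = (1 : Matrix (Idx m) (Idx m) F) a b := hg
  constructor
  · intro i j hji
    rw [hg' (Sum.inl i) (Sum.inl j) (by simpa using hji.le), Matrix.one_apply_ne]
    intro h
    have := Sum.inl_injective h
    rw [this] at hji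
    exact lt_irrefl _ hji
  · intro i j
    rw [hg' (Sum.inr i) (Sum.inl j), Matrix.one_apply_ne Sum.inr_ne_inl]
    simp only [pos_inl, pos_inr]
    have := i.2; have := j.2; omega

theorem Usp_sup_T [Finite F] : Usp F m ⊔ (Bsp F m ⊓ Nsp F m) = Bsp F m := by
  apply le_antisymm
  · exact sup_le ut_Usp_le_B inf_le_left
  · intro b hb
    have hne : ∀ a : Idx m, b.1 a a ≠ 0 := by
      intro a h0
      have := ut_diag_mul hb a
      rw [h0, zero_mul] at this
      exact zero_ne_one this
    have hd : ∀ a : Idx m, (fun a => (b.1 a a)⁻¹) a * (fun a => (b.1 a a)⁻¹) a.swap = 1 := by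
      intro a
      change (b.1 a a)⁻¹ * (b.1 a.swap a.swap)⁻¹ = 1
      rw [← mul_inv, ut_diag_mul hb a, inv_one]
    have ht : spDiag (fun a => (b.1 a a)⁻¹) hd ∈ Bsp F m ⊓ Nsp F m := by
      rw [B_inf_N]
      exact spDiag_mem_spTorus _ hd
    have hu : b * spDiag (fun a => (b.1 a a)⁻¹) hd ∈ Usp F m := by
      change b * spDiag (fun a => (b.1 a a)⁻¹) hd ∈ Vl F (pos : Idx m → ℕ)
      rw [mem_Vl]
      intro a c hca
      rw [coe_mul']
      change (b.1 * Matrix.diagonal (fun a => (b.1 a a)⁻¹)) a c = _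
      rw [Matrix.mul_diagonal]
      by_cases hac : a = c
      · subst hac
        rw [Matrix.one_apply_eq, mul_inv_cancel₀ (hne a)]
      · rw [Matrix.one_apply_ne hac]
        have hlt : pos c < pos a := lt_of_le_of_ne hca (fun h => hac (pos_injective h).symm)
        rw [ut_B_upper hb a c hlt, zero_mul]
    have hb' : b = (b * spDiag (fun a => (b.1 a a)⁻¹) hd) * (spDiag (fun a => (b.1 a a)⁻¹) hd)⁻¹ := by
      group
    rw [hb']
    exact Subgroup.mul_mem_sup hu (Subgroup.inv_mem _ ht)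

theorem Usp_inf_T [Finite F] : Usp F m ⊓ (Bsp F m ⊓ Nsp F m) = ⊥ := by
  rw [eq_bot_iff]
  intro g hg
  rw [Subgroup.mem_bot]
  obtain ⟨hU, hT⟩ := Subgroup.mem_inf.mp hg
  rw [B_inf_N, mem_spTorus_iff] at hT
  have hU' : ∀ a b, pos b ≤ pos a → g.1 a b = (1 : Matrix (Idx m) (Idx m) F) a b := hU
  apply Subtype.ext
  ext a c
  rw [coe_one']
  by_cases hac : a = c
  · subst hac
    exact hU' a a le_rfl
  · rw [Matrix.one_apply_ne hac]
    exact hT a c hac

end Cfsg.Agent.Lib.Helper70.SpU
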