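import Mathlib
import Cfsg.Agent.Lib.Helper70.SpUDefs

/-! # S2316 hive (helper70), LEAF SPU-LIFT (helper97): every permutation in the closure of the permutations of
the simple reflections in `J` is the permutation of a monomial matrix in `closure J`. -/

set_option autoImplicit false

namespace Cfsg.Agent.Lib.Helper70.SpU

open Matrix Cfsg Cfsg.Agent.Lib.Helper13 Cfsg.Agent.Lib.Helper41.SpBN

universe u

variable {F : Type u} [Field F] {m : ℕ}

theorem exists_lift (J : Set (SpG F m)) {ρ : Equiv.Perm (Idx m)}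
    (hρ : ρ ∈ Subgroup.closure (permsOf J)) :
    ∃ w ∈ Subgroup.closure J, ∃ e : Idx m → F, IsMono w.1 ρ e := by
  induction hρ using Subgroup.closure_induction with
  | mem σ hσ =>
    obtain ⟨_, s, hsJ, hsm⟩ := hσ
    exact ⟨s, Subgroup.subset_closure hsJ, _, hsm ▸ monoMat_isMono σ 1⟩
  | one => exact ⟨1, Subgroup.one_mem _, _, isMono_one⟩
  | mul σ τ _ _ ih1 ih2 =>
    obtain ⟨w1, hw1, e1, h1⟩ := ih1
    obtain ⟨w2, hw2, e2, h2⟩ := ih2
    exact ⟨w1 * w2, Subgroup.mul_mem _ hw1 hw2, _, isMono_mul h1 h2⟩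
  | inv σ _ ih =>
    obtain ⟨w, hw, e, h⟩ := ih
    exact ⟨w⁻¹, Subgroup.inv_mem _ hw, _, isMono_inv w h⟩

end Cfsg.Agent.Lib.Helper70.SpU
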