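import Mathlib
import Cfsg.Agent.Lib.Helper85.PSpDefs
import Cfsg.Agent.Lib.Helper85.PSpL8
import Cfsg.Agent.Lib.Helper40.PSpL1
import Cfsg.Agent.Lib.Helper25.PSpL5
import Cfsg.Agent.Lib.Helper41.PSLnA

set_option autoImplicit false

/-! PSp-L23 for S5171 (helper85): the shape of the centre of `US`. -/

namespace Cfsg.Agent.Lib.Helper85.PSp

open Matrix Cfsg.Agent.Lib.Helper45.SpAut Cfsg.Agent.Lib.Helper41.PSLn
  Cfsg.Agent.Lib.Helper95.Fusion

variable {F : Type*} [Field F] [Fintype F] {m : ℕ}

/-- a central element of `US` fixes every `e_i` -/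
theorem l23_fix_eV {z : SpG m F} (hz : z ∈ US m F)
    (hc : ∀ u ∈ US m F, z * u = u * z) (i : Fin m) :
    z.1 *ᵥ (eV i : Vec m F) = eV i := by
  have hT : T (eV i : Vec m F) (1 : F) ∈ US m F := NS_le_US (T_mem_NS (inL_eV i) 1)
  have h1 : z * T (eV i : Vec m F) 1 * z⁻¹ = T (eV i) 1 := by
    rw [hc _ hT, mul_inv_cancel_right]
  rw [conj_T] at h1
  have h2 : (T (z.1 *ᵥ (eV i : Vec m F)) 1).1 *ᵥ (fV i : Vec m F) =
      (T (eV i : Vec m F) 1).1 *ᵥ (fV i : Vec m F) := by rw [h1]
  rw [T_mulVec, T_mulVec, B_fV_left, B_fV_left] at h2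
  have h3 : (z.1 *ᵥ (eV i : Vec m F)) (Sum.inl i) = 1 := by
    have h4 := (mem_US_iff.1 hz).2 i i le_rfl
    rw [Matrix.one_apply_eq] at h4
    rw [eV, Matrix.mulVec_single_one, Matrix.col_apply]
    exact h4
  have h5 : (eV i : Vec m F) (Sum.inl i) = 1 := by
    rw [eV, Pi.single_eq_same]
  rw [h3, h5, one_mul, one_smul, one_smul] at h2
  exact add_left_cancel h2

/-- a central element of `US` lies in `NS` -/
theorem l23_mem_NS {z : SpG m F} (hz : z ∈ US m F)
    (hc : ∀ u ∈ US m F, z * u = u * z) : z ∈ NS m F := by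
  intro y hy
  have hy' : y = ∑ i, y (Sum.inl i) • (eV i : Vec m F) := by
    ext a
    rcases a with a | a
    · rw [Finset.sum_apply, Finset.sum_eq_single a]
      · rw [Pi.smul_apply, eV, Pi.single_eq_same, smul_eq_mul, mul_one]
      · intro b _ hb
        rw [Pi.smul_apply, eV, Pi.single_eq_of_ne (by simpa using hb.symm), smul_zero]
      · intro h; exact absurd (Finset.mem_univ _) h
    · rw [Finset.sum_apply, hy a]
      symm
      apply Finset.sum_eq_zero
      intro b _
      rw [Pi.smul_apply, eV, Pi.single_eq_of_ne (by simp), smul_zero]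
  have h1 : z.1 *ᵥ (∑ i, y (Sum.inl i) • (eV i : Vec m F)) =
      ∑ i, y (Sum.inl i) • (eV i : Vec m F) := by
    rw [Matrix.mulVec_sum]
    apply Finset.sum_congr rfl
    intro i _
    rw [Matrix.mulVec_smul, l23_fix_eV hz hc]
  rw [hy']
  exact h1

theorem l23_tv_inv {k l : Fin m} (hkl : k ≠ l) :
    (tv hkl (1 : F) : SLn m F)⁻¹ = tv hkl (-1) := by
  apply inv_eq_of_mul_eq_one_right
  rw [← SpecialLinearGroup.transvection_add, add_neg_cancel]
  exact SpecialLinearGroup.transvection_coeff_zero hkl

/-- commuting with `dHom (tv k l 1)` -/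
theorem l23_comm_eq {S : Matrix (Fin m) (Fin m) F} (hS : Sᵀ = S) {k l : Fin m} (hkl : k ≠ l)
    (h : nElt S hS * dHom (tv hkl (1 : F)) = dHom (tv hkl (1 : F)) * nElt S hS) :
    single k l (1 : F) * S = - (S * single l k (1 : F)) := by
  have h1 := congrArg Subtype.val h
  have e1 : (nElt S hS * dHom (tv hkl (1 : F))).1 = (nElt S hS).1 * (dHom (tv hkl (1 : F))).1 := rfl
  have e2 : (dHom (tv hkl (1 : F)) * nElt S hS).1 = (dHom (tv hkl (1 : F))).1 * (nElt S hS).1 := rfl
  rw [e1, e2, dHom_coe, l23_tv_inv, l5_nElt_coe, fromBlocks_multiply, fromBlocks_multiply] at h1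
  have h2 := (fromBlocks_inj.mp h1).2.1
  rw [tv_coe, tv_coe] at h2
  simp only [Matrix.mul_zero, Matrix.zero_mul, add_zero, zero_add, Matrix.mul_one, Matrix.one_mul,
    transpose_add, transpose_one, transpose_single, Matrix.mul_add, Matrix.add_mul] at h2
  -- h2 : S + S * single l k (-1) = S + single k l 1 * S
  have h3 := add_left_cancel h2
  rw [← h3]
  have : (single l k (-1 : F) : Matrix (Fin m) (Fin m) F) = - single l k (1 : F) := by
    ext a b
    rw [Matrix.neg_apply, Matrix.single_apply, Matrix.single_apply]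
    split_ifs
    · rfl
    · exact neg_zero.symm
  rw [this, Matrix.mul_neg]

/-- L23. the centre of `US`. -/
theorem center_US_form [NeZero m] {i1 : Fin m} (h1 : (i1 : ℕ) = 1) {z : SpG m F} (hz : z ∈ US m F)
    (hc : ∀ u ∈ US m F, z * u = u * z) :
    ∃ (a b : F), (2 : F) * b = 0 ∧ ∃ hS, z = nElt (single 0 0 a + offS 0 i1 b) hS := by
  obtain ⟨S, hS, rfl⟩ := exists_nElt_eq_of_mem_NS (l23_mem_NS hz hc)
  have hsym : ∀ a b : Fin m, S a b = S b a := by
    intro a b
    have := congrFun (congrFun hS a) b
    rw [transpose_apply] at this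
    exact this.symm
  -- the relations
  have hrel : ∀ (k l : Fin m), k < l → single k l (1 : F) * S = - (S * single l k (1 : F)) := by
    intro k l hkl
    apply l23_comm_eq hS (ne_of_lt hkl)
    apply hc
    apply DS_le_US
    refine ⟨tv (ne_of_lt hkl) 1, ?_, rfl⟩
    rw [Uni_eq_UU]
    exact tv_mem_UU hkl 1
  have hA : ∀ (k l b : Fin m), k < l → b ≠ k → S l b = 0 := by
    intro k l b hkl hbk
    have h2 := congrFun (congrFun (hrel k l hkl) k) b
    rw [Matrix.neg_apply, Matrix.single_mul_apply_same, Matrix.mul_single_apply_of_ne _ _ _ _ _ hbk,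
      neg_zero, one_mul] at h2
    exact h2
  have hB : ∀ (k l : Fin m), k < l → S l k = - S k l := by
    intro k l hkl
    have h2 := congrFun (congrFun (hrel k l hkl) k) k
    rw [Matrix.neg_apply, Matrix.single_mul_apply_same, Matrix.mul_single_apply_same,
      one_mul, mul_one] at h2
    exact h2
  have h0i : (0 : Fin m) < i1 := by
    rw [Fin.lt_def, h1, Fin.val_zero]
    exact Nat.one_pos
  have hi0 : i1 ≠ 0 := ne_of_gt h0i
  refine ⟨S 0 0, S 0 i1, ?_, ?_⟩
  · have := hB 0 i1 h0i
    rw [hsym i1 0] at this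
    rw [two_mul]
    nth_rewrite 1 [this]
    exact neg_add_cancel _
  · have hSS : S = single 0 0 (S 0 0) + offS 0 i1 (S 0 i1) := by
      ext r c
      unfold offS
      rw [Matrix.add_apply, Matrix.add_apply, Matrix.single_apply, Matrix.single_apply,
        Matrix.single_apply]
      by_cases hr0 : r = 0
      · subst hr0
        by_cases hc0 : c = 0
        · subst hc0
          rw [if_pos ⟨rfl, rfl⟩, if_neg (fun h => hi0 h.2), if_neg (fun h => hi0 h.1), add_zero,
            add_zero]
        · by_cases hc1 : c = i1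
          · subst hc1
            rw [if_neg (fun h => hc0 h.2.symm), if_pos ⟨rfl, rfl⟩, if_neg (fun h => hc0 h.1),
              zero_add, add_zero]
          · rw [if_neg (fun h => hc0 h.2.symm), if_neg (fun h => hc1 h.2.symm),
              if_neg (fun h => hi0 h.1), add_zero, add_zero]
            rw [hsym]
            have hlt : i1 < c := by
              rw [Fin.lt_def, h1]
              have : (c : ℕ) ≠ 0 := fun h => hc0 (Fin.ext h)
              have : (c : ℕ) ≠ 1 := fun h => hc1 (Fin.ext (h.trans h1.symm))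
              omega
            exact hA i1 c 0 hlt (Ne.symm hi0)
      · by_cases hr1 : r = i1
        · subst hr1
          by_cases hc0 : c = 0
          · subst hc0
            rw [if_neg (fun h => hr0 h.1.symm), if_neg (fun h => hr0 h.1.symm), if_pos ⟨rfl, rfl⟩,
              zero_add, zero_add]
            exact hsym _ _
          · rw [if_neg (fun h => hr0 h.1.symm), if_neg (fun h => hr0 h.1.symm),
              if_neg (fun h => hc0 h.2.symm), add_zero, add_zero]
            exact hA 0 r c h0i hc0
        · rw [if_neg (fun h => hr0 h.1.symm), if_neg (fun h => hr0 h.1.symm),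
            if_neg (fun h => hr1 h.1.symm), add_zero, add_zero]
          by_cases hc0 : c = 0
          · subst hc0
            have hlt : i1 < r := by
              rw [Fin.lt_def, h1]
              have : (r : ℕ) ≠ 0 := fun h => hr0 (Fin.ext h)
              have : (r : ℕ) ≠ 1 := fun h => hr1 (Fin.ext (h.trans h1.symm))
              omega
            exact hA i1 r 0 hlt (Ne.symm hi0)
          · have hlt : (0 : Fin m) < r := by
              rw [Fin.lt_def, Fin.val_zero]
              have : (r : ℕ) ≠ 0 := fun h => hr0 (Fin.ext h)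
              omega
            exact hA 0 r c hlt hc0
    have hS' : (single 0 0 (S 0 0) + offS 0 i1 (S 0 i1) : Matrix (Fin m) (Fin m) F)ᵀ =
        single 0 0 (S 0 0) + offS 0 i1 (S 0 i1) := by
      rw [transpose_add, single_symm, offS_symm]
    refine ⟨hS', ?_⟩
    apply Subtype.ext
    rw [l5_nElt_coe, l5_nElt_coe, ← hSS]

end Cfsg.Agent.Lib.Helper85.PSp
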