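import Cfsg.Agent.Lib.Helper97.Stn_WHHcore
import Cfsg.Agent.Lib.Helper13.Stn_WINV
import Cfsg.Agent.Lib.Helper95.Stn_WWW

/-! # Stn hive (S2401, helper41), leaf STN-W-HH (helper97): `ww_conj_hh` -/

set_option autoImplicit false

namespace Cfsg.Agent.Lib.Helper41.Stn

open Matrix

variable {K : Type*} [Field K] {n : ℕ}

/-- STN-W-HH: `w h_kl(u) w⁻¹ = h_{τk τl}(c u) h_{τk τl}(c)⁻¹`, `c = mu k / mu l`
(`ww(a) ww(-c) = hh(a) hh(c)⁻¹`). -/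
theorem ww_conj_hh (hn : 3 ≤ n) {i j : Fin n} (hij : i ≠ j) {t : K} (ht : t ≠ 0) {k l : Fin n}
    (hkl : k ≠ l) {u : K} (hu : u ≠ 0) :
    ww i j t * hh k l u * (ww i j t)⁻¹ =
      hh (Equiv.swap i j k) (Equiv.swap i j l) (mu i j t k / mu i j t l * u) *
        (hh (Equiv.swap i j k) (Equiv.swap i j l) (mu i j t k / mu i j t l))⁻¹ :=
  whh_core ww_inv (fun {_ _} hij {_} ht {_ _} hkl {_} hu => ww_conj_ww hn hij ht hkl hu) hij ht hkl hu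

end Cfsg.Agent.Lib.Helper41.Stn
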