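import Mathlib
import Cfsg.Agent.Lib.Helper94.Iso8Defs
import Cfsg.Agent.Lib.Helper44.Transport

/-! # S3589 hive Iso8 (helper94), LEAF ISO8-M2P (helper97): the form `Σ x_i y_i + z₁² + z₁ z₂` is the
plus-type form of rank `m + 1` -/

set_option autoImplicit false

namespace Cfsg.Agent.Lib.Helper94.Iso8

open Cfsg.Agent.Lib.Helper44

/-- the coordinate change `x_m = z₁`, `y_m = z₁ + z₂` -/
def m2p_equiv (F : Type*) [Field F] (m : ℕ) :
    ((Fin m ⊕ Fin m) ⊕ Fin 2 → F) ≃ₗ[F] (Fin (m + 1) ⊕ Fin (m + 1) → F) where
  toFun v := fun j => match j with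
    | Sum.inl j => Fin.lastCases (v (Sum.inr 0)) (fun i => v (Sum.inl (Sum.inl i))) j
    | Sum.inr j => Fin.lastCases (v (Sum.inr 0) + v (Sum.inr 1)) (fun i => v (Sum.inl (Sum.inr i))) j
  invFun w := fun s => match s with
    | Sum.inl (Sum.inl i) => w (Sum.inl (Fin.castSucc i))
    | Sum.inl (Sum.inr i) => w (Sum.inr (Fin.castSucc i))
    | Sum.inr t => if t = 0 then w (Sum.inl (Fin.last m)) else
        w (Sum.inr (Fin.last m)) - w (Sum.inl (Fin.last m))
  map_add' v w := by
    funext j
    rcases j with j | j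
    · induction j using Fin.lastCases with
      | last => simp
      | cast i => simp
    · induction j using Fin.lastCases with
      | last => simp; ring
      | cast i => simp
  map_smul' c v := by
    funext j
    rcases j with j | j
    · induction j using Fin.lastCases with
      | last => simp
      | cast i => simp
    · induction j using Fin.lastCases with
      | last => simp; ring
      | cast i => simp
  left_inv v := by
    funext s
    rcases s with (i | i) | t
    · simp
    · simp
    · fin_cases t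
      · simp
      · simp
  right_inv w := by
    funext j
    rcases j with j | j
    · induction j using Fin.lastCases with
      | last => simp
      | cast i => simp
    · induction j using Fin.lastCases with
      | last => simp
      | cast i => simp

theorem m2p_equiv_form (F : Type*) [Field F] (m : ℕ) (v : (Fin m ⊕ Fin m) ⊕ Fin 2 → F) :
    Cfsg.quadFormPlus (m + 1) F (m2p_equiv F m v) = Cfsg.quadFormMinus m F 1 0 v := by
  unfold Cfsg.quadFormPlus Cfsg.quadFormMinus
  rw [Fin.sum_univ_castSucc]
  simp only [m2p_equiv, LinearEquiv.coe_mk, LinearMap.coe_mk, AddHom.coe_mk,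
    Fin.lastCases_castSucc, Fin.lastCases_last]
  ring

/-- ISO8-M2P -/
theorem minus_one_zero {F : Type*} [Field F] (m N : ℕ) (h : HasMinus F 1 0 m N) :
    HasPlus F (m + 1) N := by
  obtain ⟨g, hg⟩ := h
  obtain ⟨φ₁, -⟩ := exists_mulEquiv_isometryGroup (Cfsg.quadFormMinus m F 1 0)
    (Cfsg.quadFormMinus m F 1 0) (LinearEquiv.refl F _) (fun _ => rfl)
  obtain ⟨φ₂, -⟩ := exists_mulEquiv_isometryGroup (Cfsg.quadFormPlus (m + 1) F)
    (Cfsg.quadFormMinus m F 1 0) (m2p_equiv F m) (m2p_equiv_form F m)
  refine ⟨φ₂ (φ₁.symm g), ?_⟩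
  rw [MulEquiv.orderOf_eq, MulEquiv.orderOf_eq, hg]

end Cfsg.Agent.Lib.Helper94.Iso8
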