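import Mathlib
import Cfsg.Agent.Lib.Helper94.Iso8Defs
import Cfsg.Agent.Lib.Helper44.Transport
import Cfsg.Agent.Lib.Helper8.OddFpfPlus

/-! # S3589 hive Iso8 (helper94), LEAF ISO8-PT (helper97): the plus-type torus of order `q^k - 1` -/

set_option autoImplicit false

namespace Cfsg.Agent.Lib.Helper94.Iso8

open Cfsg.Agent.Lib.Helper8 Cfsg.Agent.Lib.Helper44

theorem pt_torusPlus_injective (F : Type*) [Field F] (K : Type*) [Field K] [Algebra F K] :
    Function.Injective (torusPlus F K) := by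
  intro ζ η h
  have h1 := congrArg (fun g : (K × K) ≃ₗ[F] (K × K) => (g (1, 0)).1) h
  simp only [torusPlus_apply, mul_one] at h1
  exact Units.ext h1

/-- transport of an abstract isometry of order `N` to the coordinate isometry group -/
theorem pt_hasPlus_of_abs {F : Type*} [Field F] {V : Type*} [AddCommGroup V] [Module F V]
    (k N : ℕ) (QV : V → F) (Θ : V ≃ₗ[F] (Fin k ⊕ Fin k → F))
    (hΘ : ∀ v, Cfsg.quadFormPlus k F (Θ v) = QV v) (g : V ≃ₗ[F] V) (hg : ∀ v, QV (g v) = QV v)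
    (hN : orderOf g = N) : HasPlus F k N := by
  obtain ⟨φ, -⟩ := exists_mulEquiv_isometryGroup (Cfsg.quadFormPlus k F) QV Θ hΘ
  let g' : ↥(absIsometryGroup F QV) := ⟨g, hg⟩
  refine ⟨φ g', ?_⟩
  rw [MulEquiv.orderOf_eq, ← hN, ← Subgroup.orderOf_coe]

/-- ISO8-PT: the plus-type torus: an isometry of order `q^k - 1` -/
theorem has_PT {F : Type*} [Field F] [Fintype F] [CharP F 2] (k : ℕ) (hk : 1 ≤ k) :
    HasPlus F k (Fintype.card F ^ k - 1) := by
  obtain ⟨M, rfl⟩ : ∃ M, k = M + 1 := ⟨k - 1, by omega⟩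
  have hcardK : Nat.card (FiniteField.Extension F 2 (M + 1))ˣ = Fintype.card F ^ (M + 1) - 1 := by
    rw [Nat.card_units, FiniteField.natCard_extension, Nat.card_eq_fintype_card]
  obtain ⟨ζ, hζ⟩ := IsCyclic.exists_generator (α := (FiniteField.Extension F 2 (M + 1))ˣ)
  have hord : orderOf ζ = Fintype.card F ^ (M + 1) - 1 := by
    rw [orderOf_eq_card_of_forall_mem_zpowers hζ, hcardK]
  obtain ⟨Θ, hΘ⟩ := exists_coords_trQ F
    (FiniteField.Extension F 2 (M + 1)) (M + 1) (FiniteField.finrank_extension F 2 (M + 1))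
  refine pt_hasPlus_of_abs (M + 1) _ (trQ F (FiniteField.Extension F 2 (M + 1))) Θ hΘ
    (torusPlus F (FiniteField.Extension F 2 (M + 1)) ζ) (torusPlus_isometry F _ ζ) ?_
  rw [orderOf_injective (torusPlus F (FiniteField.Extension F 2 (M + 1)))
    (pt_torusPlus_injective F _) ζ, hord]

end Cfsg.Agent.Lib.Helper94.Iso8
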