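import Mathlib
import Cfsg.Prelude
import Cfsg.Agent.Lib.Helper32.BG159Defs
import Cfsg.Agent.Lib.Helper24.BG121
import Cfsg.Agent.S1358

/-! # BG159 hive (helper32, CLAIM F), LEAF F4p (helper97): a nontrivial normal `p`-subgroup
`P0 ≤ Z(M_σ)` of `M` of rank at most 2 -/

set_option autoImplicit false
open Subgroup Cfsg

namespace Cfsg.Agent.Lib.Helper32.BG159

variable {G : Type*} [Group G] [Finite G]

/-- the centre of `W`, as a subgroup of `G` -/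
def f4p_Z (W : Subgroup G) : Subgroup G := (Subgroup.center ↥W).map W.subtype

theorem f4p_mem_Z {W : Subgroup G} {z : G} :
    z ∈ f4p_Z W ↔ z ∈ W ∧ ∀ w ∈ W, w * z = z * w := by
  constructor
  · rintro ⟨z', hz', rfl⟩
    refine ⟨z'.2, fun w hw => ?_⟩
    have := Subgroup.mem_center_iff.mp hz' ⟨w, hw⟩
    exact congrArg Subtype.val this
  · rintro ⟨hz, h⟩
    exact ⟨⟨z, hz⟩, Subgroup.mem_center_iff.mpr (fun w => Subtype.ext (h w w.2)), rfl⟩

theorem f4p_Z_le (W : Subgroup G) : f4p_Z W ≤ W := fun _ hz => (f4p_mem_Z.mp hz).1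

/-- the `p`-primary part of the centre of `W` -/
def f4p_P0 (W : Subgroup G) (p : ℕ) : Subgroup G where
  carrier := {z | z ∈ f4p_Z W ∧ ∃ n : ℕ, z ^ (p ^ n) = 1}
  one_mem' := ⟨one_mem _, 0, one_pow _⟩
  mul_mem' := by
    rintro a b ⟨ha, n, hn⟩ ⟨hb, k, hk⟩
    refine ⟨mul_mem ha hb, n + k, ?_⟩
    have hcomm : Commute a b := (f4p_mem_Z.mp hb).2 a (f4p_mem_Z.mp ha).1
    rw [hcomm.mul_pow, pow_add, pow_mul, hn, one_pow, mul_comm (p ^ n), pow_mul, hk, one_pow,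
      one_mul]
  inv_mem' := by
    rintro a ⟨ha, n, hn⟩
    exact ⟨inv_mem ha, n, by rw [inv_pow, hn, inv_one]⟩

theorem f4p_mem_P0 {W : Subgroup G} {p : ℕ} {z : G} :
    z ∈ f4p_P0 W p ↔ z ∈ f4p_Z W ∧ ∃ n : ℕ, z ^ (p ^ n) = 1 := Iff.rfl

theorem f4p_P0_isPGroup (W : Subgroup G) (p : ℕ) : IsPGroup p ↥(f4p_P0 W p) := by
  intro g
  obtain ⟨n, hn⟩ := g.2.2
  exact ⟨n, Subtype.ext (by simpa using hn)⟩

/-- if `M` normalizes `W` then `M` normalizes the `p`-part of `Z(W)` -/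
theorem f4p_le_normalizer {M W : Subgroup G} (p : ℕ)
    (hMW : ∀ m ∈ M, ∀ w ∈ W, m * w * m⁻¹ ∈ W) : M ≤ normalizer (f4p_P0 W p : Set G) := by
  have key : ∀ m ∈ M, ∀ z ∈ f4p_P0 W p, m * z * m⁻¹ ∈ f4p_P0 W p := by
    rintro m hm z ⟨hz, n, hn⟩
    refine ⟨?_, n, by rw [conj_pow, hn, mul_one, mul_inv_cancel]⟩
    rw [f4p_mem_Z] at hz ⊢
    refine ⟨hMW m hm z hz.1, fun w hw => ?_⟩
    have h1 := hz.2 (m⁻¹ * w * m⁻¹⁻¹) (hMW m⁻¹ (M.inv_mem hm) w hw)
    have h2 : w * (m * z * m⁻¹) = m * ((m⁻¹ * w * m⁻¹⁻¹) * z) * m⁻¹ := by group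
    rw [h2, h1]
    group
  intro m hm
  rw [Subgroup.mem_normalizer_iff]
  intro z
  constructor
  · intro hz
    exact key m hm z hz
  · intro hz
    have h1 := key m⁻¹ (M.inv_mem hm) _ hz
    have h2 : m⁻¹ * (m * z * m⁻¹) * m⁻¹⁻¹ = z := by group
    rwa [h2] at h1

/-- rank transfers along injective homomorphisms -/
theorem f4p_pRankLE_of_injective {p k : ℕ} {H K : Type*} [Group H] [Group K] (f : H →* K)
    (hf : Function.Injective f) (h : Cfsg.PRankLE p k K) : Cfsg.PRankLE p k H := by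
  intro B hB hexp
  have := h (B.map f) inferInstance (by
    rintro _ ⟨b, hb, rfl⟩
    rw [← map_pow, hexp b hb, map_one])
  rwa [Subgroup.card_map_of_injective hf] at this

/-- `Z(W) ≤ U` -/
theorem f4p_Z_le_U (hG : IsMinSimpleOddOrder G) {N K U Nstar M : Subgroup G} {x : G}
    (c : CtxF N K U Nstar M x) : f4p_Z (sigmaCore M) ≤ U := by
  intro z hz
  rw [f4p_mem_Z] at hz
  obtain ⟨hzW, hzc⟩ := hz
  have hWM : sigmaCore M ≤ M := map_subtype_le _
  have hxW : x ∈ sigmaCore M := c.hUW c.hxU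
  have hzN : z ∈ N := by
    apply c.hCx
    rw [Subgroup.mem_centralizer_iff]
    intro y hy
    rw [Set.mem_singleton_iff] at hy
    subst hy
    exact hzc y hxW
  have hzNM : z ∈ U ⊔ K := by
    rw [← c.hNM]
    exact ⟨hzN, hWM hzW⟩
  rw [← SetLike.mem_coe, Subgroup.coe_mul_of_right_le_normalizer_left U K c.hKU.normal] at hzNM
  obtain ⟨u, hu, k, hk, huk⟩ := hzNM
  have hu' : u ∈ U := hu
  have hk' : k ∈ K := hk
  have huk' : z = u * k := huk.symm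
  subst huk'
  -- `k = u⁻¹ * (u * k) ∈ W`
  have hkW : k ∈ sigmaCore M := by
    have h1 : k = u⁻¹ * (u * k) := by group
    rw [h1]
    exact mul_mem (inv_mem (c.hUW hu')) hzW
  have hkE : k ∈ M ⊓ Nstar :=
    ⟨c.facts.K_le hk', (map_subtype_le _ : sigmaCore Nstar ≤ Nstar) (c.facts.K_le_Ms hk')⟩
  have hk1 : k ∈ (M ⊓ Nstar) ⊓ sigmaCore M := ⟨hkE, hkW⟩
  rw [c.hE.2.2.1, Subgroup.mem_bot] at hk1
  rw [hk1, mul_one]
  exact hu'

/-- [F4p] -/
theorem exists_P0 (hG : IsMinSimpleOddOrder G) {N K U Nstar M : Subgroup G} {x : G}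
    (c : CtxF N K U Nstar M x) :
    ∃ (p : ℕ) (P0 : Subgroup G), p.Prime ∧ p ≠ 2 ∧ p ∈ sigma M ∧ P0 ≠ ⊥ ∧ P0 ≤ sigmaCore M ∧
      IsPGroup p P0 ∧ PRankLE p 2 P0 ∧ M ≤ normalizer (P0 : Set G) := by
  set W := sigmaCore M with hW
  -- `Z(W) ≠ ⊥`
  haveI : Group.IsNilpotent ↥W := c.facts.nilH
  haveI : Nontrivial ↥W := (Subgroup.nontrivial_iff_ne_bot W).mpr c.facts.neH
  have hZ1 : f4p_Z W ≠ ⊥ := by
    intro h
    apply Group.IsNilpotent.center_ne_bot (G := ↥W)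
    rw [f4p_Z, Subgroup.map_eq_bot_iff_of_injective _ W.subtype_injective] at h
    exact h
  have hcard : Nat.card ↥(f4p_Z W) ≠ 1 := by
    intro h
    exact hZ1 (Subgroup.card_eq_one.mp h)
  obtain ⟨p, hp, hpd⟩ := Nat.exists_prime_and_dvd hcard
  haveI : Fact p.Prime := ⟨hp⟩
  obtain ⟨z, hz⟩ := exists_prime_orderOf_dvd_card' p hpd
  have hzp : (z : G) ^ p = 1 := by
    have h1 : z ^ p = 1 := by rw [← hz]; exact pow_orderOf_eq_one z
    have := congrArg Subtype.val h1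
    simpa using this
  have hz1 : (z : G) ≠ 1 := by
    intro h
    have h1 : z = 1 := Subtype.ext h
    rw [h1, orderOf_one] at hz
    exact hp.one_lt.ne hz
  have hzP0 : (z : G) ∈ f4p_P0 W p := ⟨z.2, 1, by rw [pow_one]; exact hzp⟩
  have hP0W : f4p_P0 W p ≤ W := fun y hy => f4p_Z_le W hy.1
  have hP0U : f4p_P0 W p ≤ U := fun y hy => f4p_Z_le_U hG c hy.1
  have hP0p : IsPGroup p ↥(f4p_P0 W p) := f4p_P0_isPGroup W p
  have hpdW : p ∣ Nat.card ↥W :=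
    hpd.trans (Subgroup.card_dvd_of_le (f4p_Z_le W))
  refine ⟨p, f4p_P0 W p, hp, ?_, ?_, ?_, hP0W, hP0p, ?_, ?_⟩
  · -- `p ≠ 2`
    rintro rfl
    have h2 : 2 ∣ Nat.card G := hpdW.trans (Subgroup.card_subgroup_dvd_card W)
    exact (Nat.not_even_iff_odd.mpr hG.1) (even_iff_two_dvd.mpr h2)
  · exact Cfsg.Agent.Lib.Helper24.BG.mem_sigma_of_dvd_card_sigmaCore M hp hpdW
  · intro h
    rw [h, Subgroup.mem_bot] at hzP0
    exact hz1 hzP0
  · -- rank
    have hQ : IsPGroup p ↥((f4p_P0 W p).subgroupOf U) :=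
      hP0p.comap_of_injective U.subtype U.subtype_injective
    obtain ⟨P, hP⟩ := hQ.exists_le_sylow
    have hr := (Cfsg.Agent.S1358.result hG N c.hN K U c.hKU p hp P).2
    let f : ↥(f4p_P0 W p) →* ↥(P : Subgroup ↥U) :=
      { toFun := fun y => ⟨⟨y.1, hP0U y.2⟩, hP (Subgroup.mem_subgroupOf.mpr y.2)⟩
        map_one' := rfl
        map_mul' := fun _ _ => rfl }
    have hf : Function.Injective f := by
      intro a b hab
      have := congrArg (fun t : ↥(P : Subgroup ↥U) => ((t : ↥U) : G)) hab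
      exact Subtype.ext this
    exact f4p_pRankLE_of_injective f hf hr
  · exact f4p_le_normalizer p
      (fun m hm w hw => Cfsg.Agent.Lib.Helper24.BG.sigmaCore_conj_mem M hm hw)

end Cfsg.Agent.Lib.Helper32.BG159
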