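import Mathlib
import Cfsg.Agent.Lib.Helper15.CycSylDefs
import Cfsg.Agent.Lib.Helper68.CycSylW1
import Cfsg.Agent.Lib.Helper39.CycSylW2
import Cfsg.Agent.Lib.Helper39.CycSylW3
import Cfsg.Agent.Lib.Helper39.CycSylW3p

/-! # S4016 hive (helper15), leaf W4: the case `T = 1` is impossible (helper97) -/

set_option autoImplicit false
set_option linter.unusedVariables false

namespace Cfsg.Agent.Lib.Helper15.CycSyl

open Subgroup

universe u

variable {G : Type*} [Group G] [Finite G] {p : ℕ} [Fact p.Prime]

/-- [W4] The case `T = 1` is impossible. -/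
theorem Local.exists_T (h : Local p G) :
    ∃ (P : Sylow p G) (x : G), x ∈ centralizer ((P : Subgroup G) : Set G) ∧ x ≠ 1 ∧
      (orderOf x).Coprime p := by
  have hp : p.Prime := Fact.out
  by_contra hcon
  have hT : ∀ P : Sylow p G, ∀ x ∈ centralizer ((P : Subgroup G) : Set G),
      (orderOf x).Coprime p → x = 1 := by
    intro P x hx hxo
    by_contra hx1
    exact hcon ⟨P, x, hx, hx1, hxo⟩
  obtain ⟨P⟩ : Nonempty (Sylow p G) := inferInstance
  have h1 : (P : Subgroup G).index ≡ 1 [MOD p] :=
    index_sylow_modEq_one P (fun r hr hrp R => h.card_sylow_modEq_one hT r hr hrp R)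
  have hC : centralizer ((P : Subgroup G) : Set G) = (P : Subgroup G) :=
    centralizer_eq_of_T_trivial P (h.cyc P) (hT P)
  obtain ⟨e, he, hedvd, he2⟩ := card_normalizer_eq P (h.cyc P) (h.nc P)
  rw [hC] at he
  -- `|G| = |P| * index P = |N(P)| * index N(P)`
  have h2 : Nat.card (P : Subgroup G) * (P : Subgroup G).index = Nat.card G :=
    Subgroup.card_mul_index _
  have h3 : Nat.card (normalizer ((P : Subgroup G) : Set G)) *
      (normalizer ((P : Subgroup G) : Set G)).index = Nat.card G := Subgroup.card_mul_index _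
  have hPpos : 0 < Nat.card (P : Subgroup G) := Nat.card_pos
  have h4 : (P : Subgroup G).index = e * (normalizer ((P : Subgroup G) : Set G)).index := by
    have h5 : Nat.card (P : Subgroup G) * (P : Subgroup G).index =
        Nat.card (P : Subgroup G) * (e * (normalizer ((P : Subgroup G) : Set G)).index) := by
      rw [h2, ← h3, he]; ring
    exact Nat.eq_of_mul_eq_mul_left hPpos h5
  have h6 : (normalizer ((P : Subgroup G) : Set G)).index ≡ 1 [MOD p] := by
    have e1 : (normalizer ((P : Subgroup G) : Set G)).index = Nat.card (Sylow p G) :=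
      (Sylow.card_eq_index_normalizer P).symm
    rw [e1]
    exact _root_.card_sylow_modEq_one p G
  have h7 : e ≡ 1 [MOD p] := by
    have h8 : e * (normalizer ((P : Subgroup G) : Set G)).index ≡ e * 1 [MOD p] :=
      Nat.ModEq.mul_left e h6
    rw [mul_one, ← h4] at h8
    exact h8.symm.trans h1
  -- contradiction with `2 ≤ e ≤ p - 1`
  have hp2 : 2 ≤ p := hp.two_le
  have he_le : e ≤ p - 1 := Nat.le_of_dvd (by omega) hedvd
  have h9 : p ∣ e - 1 := (Nat.modEq_iff_dvd' (by omega)).mp h7.symm
  have h10 : p ≤ e - 1 := Nat.le_of_dvd (by omega) h9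
  omega

end Cfsg.Agent.Lib.Helper15.CycSyl
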