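import Cfsg.Agent.Lib.Helper76.E8m_TLAdefs
import Cfsg.Prelude.Def_ChevE8

/-! E8m hive (S2107), T-LA row block k = 1 (rows 60-119 of `chevE8`). -/

set_option autoImplicit false
set_option maxRecDepth 100000

namespace Cfsg.Agent.Lib.Helper76.E8m

open Cfsg Cfsg.Lie

theorem tla_b1_0 : tla_rows chevE8 60 10 = true := by decide +kernel

theorem tla_b1_1 : tla_rows chevE8 70 10 = true := by decide +kernel

theorem tla_b1_2 : tla_rows chevE8 80 10 = true := by decide +kernel

theorem tla_b1_3 : tla_rows chevE8 90 10 = true := by decide +kernel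

theorem tla_b1_4 : tla_rows chevE8 100 10 = true := by decide +kernel

theorem tla_b1_5 : tla_rows chevE8 110 10 = true := by decide +kernel

theorem tla_block1 : ∀ a, 60 ≤ a → a < 120 → tla_row chevE8 a = true := by
  intro a h1 h2
  by_cases c0 : a < 70
  · exact tla_rows_spec chevE8 60 10 tla_b1_0 a (by omega) (by omega)
  by_cases c1 : a < 80
  · exact tla_rows_spec chevE8 70 10 tla_b1_1 a (by omega) (by omega)
  by_cases c2 : a < 90
  · exact tla_rows_spec chevE8 80 10 tla_b1_2 a (by omega) (by omega)
  by_cases c3 : a < 100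
  · exact tla_rows_spec chevE8 90 10 tla_b1_3 a (by omega) (by omega)
  by_cases c4 : a < 110
  · exact tla_rows_spec chevE8 100 10 tla_b1_4 a (by omega) (by omega)
  · exact tla_rows_spec chevE8 110 10 tla_b1_5 a (by omega) (by omega)

end Cfsg.Agent.Lib.Helper76.E8m
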