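import Cfsg.Agent.Lib.Helper97.StrEmb2

set_option autoImplicit false

namespace Cfsg.Agent.Lib.Helper97

open Cfsg

section

variable {G : Type*} [Group G] [Finite G]

omit [Finite G] in
/-- An involution normalizing a Sylow 2-subgroup lies in it. -/
theorem mem_sylow_of_invol_normalizer (T : Sylow 2 G) {x : G} (hx : orderOf x = 2)
    (hxN : x ∈ Subgroup.normalizer ((T : Subgroup G) : Set G)) : x ∈ (T : Subgroup G) := by
  have : Fact (Nat.Prime 2) := ⟨Nat.prime_two⟩
  have hp : IsPGroup 2 (Subgroup.zpowers x) :=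
    Cfsg.Agent.Lib.Helper48.isPGroup_zpowers_of_orderOf_eq hx
  have hle : Subgroup.zpowers x ≤ Subgroup.normalizer ((T : Subgroup G) : Set G) := by
    rw [Subgroup.zpowers_le]; exact hxN
  have hsup : IsPGroup 2 (Subgroup.zpowers x ⊔ (T : Subgroup G) : Subgroup G) :=
    IsPGroup.to_sup_of_normal_right' hp T.2 hle
  have := T.is_maximal' hsup le_sup_right
  rw [← this]
  exact le_sup_left (a := Subgroup.zpowers x) (Subgroup.mem_zpowers x)

variable (T : Sylow 2 G)
  (hC : ∀ t : G, orderOf t = 2 → IsMulCommutative (Subgroup.centralizer ({t} : Set G)) ∧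
    ∀ c ∈ Subgroup.centralizer ({t} : Set G), c ^ 2 = 1)

omit [Finite G] in
include hC in
theorem centralizer_isPGroup {t : G} (ht : orderOf t = 2) :
    IsPGroup 2 (Subgroup.centralizer ({t} : Set G)) := by
  intro c
  refine ⟨1, ?_⟩
  apply Subtype.ext
  simpa using (hC t ht).2 c.1 c.2

include hC in
/-- `T` is the centralizer of each of its involutions. -/
theorem centralizer_eq_sylow (hne : (T : Subgroup G) ≠ ⊥) {t : G} (htT : t ∈ (T : Subgroup G))
    (ht : orderOf t = 2) : Subgroup.centralizer ({t} : Set G) = (T : Subgroup G) := by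
  have : Fact (Nat.Prime 2) := ⟨Nat.prime_two⟩
  obtain ⟨z, hzT, hz, hzc⟩ := Cfsg.Agent.Lib.Helper48.exists_central_orderOf_eq T.2 hne
  have hTz : (T : Subgroup G) ≤ Subgroup.centralizer ({z} : Set G) := by
    intro x hx
    rw [Subgroup.mem_centralizer_singleton_iff]
    exact hzc x hx
  have hCz : Subgroup.centralizer ({z} : Set G) = (T : Subgroup G) :=
    T.is_maximal' (centralizer_isPGroup hC hz) hTz
  -- T is commutative
  have hcomm : ∀ a ∈ (T : Subgroup G), ∀ b ∈ (T : Subgroup G), a * b = b * a := by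
    intro a ha b hb
    have ha' : a ∈ Subgroup.centralizer ({z} : Set G) := hTz ha
    have hb' : b ∈ Subgroup.centralizer ({z} : Set G) := hTz hb
    have := (hC z hz).1.is_comm.comm (⟨a, ha'⟩ : Subgroup.centralizer ({z} : Set G)) ⟨b, hb'⟩
    exact congrArg Subtype.val this
  have hTt : (T : Subgroup G) ≤ Subgroup.centralizer ({t} : Set G) := by
    intro x hx
    rw [Subgroup.mem_centralizer_singleton_iff]
    exact hcomm x hx t htT
  exact T.is_maximal' (centralizer_isPGroup hC ht) hTt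

include hC in
theorem sq_eq_one_of_mem (hne : (T : Subgroup G) ≠ ⊥) {x : G} (hx : x ∈ (T : Subgroup G)) :
    x * x = 1 := by
  have : Fact (Nat.Prime 2) := ⟨Nat.prime_two⟩
  obtain ⟨z, hzT, hz, hzc⟩ := Cfsg.Agent.Lib.Helper48.exists_central_orderOf_eq T.2 hne
  have := (hC z hz).2 x (by
    rw [Subgroup.mem_centralizer_singleton_iff]; exact hzc x hx)
  rwa [pow_two] at this

include hC in
theorem orderOf_eq_two_of_mem (hne : (T : Subgroup G) ≠ ⊥) {x : G} (hx : x ∈ (T : Subgroup G))
    (hx1 : x ≠ 1) : orderOf x = 2 :=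
  orderOf_two_of_sq (sq_eq_one_of_mem T hC hne hx) hx1

include hC in
/-- `T` is a TI-subgroup. -/
theorem mem_normalizer_of_conj_mem (hne : (T : Subgroup G) ≠ ⊥) {x g : G}
    (hx : x ∈ (T : Subgroup G)) (hx1 : x ≠ 1) (hgx : g⁻¹ * x * g ∈ (T : Subgroup G)) :
    g ∈ Subgroup.normalizer ((T : Subgroup G) : Set G) := by
  have hx2 := orderOf_eq_two_of_mem T hC hne hx hx1
  have hy2 : orderOf (g⁻¹ * x * g) = 2 := by
    have := orderOf_conj_two hx2 g⁻¹
    rwa [inv_inv] at this
  have h1 := centralizer_eq_sylow T hC hne hx hx2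
  have h2 := centralizer_eq_sylow T hC hne hgx hy2
  rw [Subgroup.mem_normalizer_iff]
  intro h
  have e1 : h ∈ (T : Subgroup G) ↔ h ∈ Subgroup.centralizer ({g⁻¹ * x * g} : Set G) := by rw [h2]
  have e2 : g * h * g⁻¹ ∈ (T : Subgroup G) ↔ g * h * g⁻¹ ∈ Subgroup.centralizer ({x} : Set G) := by
    rw [h1]
  rw [e1, e2, Subgroup.mem_centralizer_singleton_iff, Subgroup.mem_centralizer_singleton_iff]
  constructor
  · intro hh
    calc g * h * g⁻¹ * x = g * (h * (g⁻¹ * x * g)) * g⁻¹ := by group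
      _ = g * ((g⁻¹ * x * g) * h) * g⁻¹ := by rw [hh]
      _ = x * (g * h * g⁻¹) := by group
  · intro hh
    calc h * (g⁻¹ * x * g) = g⁻¹ * ((g * h * g⁻¹) * x) * g := by group
      _ = g⁻¹ * (x * (g * h * g⁻¹)) * g := by rw [hh]
      _ = g⁻¹ * x * g * h := by group

include hC in
theorem normalizer_stronglyEmbedded (hne : (T : Subgroup G) ≠ ⊥)
    (hnn : ¬ (T : Subgroup G).Normal) :
    IsStronglyEmbedded (Subgroup.normalizer ((T : Subgroup G) : Set G)) := by
  have : Fact (Nat.Prime 2) := ⟨Nat.prime_two⟩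
  refine ⟨?_, ?_, ?_⟩
  · rw [Ne, Subgroup.normalizer_eq_top_iff]; exact hnn
  · rw [even_iff_two_dvd]
    have h1 : 2 ∣ Nat.card (T : Subgroup G) := by
      rcases T.2.card_eq_or_dvd with h | h
      · exact absurd (Subgroup.card_eq_one.mp h) hne
      · exact h
    exact h1.trans (Subgroup.card_dvd_of_le Subgroup.le_normalizer)
  · intro g hg
    by_contra hodd
    rw [Nat.not_odd_iff_even, even_iff_two_dvd] at hodd
    obtain ⟨x, hx⟩ := exists_prime_orderOf_dvd_card' 2 hodd
    have hx2 : orderOf (x : G) = 2 := by rw [Subgroup.orderOf_coe]; exact hx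
    have hxN := x.2.1
    obtain ⟨y, hyN, hyx⟩ := x.2.2
    simp only [MulEquiv.coe_toMonoidHom, MulAut.conj_apply] at hyx
    have hy : y = g⁻¹ * (x : G) * g := by rw [← hyx]; group
    have hxT := mem_sylow_of_invol_normalizer T hx2 hxN
    have hy2 : orderOf y = 2 := by
      rw [hy]
      have := orderOf_conj_two hx2 g⁻¹
      rwa [inv_inv] at this
    have hyT := mem_sylow_of_invol_normalizer T hy2 hyN
    rw [hy] at hyT
    exact hg (mem_normalizer_of_conj_mem T hC hne hxT (invol_ne_one hx2) hyT)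

end

end Cfsg.Agent.Lib.Helper97
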