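import Mathlib

/-!
# Frobenius complements and the six quotient types, part 1: groups with cyclic Sylow subgroups
-/

set_option autoImplicit false
set_option linter.unusedSectionVars false

namespace Cfsg.Agent.Lib.Helper97.FC

open Subgroup

variable {G : Type*} [Group G]

/-- All subgroups of prime power order contained in `N` are cyclic. -/
def AllPCyc (N : Subgroup G) : Prop :=
  ∀ p : ℕ, p.Prime → ∀ T : Subgroup G, T ≤ N → IsPGroup p T → IsCyclic T

theorem AllPCyc.mono {K N : Subgroup G} (h : AllPCyc N) (hKN : K ≤ N) : AllPCyc K :=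
  fun p hp T hT hTp => h p hp T (hT.trans hKN) hTp

theorem isCyclic_of_mulEquiv {A B : Type*} [Group A] [Group B] (e : A ≃* B) [h : IsCyclic A] :
    IsCyclic B :=
  isCyclic_of_surjective e.toMonoidHom e.surjective

/-- From the Sylow formulation. -/
theorem allPCyc_of_sylow [Finite G] (N : Subgroup G)
    (h : ∀ (p : ℕ) [Fact p.Prime] (P : Sylow p N), IsCyclic P) : AllPCyc N := by
  intro p hp T hT hTp
  have : Fact p.Prime := ⟨hp⟩
  -- `T` as a subgroup of `N`
  have hT' : IsPGroup p (T.subgroupOf N) := hTp.comap_subtype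
  obtain ⟨Q, hQ⟩ := hT'.exists_le_sylow
  have hQc : IsCyclic Q := h p Q
  have h1 : IsCyclic ((T.subgroupOf N).subgroupOf (Q : Subgroup N)) := inferInstance
  have h2 : IsCyclic (T.subgroupOf N) :=
    isCyclic_of_mulEquiv (Subgroup.subgroupOfEquivOfLe hQ)
  exact isCyclic_of_mulEquiv (Subgroup.subgroupOfEquivOfLe hT)

/-- To the Sylow formulation. -/
theorem AllPCyc.sylow {N : Subgroup G} (h : AllPCyc N) (p : ℕ) [hp : Fact p.Prime]
    (P : Sylow p N) : IsCyclic P := by
  have hpg : IsPGroup p ((P : Subgroup N).map N.subtype) := P.isPGroup'.map _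
  have hle : (P : Subgroup N).map N.subtype ≤ N := by
    rintro _ ⟨y, -, rfl⟩
    exact y.2
  have hcyc := h p hp.out _ hle hpg
  exact isCyclic_of_mulEquiv
    ((P : Subgroup N).equivMapOfInjective N.subtype N.subtype_injective).symm

/-- Two distinct commuting involutions cannot lie in a group all of whose `2`-subgroups are
cyclic. -/
theorem AllPCyc.no_klein {N : Subgroup G} (h : AllPCyc N) {u v : G} (hu : u ∈ N) (hv : v ∈ N)
    (hu2 : u * u = 1) (hv2 : v * v = 1) (hu1 : u ≠ 1) (hv1 : v ≠ 1) (huv : u ≠ v)
    (hc : u * v = v * u) : False := by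
  classical
  set A : Subgroup G := closure {u, v} with hA
  have hAN : A ≤ N := by
    rw [hA, closure_le]
    rintro x (rfl | rfl)
    · exact hu
    · exact hv
  have hcommS : ∀ x ∈ ({u, v} : Set G), ∀ y ∈ ({u, v} : Set G), x * y = y * x := by
    rintro x (rfl | rfl) y (rfl | rfl)
    · rfl
    · exact hc
    · exact hc.symm
    · rfl
  have hAcomm : IsMulCommutative A := Subgroup.isMulCommutative_closure hcommS
  have hcommA : ∀ x ∈ A, ∀ y ∈ A, x * y = y * x := fun x hx y hy =>
    congrArg Subtype.val (hAcomm.is_comm.comm (⟨x, hx⟩ : A) ⟨y, hy⟩)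
  have hpow : ∀ x ∈ A, x ^ 2 = 1 := by
    intro x hx
    induction hx using Subgroup.closure_induction with
    | mem x hx =>
      rcases hx with rfl | rfl
      · rw [pow_two]; exact hu2
      · rw [pow_two]; exact hv2
    | one => exact one_pow 2
    | mul x y hx hy ihx ihy =>
      have : Commute x y := hcommA x hx y hy
      rw [this.mul_pow, ihx, ihy, one_mul]
    | inv x hx ih => rw [inv_pow, ih, inv_one]
  have hApg : IsPGroup 2 A := by
    intro x
    refine ⟨1, ?_⟩
    apply Subtype.ext
    rw [pow_one]
    exact hpow x x.2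
  have hAcyc : IsCyclic A := h 2 Nat.prime_two A hAN hApg
  have hfinA : Finite A := by
    -- a cyclic group all of whose elements have square one is finite
    obtain ⟨g, hg⟩ := hAcyc.exists_generator
    have : ∀ x : A, x = 1 ∨ x = g := by
      intro x
      obtain ⟨k, rfl⟩ := Subgroup.mem_zpowers_iff.mp (hg x)
      have hg2 : g ^ (2 : ℤ) = 1 := by
        have := hpow g g.2
        apply Subtype.ext
        rw [zpow_ofNat]
        exact this
      rcases Int.emod_two_eq_zero_or_one k with h0 | h1
      · left
        obtain ⟨m, rfl⟩ := Int.dvd_of_emod_eq_zero h0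
        rw [zpow_mul, hg2, one_zpow]
      · right
        have : k = 2 * (k / 2) + 1 := by omega
        rw [this, zpow_add, zpow_mul, hg2, one_zpow, one_mul, zpow_one]
    exact Finite.of_surjective (fun b : Bool => if b then (1 : A) else g) (by
      intro x
      rcases this x with rfl | rfl
      · exact ⟨true, rfl⟩
      · exact ⟨false, rfl⟩)
  have hfinA' : Fintype A := Fintype.ofFinite A
  have hle : (Finset.univ.filter (fun x : A => x ^ 2 = 1)).card ≤ 2 :=
    IsCyclic.card_pow_eq_one_le (α := A) (by norm_num)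
  have huA : u ∈ A := Subgroup.subset_closure (by simp)
  have hvA : v ∈ A := Subgroup.subset_closure (by simp)
  have h3 : ({(1 : A), ⟨u, huA⟩, ⟨v, hvA⟩} : Finset A) ⊆
      Finset.univ.filter (fun x : A => x ^ 2 = 1) := by
    intro x hx
    rw [Finset.mem_filter]
    refine ⟨Finset.mem_univ _, ?_⟩
    apply Subtype.ext
    exact hpow x x.2
  have h4 : ({(1 : A), ⟨u, huA⟩, ⟨v, hvA⟩} : Finset A).card = 3 := by
    rw [Finset.card_insert_of_notMem, Finset.card_insert_of_notMem, Finset.card_singleton]
    · rw [Finset.mem_singleton]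
      intro h
      exact huv (congrArg Subtype.val h)
    · rw [Finset.mem_insert, Finset.mem_singleton]
      rintro (h | h)
      · exact hu1 (congrArg Subtype.val h).symm
      · exact hv1 (congrArg Subtype.val h).symm
  have := Finset.card_le_card h3
  omega

/-- The image of a group with cyclic Sylow subgroups has cyclic Sylow subgroups. -/
theorem AllPCyc.map [Finite G] {X : Type*} [Group X] {N : Subgroup G} (h : AllPCyc N)
    (f : G →* X) : AllPCyc (N.map f) := by
  intro p hp T hT hTp
  have : Fact p.Prime := ⟨hp⟩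
  -- the preimage of `T` in `N`
  set M : Subgroup G := N ⊓ T.comap f with hM
  have hMT : M.map f = T := by
    apply le_antisymm
    · rintro _ ⟨x, hx, rfl⟩
      exact hx.2
    · intro t ht
      obtain ⟨x, hxN, rfl⟩ := hT ht
      exact ⟨x, ⟨hxN, ht⟩, rfl⟩
  -- restrict `f` to `M → T`
  let fM : M →* T :=
    { toFun := fun x => ⟨f x, by rw [← hMT]; exact ⟨x, x.2, rfl⟩⟩
      map_one' := by apply Subtype.ext; simp
      map_mul' := fun x y => by apply Subtype.ext; simp }
  have hfM : Function.Surjective fM := by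
    rintro ⟨t, ht⟩
    have ht' := ht
    rw [← hMT] at ht'
    obtain ⟨x, hx, rfl⟩ := ht'
    exact ⟨⟨x, hx⟩, rfl⟩
  have hfinT : Finite T := Finite.of_surjective fM hfM
  obtain S : Sylow p M := default
  have h1 : ((S : Subgroup M).map fM).index ∣ (S : Subgroup M).index :=
    Subgroup.index_map_dvd _ hfM
  have h2 : ((S : Subgroup M).map fM).index ∣ Nat.card T := Subgroup.index_dvd_card _
  obtain ⟨k, hk⟩ := hTp.exists_card_eq
  rw [hk] at h2
  obtain ⟨j, -, hj⟩ := (Nat.dvd_prime_pow hp).mp h2
  have hj0 : j = 0 := by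
    by_contra hj0
    have : p ∣ (S : Subgroup M).index := by
      refine dvd_trans ?_ h1
      rw [hj]
      exact dvd_pow_self p hj0
    exact S.not_dvd_index this
  rw [hj0, pow_zero, Subgroup.index_eq_one] at hj
  -- `S` is cyclic
  have hSp : IsPGroup p ((S : Subgroup M).map M.subtype) := S.isPGroup'.map _
  have hSle : (S : Subgroup M).map M.subtype ≤ N := by
    rintro _ ⟨y, -, rfl⟩
    exact y.2.1
  have hScyc : IsCyclic ((S : Subgroup M).map M.subtype) := h p hp _ hSle hSp
  have hScyc' : IsCyclic (S : Subgroup M) :=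
    isCyclic_of_mulEquiv
      ((S : Subgroup M).equivMapOfInjective M.subtype M.subtype_injective).symm
  -- hence `T` is cyclic
  let g : (S : Subgroup M) →* T := fM.comp (S : Subgroup M).subtype
  have hg : Function.Surjective g := by
    intro t
    have : t ∈ (S : Subgroup M).map fM := by rw [hj]; exact Subgroup.mem_top t
    obtain ⟨x, hx, rfl⟩ := this
    exact ⟨⟨x, hx⟩, rfl⟩
  exact isCyclic_of_surjective g hg

end Cfsg.Agent.Lib.Helper97.FC
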