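import Mathlib
import Cfsg.Agent.Lib.Helper97.FC1

/-!
# Frobenius complements and the six quotient types, part 2: the concrete groups

Normal subgroups with cyclic Sylow `2`-subgroups of `A₄`, `S₄`, `A₅`, `S₅` are trivial, and
the Klein four group is not cyclic.
-/

set_option autoImplicit false
set_option linter.unusedSectionVars false

namespace Cfsg.Agent.Lib.Helper97.FC

open Subgroup

set_option maxRecDepth 100000 in
theorem s4_fact : ∀ g : Equiv.Perm (Fin 4), g ≠ 1 → ∃ a b : Equiv.Perm (Fin 4),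
    (g * a * g⁻¹ * a⁻¹ ≠ 1 ∧ (g * a * g⁻¹ * a⁻¹) * (g * a * g⁻¹ * a⁻¹) = 1 ∧
      b * (g * a * g⁻¹ * a⁻¹) * b⁻¹ ≠ g * a * g⁻¹ * a⁻¹ ∧
      (b * (g * a * g⁻¹ * a⁻¹) * b⁻¹) * (g * a * g⁻¹ * a⁻¹) =
        (g * a * g⁻¹ * a⁻¹) * (b * (g * a * g⁻¹ * a⁻¹) * b⁻¹)) := by
  decide

set_option maxRecDepth 100000 in
theorem a4_fact : ∀ g : alternatingGroup (Fin 4), g ≠ 1 → ∃ a b : alternatingGroup (Fin 4),
    (g * a * g⁻¹ * a⁻¹ ≠ 1 ∧ (g * a * g⁻¹ * a⁻¹) * (g * a * g⁻¹ * a⁻¹) = 1 ∧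
      b * (g * a * g⁻¹ * a⁻¹) * b⁻¹ ≠ g * a * g⁻¹ * a⁻¹ ∧
      (b * (g * a * g⁻¹ * a⁻¹) * b⁻¹) * (g * a * g⁻¹ * a⁻¹) =
        (g * a * g⁻¹ * a⁻¹) * (b * (g * a * g⁻¹ * a⁻¹) * b⁻¹)) := by
  decide

/-- Abstract form: if every nontrivial element has a commutator which is an involution with
a distinct commuting conjugate, then normal subgroups with cyclic `2`-subgroups are trivial. -/
theorem normal_eq_bot_of_fact {X : Type*} [Group X]
    (hX : ∀ g : X, g ≠ 1 → ∃ a b : X,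
      (g * a * g⁻¹ * a⁻¹ ≠ 1 ∧ (g * a * g⁻¹ * a⁻¹) * (g * a * g⁻¹ * a⁻¹) = 1 ∧
        b * (g * a * g⁻¹ * a⁻¹) * b⁻¹ ≠ g * a * g⁻¹ * a⁻¹ ∧
        (b * (g * a * g⁻¹ * a⁻¹) * b⁻¹) * (g * a * g⁻¹ * a⁻¹) =
          (g * a * g⁻¹ * a⁻¹) * (b * (g * a * g⁻¹ * a⁻¹) * b⁻¹)))
    (K : Subgroup X) [hKn : K.Normal] (hK : AllPCyc K) : K = ⊥ := by
  rw [eq_bot_iff]
  intro g hg
  rw [Subgroup.mem_bot]
  by_contra hg1
  obtain ⟨a, b, h1, h2, h3, h4⟩ := hX g hg1
  set u := g * a * g⁻¹ * a⁻¹ with hu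
  have huK : u ∈ K := by
    have h5 : a * g⁻¹ * a⁻¹ ∈ K := hKn.conj_mem _ (K.inv_mem hg) a
    have : u = g * (a * g⁻¹ * a⁻¹) := by rw [hu]; group
    rw [this]
    exact K.mul_mem hg h5
  have hvK : b * u * b⁻¹ ∈ K := hKn.conj_mem _ huK b
  have hv2 : (b * u * b⁻¹) * (b * u * b⁻¹) = 1 := by
    calc (b * u * b⁻¹) * (b * u * b⁻¹) = b * (u * u) * b⁻¹ := by group
      _ = 1 := by rw [h2]; group
  have hv1 : b * u * b⁻¹ ≠ 1 := by
    intro h
    apply h1
    have : u = b⁻¹ * (b * u * b⁻¹) * b := by group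
    rw [this, h]; group
  exact hK.no_klein huK hvK h2 hv2 h1 hv1 (fun h => h3 h.symm) h4.symm

theorem normal_eq_bot_S4 (K : Subgroup (Equiv.Perm (Fin 4))) [K.Normal] (hK : AllPCyc K) :
    K = ⊥ :=
  normal_eq_bot_of_fact s4_fact K hK

theorem normal_eq_bot_A4 (K : Subgroup (alternatingGroup (Fin 4))) [K.Normal] (hK : AllPCyc K) :
    K = ⊥ :=
  normal_eq_bot_of_fact a4_fact K hK

/-- two commuting involutions in `A₅`. -/
theorem a5_klein : ∃ u v : alternatingGroup (Fin 5), u * u = 1 ∧ v * v = 1 ∧ u ≠ 1 ∧ v ≠ 1 ∧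
    u ≠ v ∧ u * v = v * u := by
  refine ⟨⟨Equiv.swap (0 : Fin 5) 1 * Equiv.swap (2 : Fin 5) 3,
      Equiv.Perm.mem_alternatingGroup.mpr (by decide)⟩,
    ⟨Equiv.swap (0 : Fin 5) 2 * Equiv.swap (1 : Fin 5) 3,
      Equiv.Perm.mem_alternatingGroup.mpr (by decide)⟩, ?_, ?_, ?_, ?_, ?_, ?_⟩ <;>
  decide

theorem normal_eq_bot_A5 (K : Subgroup (alternatingGroup (Fin 5))) [hKn : K.Normal]
    (hK : AllPCyc K) : K = ⊥ := by
  have hs : IsSimpleGroup (alternatingGroup (Fin 5)) :=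
    alternatingGroup.isSimpleGroup (by simp)
  rcases hKn.eq_bot_or_eq_top with h | h
  · exact h
  · exfalso
    obtain ⟨u, v, hu2, hv2, hu1, hv1, huv, hc⟩ := a5_klein
    exact hK.no_klein (h ▸ Subgroup.mem_top u) (h ▸ Subgroup.mem_top v) hu2 hv2 hu1 hv1 huv hc

theorem center_S5 (g : Equiv.Perm (Fin 5)) (hg : ∀ a : Equiv.Perm (Fin 5), a * g = g * a) :
    g = 1 := by
  ext i
  by_contra h
  have hgi : g i ≠ i := fun h' => h (by rw [h']; rfl)
  obtain ⟨k, hk1, hk2⟩ : ∃ k : Fin 5, k ≠ i ∧ k ≠ g i := by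
    have : ∀ i j : Fin 5, ∃ k : Fin 5, k ≠ i ∧ k ≠ j := by decide
    exact this i (g i)
  have h1 := congrArg (fun f : Equiv.Perm (Fin 5) => f i) (hg (Equiv.swap (g i) k))
  simp only [Equiv.Perm.coe_mul, Function.comp_apply] at h1
  rw [Equiv.swap_apply_left, Equiv.swap_apply_of_ne_of_ne hgi.symm hk1.symm] at h1
  exact hk2 h1

theorem normal_eq_bot_S5 (K : Subgroup (Equiv.Perm (Fin 5))) [hKn : K.Normal]
    (hK : AllPCyc K) : K = ⊥ := by
  -- the intersection with `A₅`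
  set K' : Subgroup (alternatingGroup (Fin 5)) := K.subgroupOf (alternatingGroup (Fin 5)) with hK'
  have hK'n : K'.Normal := hKn.subgroupOf _
  have hK'c : AllPCyc K' := by
    intro p hp T hT hTp
    have h1 : IsPGroup p (T.map (alternatingGroup (Fin 5)).subtype) := hTp.map _
    have h2 : T.map (alternatingGroup (Fin 5)).subtype ≤ K := by
      rintro _ ⟨y, hy, rfl⟩
      exact hT hy
    have h3 := hK p hp _ h2 h1
    exact isCyclic_of_mulEquiv (T.equivMapOfInjective _ (Subgroup.subtype_injective _)).symm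
  have hbot : K' = ⊥ := normal_eq_bot_A5 K' hK'c
  have hinf : ∀ x ∈ K, Equiv.Perm.sign x = 1 → x = 1 := by
    intro x hx hs
    have h1 : (⟨x, Equiv.Perm.mem_alternatingGroup.mpr hs⟩ : alternatingGroup (Fin 5)) ∈ K' :=
      Subgroup.mem_subgroupOf.mpr hx
    rw [hbot, Subgroup.mem_bot] at h1
    exact congrArg Subtype.val h1
  rw [eq_bot_iff]
  intro g hg
  rw [Subgroup.mem_bot]
  -- `g` is central
  have hcen : g ∈ Subgroup.center (Equiv.Perm (Fin 5)) := by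
    rw [Subgroup.mem_center_iff]
    intro a
    have h1 : g⁻¹ * (a * g * a⁻¹) ∈ K := K.mul_mem (K.inv_mem hg) (hKn.conj_mem _ hg a)
    have h2 : Equiv.Perm.sign (g⁻¹ * (a * g * a⁻¹)) = 1 := by
      simp only [map_mul, map_inv]
      rcases Int.units_eq_one_or (Equiv.Perm.sign g) with h | h <;>
      rcases Int.units_eq_one_or (Equiv.Perm.sign a) with h' | h' <;>
      simp [h, h']
    have h3 := hinf _ h1 h2
    have h4 : a * g * a⁻¹ = g := by
      have := mul_eq_one_iff_eq_inv'.mp h3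
      rw [inv_inv] at this
      exact this.symm ▸ rfl
    calc a * g = a * g * a⁻¹ * a := by group
      _ = g * a := by rw [h4]
  exact center_S5 g (fun a => (Subgroup.mem_center_iff.mp hcen a))

theorem not_allPCyc_top_D2 : ¬ AllPCyc (⊤ : Subgroup (DihedralGroup 2)) := by
  intro h
  exact h.no_klein (u := DihedralGroup.r 1) (v := DihedralGroup.sr 0) (Subgroup.mem_top _)
    (Subgroup.mem_top _) (by decide) (by decide) (by decide) (by decide) (by decide) (by decide)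

theorem card_D2 : Nat.card (DihedralGroup 2) = 4 := by
  rw [DihedralGroup.nat_card]

theorem card_A4 : Nat.card (alternatingGroup (Fin 4)) = 12 := by
  rw [Nat.card_eq_fintype_card]; decide

theorem card_S4 : Nat.card (Equiv.Perm (Fin 4)) = 24 := by
  rw [Nat.card_eq_fintype_card, Fintype.card_perm]; rfl

theorem card_A5 : Nat.card (alternatingGroup (Fin 5)) = 60 := by
  have h := two_mul_card_alternatingGroup (α := Fin 5)
  rw [Fintype.card_perm, Fintype.card_fin] at h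
  rw [Nat.card_eq_fintype_card]
  have : Nat.factorial 5 = 120 := rfl
  omega

theorem card_S5 : Nat.card (Equiv.Perm (Fin 5)) = 120 := by
  rw [Nat.card_eq_fintype_card, Fintype.card_perm]; rfl

end Cfsg.Agent.Lib.Helper97.FC
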