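import Mathlib

/-!
# Frobenius complements and the six quotient types: facts on generalized quaternion groups
-/

set_option autoImplicit false
set_option linter.unusedSectionVars false

namespace Cfsg.Agent.Lib.Helper97.FC

open Subgroup QuaternionGroup

variable {m : ℕ} [NeZero m]

theorem quat_a_mem_zpowers (i : ZMod (2 * m)) :
    (a i : QuaternionGroup m) ∈ zpowers (a 1 : QuaternionGroup m) := by
  have : NeZero (2 * m) := ⟨by have := NeZero.ne m; omega⟩
  have h : (a i : QuaternionGroup m) = (a 1) ^ i.val := by
    rw [a_one_pow, ZMod.natCast_zmod_val]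
  rw [h]
  exact Subgroup.pow_mem _ (Subgroup.mem_zpowers _) _

theorem quat_closure_eq_top :
    closure {(a 1 : QuaternionGroup m), xa 0} = ⊤ := by
  rw [eq_top_iff]
  intro g _
  have ha : ∀ i : ZMod (2 * m), (a i : QuaternionGroup m) ∈ closure {(a 1 : QuaternionGroup m), xa 0} := by
    intro i
    have h1 : zpowers (a 1 : QuaternionGroup m) ≤ closure {(a 1 : QuaternionGroup m), xa 0} :=
      Subgroup.zpowers_le.mpr (Subgroup.subset_closure (by simp))
    exact h1 (quat_a_mem_zpowers i)
  rcases g with i | i
  · exact ha i
  · have : (xa i : QuaternionGroup m) = xa 0 * a i := by rw [xa_mul_a, zero_add]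
    rw [this]
    exact Subgroup.mul_mem _ (Subgroup.subset_closure (by simp)) (ha i)

theorem quat_card : Nat.card (QuaternionGroup m) = 4 * m := by
  rw [Nat.card_eq_fintype_card, QuaternionGroup.card]

theorem quat_index_zpowers : (zpowers (a 1 : QuaternionGroup m)).index = 2 := by
  have h1 := Subgroup.card_mul_index (zpowers (a 1 : QuaternionGroup m))
  rw [Nat.card_zpowers, orderOf_a_one, quat_card] at h1
  have := NeZero.ne m
  have h2 : 2 * m * (zpowers (a 1 : QuaternionGroup m)).index = 2 * m * 2 := by rw [h1]; ring
  exact Nat.eq_of_mul_eq_mul_left (by omega) h2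

end Cfsg.Agent.Lib.Helper97.FC
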