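import Mathlib
import Cfsg.Agent.Lib.Helper97.FC2
import Cfsg.Agent.Lib.Helper97.FCQ

/-!
# Frobenius complements and the six quotient types, part 3: uniqueness
-/

set_option autoImplicit false
set_option linter.unusedSectionVars false

namespace Cfsg.Agent.Lib.Helper97.FC

open Subgroup

/-- A group of exponent two generated by two elements has at most four elements. -/
theorem card_closure_pair_le {E : Type*} [Group E] (hsq : ∀ g : E, g * g = 1) (α β : E) :
    Nat.card (closure {α, β}) ≤ 4 := by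
  have hinv : ∀ g : E, g⁻¹ = g := fun g => inv_eq_of_mul_eq_one_left (hsq g)
  have hc : ∀ x y : E, x * y = y * x := by
    intro x y
    have h1 := hsq (x * y)
    calc x * y = (x * y)⁻¹ := (hinv _).symm
      _ = y⁻¹ * x⁻¹ := mul_inv_rev x y
      _ = y * x := by rw [hinv, hinv]
  have hpow : ∀ (x : E) (n : ℕ), x ^ n = x ^ (n % 2) := fun x n =>
    pow_eq_pow_mod n (by rw [pow_two]; exact hsq x)
  have key : ∀ g ∈ closure {α, β}, ∃ a b : ℕ, a < 2 ∧ b < 2 ∧ g = α ^ a * β ^ b := by
    intro g hg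
    induction hg using Subgroup.closure_induction with
    | mem x hx =>
      rcases hx with rfl | rfl
      · exact ⟨1, 0, by norm_num, by norm_num, by simp⟩
      · exact ⟨0, 1, by norm_num, by norm_num, by simp⟩
    | one => exact ⟨0, 0, by norm_num, by norm_num, by simp⟩
    | mul x y _ _ ihx ihy =>
      obtain ⟨a, b, -, -, rfl⟩ := ihx
      obtain ⟨c, d, -, -, rfl⟩ := ihy
      refine ⟨(a + c) % 2, (b + d) % 2, Nat.mod_lt _ (by norm_num), Nat.mod_lt _ (by norm_num), ?_⟩
      rw [← hpow, ← hpow, pow_add, pow_add]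
      calc α ^ a * β ^ b * (α ^ c * β ^ d) = α ^ a * (β ^ b * α ^ c) * β ^ d := by group
        _ = α ^ a * (α ^ c * β ^ b) * β ^ d := by rw [hc (β ^ b)]
        _ = α ^ a * α ^ c * (β ^ b * β ^ d) := by group
    | inv x _ ih => rw [hinv]; exact ih
  let F : Fin 2 × Fin 2 → E := fun p => α ^ (p.1 : ℕ) * β ^ (p.2 : ℕ)
  have hsurj : ∀ g : closure {α, β}, ∃ p, F p = g := by
    intro g
    obtain ⟨a, b, ha, hb, h⟩ := key g g.2
    exact ⟨(⟨a, ha⟩, ⟨b, hb⟩), h.symm⟩
  choose sec hsec using hsurj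
  have hinj : Function.Injective sec := by
    intro g h hgh
    apply Subtype.ext
    rw [← hsec g, ← hsec h, hgh]
  have := Nat.card_le_card_of_injective sec hinj
  simpa using this

section

variable {G : Type*} [Group G] [Finite G]

/-- Sylow `2`-subgroups are generated by two elements. -/
def TwoGen (G : Type*) [Group G] : Prop :=
  ∀ Q : Sylow 2 G, ∃ x y : G, (Q : Subgroup G) = closure {x, y}

theorem twoGen_of_cyc_or_quat
    (hQ : ∀ Q : Sylow 2 G, IsCyclic Q ∨ ∃ n : ℕ, Nonempty (Q ≃* QuaternionGroup (2 ^ n))) :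
    TwoGen G := by
  intro Q
  rcases hQ Q with hcyc | ⟨n, ⟨e⟩⟩
  · obtain ⟨g, hg⟩ := hcyc.exists_generator
    refine ⟨g, g, ?_⟩
    have h1 : zpowers g = ⊤ := (Subgroup.eq_top_iff' _).mpr hg
    have h2 : (zpowers g).map (Q : Subgroup G).subtype = zpowers (g : G) := by
      rw [MonoidHom.map_zpowers]; rfl
    rw [Set.pair_eq_singleton, ← Subgroup.zpowers_eq_closure, ← h2, h1, ← MonoidHom.range_eq_map,
      Subgroup.range_subtype]
  · have : NeZero (2 ^ n) := ⟨by positivity⟩
    let φ : QuaternionGroup (2 ^ n) →* G := (Q : Subgroup G).subtype.comp e.symm.toMonoidHom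
    refine ⟨φ (QuaternionGroup.a 1), φ (QuaternionGroup.xa 0), ?_⟩
    have h1 : (closure {(QuaternionGroup.a 1 : QuaternionGroup (2 ^ n)), QuaternionGroup.xa 0}).map φ
        = closure {φ (QuaternionGroup.a 1), φ (QuaternionGroup.xa 0)} := by
      rw [MonoidHom.map_closure, Set.image_pair]
    rw [← h1, quat_closure_eq_top, ← MonoidHom.range_eq_map]
    ext x
    constructor
    · intro hx
      exact ⟨e ⟨x, hx⟩, by simp [φ]⟩
    · rintro ⟨y, rfl⟩
      exact (e.symm y).2

theorem d2_sq : ∀ g : DihedralGroup 2 × DihedralGroup 2, g * g = 1 := by decide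

/-- Two surjections onto the Klein four group have the same kernel. -/
theorem klein_klein (h2g : TwoGen G) (f1 f2 : G →* DihedralGroup 2)
    (hf1 : Function.Surjective f1) (hf2 : Function.Surjective f2) : f1.ker = f2.ker := by
  have h2 : Fact (Nat.Prime 2) := ⟨Nat.prime_two⟩
  set ψ : G →* DihedralGroup 2 × DihedralGroup 2 := f1.prod f2 with hψ
  set W : Subgroup G := ψ.ker with hW
  have hW1 : W ≤ f1.ker := by
    intro g hg
    have : ψ g = 1 := hg
    rw [MonoidHom.mem_ker]
    have := congrArg Prod.fst this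
    simpa [hψ] using this
  have hW2 : W ≤ f2.ker := by
    intro g hg
    have : ψ g = 1 := hg
    rw [MonoidHom.mem_ker]
    have := congrArg Prod.snd this
    simpa [hψ] using this
  obtain Q : Sylow 2 G := default
  obtain ⟨x, y, hxy⟩ := h2g Q
  -- `Q ⊔ W = ⊤`
  have hWidx : W.index ∣ 2 ^ 4 := by
    rw [hW, Subgroup.index_ker]
    have := Subgroup.card_subgroup_dvd_card ψ.range
    have hc : Nat.card (DihedralGroup 2 × DihedralGroup 2) = 2 ^ 4 := by
      rw [Nat.card_prod, card_D2]; norm_num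
    rwa [hc] at this
  have hQW : (Q : Subgroup G) ⊔ W = ⊤ := by
    rw [← Subgroup.index_eq_one]
    have h3 : ((Q : Subgroup G) ⊔ W).index ∣ 2 ^ 4 :=
      dvd_trans (Subgroup.index_dvd_of_le le_sup_right) hWidx
    have h4 : ((Q : Subgroup G) ⊔ W).index ∣ (Q : Subgroup G).index :=
      Subgroup.index_dvd_of_le le_sup_left
    obtain ⟨j, -, hj⟩ := (Nat.dvd_prime_pow Nat.prime_two).mp h3
    by_contra hne
    have hj0 : j ≠ 0 := by
      rintro rfl
      exact hne (by simpa using hj)
    apply Q.not_dvd_index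
    refine dvd_trans ?_ h4
    rw [hj]
    exact dvd_pow_self 2 hj0
  have hrange : ψ.range = closure {ψ x, ψ y} := by
    rw [MonoidHom.range_eq_map, ← hQW, Subgroup.map_sup, hxy, MonoidHom.map_closure,
      Set.image_pair]
    have : W.map ψ = ⊥ := by
      rw [hW, (Subgroup.map_eq_bot_iff _).mpr le_rfl]
    rw [this, sup_bot_eq]
  have hcard : W.index ≤ 4 := by
    rw [hW, Subgroup.index_ker, hrange]
    exact card_closure_pair_le d2_sq _ _
  have hidx : ∀ f : G →* DihedralGroup 2, Function.Surjective f → W ≤ f.ker → f.ker = W := by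
    intro f hf hle
    have h3 : f.ker.index = 4 := by
      rw [Subgroup.index_ker, MonoidHom.range_eq_top.mpr hf, Subgroup.card_top, card_D2]
    have h4 := Subgroup.relIndex_mul_index hle
    rw [h3] at h4
    have h5 : W.relIndex f.ker = 1 := by
      have h7 : W.index ≠ 0 := Subgroup.index_ne_zero_of_finite
      have h6 : W.relIndex f.ker ≠ 0 := by
        intro h0
        rw [h0, zero_mul] at h4
        exact h7 h4.symm
      rcases Nat.lt_or_ge (W.relIndex f.ker) 2 with h | h
      · omega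
      · nlinarith
    exact le_antisymm (Subgroup.relIndex_eq_one.mp h5) hle
  rw [hidx f1 hf1 hW1, hidx f2 hf2 hW2]

/-- The "large" options. -/
def Big (N : Subgroup G) : Prop :=
  (∀ K : Subgroup G, K.Normal → AllPCyc K → K ≤ N) ∧ 12 ≤ N.index

/-- The Klein four option. -/
def Klein (N : Subgroup G) : Prop :=
  ∃ f : G →* DihedralGroup 2, Function.Surjective f ∧ f.ker = N

theorem big_of_hom {X : Type*} [Group X] [Finite X]
    (hX : ∀ K : Subgroup X, K.Normal → AllPCyc K → K = ⊥) (hc : 12 ≤ Nat.card X)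
    {N : Subgroup G} (f : G →* X) (hf : Function.Surjective f) (hker : f.ker = N) : Big N := by
  constructor
  · intro K hKn hK
    have h1 : (K.map f).Normal := hKn.map f hf
    have h2 := hX _ h1 (hK.map f)
    rw [← hker]
    exact (Subgroup.map_eq_bot_iff _).mp h2
  · rw [← hker, Subgroup.index_ker, MonoidHom.range_eq_top.mpr hf, Subgroup.card_top]
    exact hc

/-- The statement's list of options. -/
def Opts (N : Subgroup G) : Prop :=
  N = ⊤ ∨
    (∃ f : G →* DihedralGroup 2, Function.Surjective f ∧ f.ker = N) ∨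
    (∃ f : G →* alternatingGroup (Fin 4), Function.Surjective f ∧ f.ker = N) ∨
    (∃ f : G →* Equiv.Perm (Fin 4), Function.Surjective f ∧ f.ker = N) ∨
    (∃ f : G →* alternatingGroup (Fin 5), Function.Surjective f ∧ f.ker = N) ∨
    (∃ f : G →* Equiv.Perm (Fin 5), Function.Surjective f ∧ f.ker = N)

theorem Opts.trichotomy {N : Subgroup G} (h : Opts N) : N = ⊤ ∨ Klein N ∨ Big N := by
  rcases h with h | h | ⟨f, hf, hk⟩ | ⟨f, hf, hk⟩ | ⟨f, hf, hk⟩ | ⟨f, hf, hk⟩
  · exact Or.inl h
  · exact Or.inr (Or.inl h)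
  · exact Or.inr (Or.inr (big_of_hom (fun K hKn hK => @normal_eq_bot_A4 K hKn hK)
      (by rw [card_A4]) f hf hk))
  · exact Or.inr (Or.inr (big_of_hom (fun K hKn hK => @normal_eq_bot_S4 K hKn hK)
      (by rw [card_S4]; norm_num) f hf hk))
  · exact Or.inr (Or.inr (big_of_hom (fun K hKn hK => @normal_eq_bot_A5 K hKn hK)
      (by rw [card_A5]; norm_num) f hf hk))
  · exact Or.inr (Or.inr (big_of_hom (fun K hKn hK => @normal_eq_bot_S5 K hKn hK)
      (by rw [card_S5]; norm_num) f hf hk))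

theorem klein_not_top {N : Subgroup G} (h : Klein N) (htop : AllPCyc (⊤ : Subgroup G)) : False := by
  obtain ⟨f, hf, -⟩ := h
  have h1 := htop.map f
  rw [← MonoidHom.range_eq_map, MonoidHom.range_eq_top.mpr hf] at h1
  exact not_allPCyc_top_D2 h1

theorem klein_index {N : Subgroup G} (h : Klein N) : N.index = 4 := by
  obtain ⟨f, hf, rfl⟩ := h
  rw [Subgroup.index_ker, MonoidHom.range_eq_top.mpr hf, Subgroup.card_top, card_D2]

/-- Uniqueness. -/
theorem opts_unique (h2g : TwoGen G) {N₁ N₂ : Subgroup G} (hn₁ : N₁.Normal) (hn₂ : N₂.Normal)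
    (hc₁ : AllPCyc N₁) (hc₂ : AllPCyc N₂) (o₁ : Opts N₁) (o₂ : Opts N₂) : N₁ = N₂ := by
  have aux : ∀ {A B : Subgroup G}, A.Normal → B.Normal → AllPCyc A → AllPCyc B →
      (A = ⊤ ∨ Klein A ∨ Big A) → Big B → A = B := by
    intro A B hAn hBn hAc hBc hA hB
    have hAB : A ≤ B := hB.1 A hAn hAc
    rcases hA with rfl | hA | hA
    · exact (top_le_iff.mp hAB).symm
    · exfalso
      have h1 := Subgroup.index_dvd_of_le hAB
      rw [klein_index hA] at h1
      have h2 := hB.2
      have h3 : B.index ≤ 4 := Nat.le_of_dvd (by norm_num) h1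
      omega
    · exact le_antisymm hAB (hA.1 B hBn hBc)
  have t₁ := o₁.trichotomy
  have t₂ := o₂.trichotomy
  rcases t₂ with h₂ | h₂ | h₂
  · rcases t₁ with h₁ | h₁ | h₁
    · rw [h₁, h₂]
    · exfalso; exact klein_not_top h₁ (h₂ ▸ hc₂)
    · exact (aux hn₂ hn₁ hc₂ hc₁ (Or.inl h₂) h₁).symm
  · rcases t₁ with h₁ | h₁ | h₁
    · exfalso; exact klein_not_top h₂ (h₁ ▸ hc₁)
    · obtain ⟨f1, hf1, rfl⟩ := h₁
      obtain ⟨f2, hf2, rfl⟩ := h₂
      exact klein_klein h2g f1 f2 hf1 hf2
    · exact (aux hn₂ hn₁ hc₂ hc₁ (Or.inr (Or.inl h₂)) h₁).symm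
  · exact aux hn₁ hn₂ hc₁ hc₂ t₁ h₂

end

end Cfsg.Agent.Lib.Helper97.FC
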