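import Mathlib
import Cfsg.Agent.S0012
import Cfsg.Agent.S0013
import Cfsg.Agent.S0014
import Cfsg.Agent.S0016
import Cfsg.Agent.S0029
import Cfsg.Agent.Lib.Helper55.Cores
import Cfsg.Agent.Lib.Helper55.SolvCore
import Cfsg.Agent.Lib.Helper97.FC4
import Cfsg.Agent.Lib.Helper97.FCQ

/-!
# Frobenius complements and the six quotient types, part 5: the solvable case with trivial
odd core
-/

set_option autoImplicit false
set_option linter.unusedSectionVars false
set_option linter.style.haveILetI false
set_option linter.deprecated false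

namespace Cfsg.Agent.Lib.Helper97.FC

open Subgroup

section Index2

variable {B : Type*} [Group B]

/-- A subgroup of index two contains all squares. -/
theorem sq_mem_of_index_two {A : Subgroup B} (hA : A.index = 2) (x : B) : x ^ 2 ∈ A := by
  have hn : A.Normal := Subgroup.normal_of_index_eq_two hA
  have h1 : Nat.card (B ⧸ A) = 2 := hA
  have h2 : (QuotientGroup.mk x : B ⧸ A) ^ Nat.card (B ⧸ A) = 1 := by
    haveI : Finite (B ⧸ A) := Nat.finite_of_card_ne_zero (by rw [h1]; norm_num)
    exact pow_card_eq_one'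
  rw [h1, ← QuotientGroup.mk_pow] at h2
  exact (QuotientGroup.eq_one_iff _).mp h2

/-- A subgroup of index two contains all commutators. -/
theorem commutator_le_of_index_two {A : Subgroup B} (hA : A.index = 2) : commutator B ≤ A := by
  have hn : A.Normal := Subgroup.normal_of_index_eq_two hA
  have h1 : Nat.card (B ⧸ A) = 2 := hA
  haveI : Fact (Nat.Prime 2) := ⟨Nat.prime_two⟩
  haveI : Finite (B ⧸ A) := Nat.finite_of_card_ne_zero (by rw [h1]; norm_num)
  have hcyc : IsCyclic (B ⧸ A) := isCyclic_of_prime_card h1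
  letI : CommGroup (B ⧸ A) := hcyc.commGroup
  rw [commutator_def, Subgroup.commutator_le]
  intro g₁ _ g₂ _
  rw [← QuotientGroup.eq_one_iff, commutatorElement_def]
  simp only [QuotientGroup.mk_mul, QuotientGroup.mk_inv]
  rw [mul_comm (QuotientGroup.mk g₁ : B ⧸ A) (QuotientGroup.mk g₂)]
  group

end Index2

variable {H : Type*} [Group H] [Finite H]

set_option maxHeartbeats 800000 in
/-- The solvable case with trivial odd core. -/
theorem solv_core (hsol : Group.IsSolvable H) (hO : Cfsg.pPrimeCore 2 H = ⊥)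
    (hinv : ∀ s t : H, orderOf s = 2 → orderOf t = 2 → s = t) (hnc : ¬ IsCyclic H) :
    ∃ N : Subgroup H, N.Normal ∧ IsCyclic N ∧ IsPGroup 2 N ∧
      ((∃ f : H →* DihedralGroup 2, Function.Surjective f ∧ f.ker = N) ∨
       (∃ f : H →* alternatingGroup (Fin 4), Function.Surjective f ∧ f.ker = N) ∨
       (∃ f : H →* Equiv.Perm (Fin 4), Function.Surjective f ∧ f.ker = N)) := by
  classical
  haveI h2 : Fact (Nat.Prime 2) := ⟨Nat.prime_two⟩
  set B : Subgroup H := Cfsg.pCore 2 H with hB
  haveI hBn : B.Normal := Cfsg.Agent.Lib.Helper55.pCore_normal' 2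
  have hBp : IsPGroup 2 B := Cfsg.Agent.Lib.Helper55.pCore_isPGroup 2
  have hCB : centralizer (B : Set H) ≤ B := Cfsg.Agent.Lib.Helper55.centralizer_pCore_le 2 hO
  -- `B` has a unique subgroup of order two
  have huniq : ∀ A A' : Subgroup B, Nat.card A = 2 → Nat.card A' = 2 → A = A' := by
    have key : ∀ A : Subgroup B, Nat.card A = 2 → ∃ t : B, orderOf t = 2 ∧ A = zpowers t := by
      intro A hA
      obtain ⟨t, ht⟩ := exists_prime_orderOf_dvd_card' (G := A) 2 (by rw [hA])
      refine ⟨(t : B), by rw [Subgroup.orderOf_coe]; exact ht, ?_⟩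
      symm
      apply Subgroup.eq_of_le_of_card_ge (Subgroup.zpowers_le.mpr t.2)
      rw [Nat.card_zpowers, Subgroup.orderOf_coe, ht, hA]
    intro A A' hA hA'
    obtain ⟨t, ht, rfl⟩ := key A hA
    obtain ⟨t', ht', rfl⟩ := key A' hA'
    have : (t : H) = (t' : H) := hinv _ _ (by rw [Subgroup.orderOf_coe]; exact ht)
      (by rw [Subgroup.orderOf_coe]; exact ht')
    rw [Subtype.ext this]
  -- `B` is not cyclic
  have hBnc : ¬ IsCyclic B := by
    intro hcyc
    have hHp : IsPGroup 2 H :=
      Cfsg.Agent.Lib.Helper55.isPGroup_two_of_cyclic_normal_self_centralizing B hBp hCB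
    have htop : (⊤ : Subgroup H) ≤ B :=
      Cfsg.Agent.Lib.Helper55.le_pCore 2 ⊤ (hHp.to_subgroup ⊤)
    have hBtop : B = ⊤ := top_le_iff.mp htop
    apply hnc
    have e : B ≃* H := (MulEquiv.subgroupCongr hBtop).trans Subgroup.topEquiv
    exact isCyclic_of_surjective e.toMonoidHom e.surjective
  obtain ⟨n, ⟨e⟩⟩ : ∃ n : ℕ, Nonempty (B ≃* QuaternionGroup (2 ^ n)) := by
    rcases Cfsg.Agent.S0016.result 2 hBp huniq with h | ⟨-, h⟩
    · exact absurd h hBnc
    · exact h
  haveI hne : NeZero (2 ^ n) := ⟨by positivity⟩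
  -- the cyclic subgroup of index two
  set x₀ : B := e.symm (QuaternionGroup.a 1) with hx₀
  set y₀ : B := e.symm (QuaternionGroup.xa 0) with hy₀
  set A : Subgroup B := zpowers x₀ with hA
  have hAidx : A.index = 2 := by
    have h1 : A.map (e : B →* QuaternionGroup (2 ^ n)) =
        zpowers (QuaternionGroup.a 1 : QuaternionGroup (2 ^ n)) := by
      rw [hA, MonoidHom.map_zpowers]
      simp [hx₀]
    rw [← Subgroup.index_map_equiv A e, h1]
    exact quat_index_zpowers
  haveI hAn : A.Normal := Subgroup.normal_of_index_eq_two hAidx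
  have hΦA : frattini B ≤ A :=
    Cfsg.Agent.S0013.result 2 hBp A (commutator_le_of_index_two hAidx)
      (sq_mem_of_index_two hAidx)
  -- generation by two elements
  have hgen : closure ({x₀, y₀} : Set B) = ⊤ := by
    have h1 : (closure {(QuaternionGroup.a 1 : QuaternionGroup (2 ^ n)),
        QuaternionGroup.xa 0}).map (e.symm : QuaternionGroup (2 ^ n) →* B) =
        closure {x₀, y₀} := by
      rw [MonoidHom.map_closure, Set.image_pair]
      rfl
    rw [← h1, quat_closure_eq_top]
    exact Subgroup.map_top_of_surjective _ e.symm.surjective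
  -- the Frattini index is four
  have hΦidx : (frattini B).index = 4 := by
    obtain ⟨j, hj⟩ := hBp.exists_card_eq
    have hdvd : (frattini B).index ∣ 2 ^ j := by
      rw [← hj]; exact Subgroup.index_dvd_card _
    obtain ⟨k, -, hk⟩ := (Nat.dvd_prime_pow Nat.prime_two).mp hdvd
    obtain ⟨h14a, h14b⟩ := Cfsg.Agent.S0014.result 2 k hBp hk
    have hS : closure (({x₀, y₀} : Finset B) : Set B) = ⊤ := by
      rw [Finset.coe_pair]; exact hgen
    have hk2 : k ≤ 2 := by
      have := h14b {x₀, y₀} hS
      exact this.trans (Finset.card_le_two)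
    obtain ⟨T, -, hTc, hTgen⟩ := h14a {x₀, y₀} hS
    have hk1 : ¬ k ≤ 1 := by
      intro hk1
      apply hBnc
      rw [← hTc] at hk1
      rcases Finset.card_le_one_iff_subset_singleton.mp hk1 with ⟨t, ht⟩
      have h3 : closure ((T : Finset B) : Set B) ≤ zpowers t := by
        rw [Subgroup.closure_le]
        intro u hu
        have := ht hu
        rw [Finset.mem_singleton] at this
        rw [this]
        exact Subgroup.mem_zpowers t
      rw [hTgen] at h3
      exact isCyclic_iff_exists_zpowers_eq_top.mpr ⟨t, top_le_iff.mp h3⟩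
    have : k = 2 := by omega
    rw [hk, this]; norm_num
  -- the Frattini subgroup inside `H`
  set Φ : Subgroup H := (frattini B).map B.subtype with hΦ
  haveI hΦn : Φ.Normal := ConjAct.normal_of_characteristic_of_normal
  have hΦB : Φ ≤ B := by
    rintro _ ⟨y, -, rfl⟩
    exact y.2
  have hΦcyc : IsCyclic Φ := by
    have h1 : IsCyclic ((frattini B).subgroupOf A) := inferInstance
    have h2 : IsCyclic (frattini B) :=
      isCyclic_of_surjective (Subgroup.subgroupOfEquivOfLe hΦA).toMonoidHom
        (Subgroup.subgroupOfEquivOfLe hΦA).surjective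
    exact isCyclic_of_surjective
      ((frattini B).equivMapOfInjective B.subtype B.subtype_injective).toMonoidHom
      ((frattini B).equivMapOfInjective B.subtype B.subtype_injective).surjective
  have hΦp : IsPGroup 2 Φ := hBp.to_le hΦB
  have hΦcard : Nat.card Φ = Nat.card (frattini B) :=
    Subgroup.card_map_of_injective B.subtype_injective
  have hBcard : Nat.card B = Nat.card Φ * 4 := by
    rw [hΦcard, ← hΦidx, Subgroup.card_mul_index]
  -- the quotient
  set π : H →* H ⧸ Φ := QuotientGroup.mk' Φ with hπ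
  have hπs : Function.Surjective π := QuotientGroup.mk'_surjective Φ
  have hπk : π.ker = Φ := QuotientGroup.ker_mk' Φ
  set V : Subgroup (H ⧸ Φ) := B.map π with hV
  haveI hVn : V.Normal := hBn.map π hπs
  have hcomapV : V.comap π = B := by
    rw [hV, Subgroup.comap_map_eq, hπk, sup_eq_left.mpr hΦB]
  have hV4 : Nat.card V = 4 := by
    have h1 := Cfsg.Agent.Lib.Helper55.card_comap_mk' Φ V
    rw [← hπ, hcomapV, hBcard] at h1
    have hpos : 0 < Nat.card Φ := Nat.card_pos
    exact (Nat.eq_of_mul_eq_mul_left hpos h1).symm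
  have hV2 : ∀ v ∈ V, v * v = 1 := by
    rintro _ ⟨b, hb, rfl⟩
    rw [← map_mul, ← MonoidHom.mem_ker, hπk]
    have h1 : (⟨b, hb⟩ : B) ^ 2 ∈ frattini B := (Cfsg.Agent.S0012.result 2 hBp).2 ⟨b, hb⟩
    refine ⟨(⟨b, hb⟩ : B) ^ 2, h1, ?_⟩
    simp [pow_two]
  -- the centralizer of `V`
  have hCV : centralizer (V : Set (H ⧸ Φ)) ≤ V := by
    set K : Subgroup H := (centralizer (V : Set (H ⧸ Φ))).comap π with hK
    haveI hKn : K.Normal := by
      haveI : (centralizer (V : Set (H ⧸ Φ))).Normal := Subgroup.normal_centralizer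
      exact Subgroup.Normal.comap inferInstance π
    have hKp : IsPGroup 2 K := by
      rintro ⟨g, hg⟩
      obtain ⟨a, m, hm, hgam⟩ := Nat.exists_eq_two_pow_mul_odd (n := orderOf g)
        (orderOf_pos g).ne'
      refine ⟨a, ?_⟩
      apply Subtype.ext
      show g ^ 2 ^ a = 1
      set h : H := g ^ 2 ^ a with hh
      have hhK : h ∈ K := K.pow_mem hg _
      have hord : orderOf h = m := by
        rw [hh, orderOf_pow' g (by positivity), hgam, Nat.gcd_eq_right (Dvd.intro _ rfl)]
        exact Nat.mul_div_cancel_left m (by positivity)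
      -- `h` centralizes `B`
      have h29 := Cfsg.Agent.S0029.result (zpowers h) B
        (by rw [Subgroup.normalizer_eq_top]; exact le_top)
        (by
          rw [Nat.card_zpowers, hord]
          obtain ⟨i, hi⟩ := (hBp.to_subgroup (frattini B)).exists_card_eq
          rw [hi]
          exact Nat.Coprime.pow_right i (Nat.coprime_two_right.mpr hm))
        (by
          intro c hc k hk
          have hcK : c ∈ K := (Subgroup.zpowers_le.mpr hhK) hc
          have hπc : π c ∈ centralizer (V : Set (H ⧸ Φ)) := hcK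
          have hπk' : π k ∈ V := ⟨k, hk, rfl⟩
          have hcomm := (Subgroup.mem_centralizer_iff.mp hπc) (π k) hπk'
          rw [← hΦ, ← hπk, MonoidHom.mem_ker]
          simp only [map_mul, map_inv]
          rw [← hcomm]
          group)
      have hhB : h ∈ B := hCB (h29 (Subgroup.mem_zpowers h))
      obtain ⟨i, hi⟩ := hBp ⟨h, hhB⟩
      have hi' : h ^ 2 ^ i = 1 := congrArg Subtype.val hi
      have hd : orderOf h ∣ 2 ^ i := orderOf_dvd_of_pow_eq_one hi'
      rw [hord] at hd
      have hm1 : m = 1 :=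
        Nat.Coprime.eq_one_of_dvd (Nat.Coprime.pow_right i (Nat.coprime_two_right.mpr hm)) hd
      rw [hm1] at hord
      exact orderOf_eq_one_iff.mp hord
    have hKB : K ≤ B := Cfsg.Agent.Lib.Helper55.le_pCore 2 K hKp
    intro y hy
    obtain ⟨g, rfl⟩ := hπs y
    exact ⟨g, hKB hy, rfl⟩
  have hVidx : V.index = B.index := by
    rw [hV, Subgroup.index_map, hπk, sup_eq_left.mpr hΦB, MonoidHom.range_eq_top.mpr hπs,
      Subgroup.index_top, mul_one]
  have hidx : V.index ≠ 2 := by
    rw [hVidx]
    intro hB2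
    have hHp : IsPGroup 2 H := by
      obtain ⟨j, hj⟩ := hBp.exists_card_eq
      apply IsPGroup.of_card (n := j + 1)
      rw [← Subgroup.card_mul_index B, hj, hB2, pow_succ]
    have htop : (⊤ : Subgroup H) ≤ B :=
      Cfsg.Agent.Lib.Helper55.le_pCore 2 ⊤ (hHp.to_subgroup ⊤)
    have : B.index = 1 := by rw [top_le_iff.mp htop]; exact Subgroup.index_top
    omega
  have hfinal : ∀ {X : Type} [Group X] (ι : (H ⧸ Φ) ≃* X),
      ∃ f : H →* X, Function.Surjective f ∧ f.ker = Φ := by
    intro X _ ι
    refine ⟨(ι : (H ⧸ Φ) →* X).comp π, ι.surjective.comp hπs, ?_⟩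
    rw [MonoidHom.ker_mulEquiv_comp, hπk]
  refine ⟨Φ, hΦn, hΦcyc, hΦp, ?_⟩
  rcases klein_ident V hV4 hV2 hCV hidx with ⟨⟨ι⟩⟩ | ⟨⟨ι⟩⟩ | ⟨⟨ι⟩⟩
  · exact Or.inl (hfinal ι)
  · exact Or.inr (Or.inl (hfinal ι))
  · exact Or.inr (Or.inr (hfinal ι))

end Cfsg.Agent.Lib.Helper97.FC
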