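import Mathlib
import Cfsg.Agent.Lib.Helper97.FC3
import Cfsg.Agent.Lib.Helper97.FC5

/-!
# Frobenius complements and the six quotient types, part 6: the solvable case
-/

set_option autoImplicit false
set_option linter.unusedSectionVars false
set_option linter.style.haveILetI false
set_option linter.deprecated false

namespace Cfsg.Agent.Lib.Helper97.FC

open Subgroup

variable {G : Type*} [Group G] [Finite G]

set_option maxHeartbeats 800000 in
/-- The solvable case. -/
theorem solv_case (hsol : Group.IsSolvable G)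
    (hinv : ∀ s t : G, orderOf s = 2 → orderOf t = 2 → s = t)
    (hodd : ∀ p : ℕ, p.Prime → p ≠ 2 → ∀ P : Subgroup G, IsPGroup p P → IsCyclic P)
    (hQ : ∃ Q : Sylow 2 G, ¬ IsCyclic Q) :
    ∃ N : Subgroup G, N.Normal ∧ AllPCyc N ∧
      ((∃ f : G →* DihedralGroup 2, Function.Surjective f ∧ f.ker = N) ∨
       (∃ f : G →* alternatingGroup (Fin 4), Function.Surjective f ∧ f.ker = N) ∨
       (∃ f : G →* Equiv.Perm (Fin 4), Function.Surjective f ∧ f.ker = N)) := by
  classical
  haveI h2 : Fact (Nat.Prime 2) := ⟨Nat.prime_two⟩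
  set P : Subgroup G := Cfsg.pPrimeCore 2 G with hP
  haveI hPn : P.Normal := Cfsg.Agent.Lib.Helper55.pPrimeCore_normal' 2
  have hPodd : (Nat.card P).Coprime 2 := Cfsg.Agent.Lib.Helper55.pPrimeCore_card_coprime 2
  set π : G →* G ⧸ P := QuotientGroup.mk' P with hπ
  have hπs : Function.Surjective π := QuotientGroup.mk'_surjective P
  have hπk : π.ker = P := QuotientGroup.ker_mk' P
  have hsol' : Group.IsSolvable (G ⧸ P) := inferInstance
  have hO' : Cfsg.pPrimeCore 2 (G ⧸ P) = ⊥ :=
    Cfsg.Agent.Lib.Helper55.pPrimeCore_quotient_eq_bot 2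
  -- a `2`-subgroup meets `P` trivially
  have hTP : ∀ T : Subgroup G, IsPGroup 2 T → T ⊓ P = ⊥ := by
    intro T hT
    apply Subgroup.inf_eq_bot_of_coprime
    obtain ⟨k, hk⟩ := hT.exists_card_eq
    rw [hk]
    exact Nat.Coprime.pow_left k hPodd.symm
  -- involutions of the quotient lift to involutions
  have hlift : ∀ s : G ⧸ P, orderOf s = 2 → ∃ u : G, orderOf u = 2 ∧ π u = s := by
    intro s hs
    obtain ⟨g, rfl⟩ := hπs s
    obtain ⟨a, m, hm, hgam⟩ := Nat.exists_eq_two_pow_mul_odd (n := orderOf g)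
      (orderOf_pos g).ne'
    set u : G := g ^ m with hu
    have hmpos : 0 < m := hm.pos
    have hordu : orderOf u = 2 ^ a := by
      rw [hu, orderOf_pow' g hmpos.ne', hgam, Nat.gcd_eq_right (Dvd.intro_left _ rfl)]
      exact Nat.mul_div_cancel _ hmpos
    have hsq : (π g) ^ 2 = 1 := by rw [← hs]; exact pow_orderOf_eq_one _
    have hπu : π u = π g := by
      rw [hu, map_pow]
      obtain ⟨k, hk⟩ := hm
      rw [hk, pow_succ, pow_mul, hsq, one_pow, one_mul]
    have hu1 : u ≠ 1 := by
      intro h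
      have : π g = 1 := by rw [← hπu, h, map_one]
      rw [this, orderOf_one] at hs
      omega
    have hu2 : u ^ 2 = 1 := by
      have h1 : u ^ 2 ∈ P := by
        rw [← hπk, MonoidHom.mem_ker, map_pow, hπu, hsq]
      have h3 : u ^ 2 ∈ zpowers u ⊓ P := ⟨Subgroup.pow_mem _ (Subgroup.mem_zpowers u) 2, h1⟩
      have h4 : IsPGroup 2 (zpowers u) := by
        apply IsPGroup.of_card (n := a)
        rw [Nat.card_zpowers, hordu]
      rw [hTP _ h4, Subgroup.mem_bot] at h3
      exact h3
    refine ⟨u, ?_, hπu⟩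
    exact orderOf_eq_prime hu2 hu1
  have hinv' : ∀ s t : G ⧸ P, orderOf s = 2 → orderOf t = 2 → s = t := by
    intro s t hs ht
    obtain ⟨u, hu, rfl⟩ := hlift s hs
    obtain ⟨v, hv, rfl⟩ := hlift t ht
    rw [hinv u v hu hv]
  have hnc' : ¬ IsCyclic (G ⧸ P) := by
    intro hcyc
    obtain ⟨Q, hQ⟩ := hQ
    apply hQ
    let ρ : Q →* G ⧸ P := π.comp (Q : Subgroup G).subtype
    have hρ : Function.Injective ρ := by
      rw [injective_iff_map_eq_one]
      intro x hx
      have h1 : (x : G) ∈ (Q : Subgroup G) ⊓ P := by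
        refine Subgroup.mem_inf.mpr ⟨x.2, ?_⟩
        rw [← hπk, MonoidHom.mem_ker]
        exact hx
      rw [hTP _ Q.isPGroup', Subgroup.mem_bot] at h1
      exact Subtype.ext h1
    exact isCyclic_of_injective ρ hρ
  obtain ⟨N', hN'n, hN'c, hN'p, hopts⟩ := solv_core hsol' hO' hinv' hnc'
  refine ⟨N'.comap π, hN'n.comap π, ?_, ?_⟩
  · intro p hp T hT hTp
    by_cases hp2 : p = 2
    · subst hp2
      let ρ : T →* N' :=
        { toFun := fun x => ⟨π x, hT x.2⟩
          map_one' := by apply Subtype.ext; simp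
          map_mul' := fun x y => by apply Subtype.ext; simp }
      have hρ : Function.Injective ρ := by
        rw [injective_iff_map_eq_one]
        intro x hx
        have h0 : π (x : G) = 1 := congrArg Subtype.val hx
        have h1 : (x : G) ∈ T ⊓ P := by
          refine Subgroup.mem_inf.mpr ⟨x.2, ?_⟩
          rw [← hπk, MonoidHom.mem_ker]
          exact h0
        rw [hTP _ hTp, Subgroup.mem_bot] at h1
        exact Subtype.ext h1
      exact isCyclic_of_injective ρ hρ
    · exact hodd p hp hp2 T hTp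
  · have hfinal : ∀ {X : Type} [Group X] (f : G ⧸ P →* X), Function.Surjective f → f.ker = N' →
        ∃ f' : G →* X, Function.Surjective f' ∧ f'.ker = N'.comap π := by
      intro X _ f hf hk
      refine ⟨f.comp π, hf.comp hπs, ?_⟩
      rw [← hk, MonoidHom.comap_ker]
    rcases hopts with ⟨f, hf, hk⟩ | ⟨f, hf, hk⟩ | ⟨f, hf, hk⟩
    · exact Or.inl (hfinal f hf hk)
    · exact Or.inr (Or.inl (hfinal f hf hk))
    · exact Or.inr (Or.inr (hfinal f hf hk))

end Cfsg.Agent.Lib.Helper97.FC
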