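import Mathlib
import Cfsg.Agent.Lib.Helper5.AutPSL2Card
import Cfsg.Agent.Lib.Helper48.SL25Pres

/-!
# Non-solvable Frobenius complements, part 1: general lemmas

* a finite non-solvable group has a non-trivial perfect normal subgroup;
* automorphisms of a perfect group are determined by their action modulo the centre;
* a group isomorphic to `SL(2,5)` has order `120`, centre of order `2`, and, being perfect,
  at most `120` automorphisms.
-/

set_option autoImplicit false

namespace Cfsg.Agent.Lib.Helper97.FrobNS

open Subgroup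

abbrev SL25 := Matrix.SpecialLinearGroup (Fin 2) (ZMod 5)

section Perfect

variable {G : Type*} [Group G] [Finite G]

/-- A finite non-solvable group has a non-trivial perfect normal subgroup. -/
theorem exists_perfect_normal (hns : ¬ Group.IsSolvable G) :
    ∃ L : Subgroup G, L.Normal ∧ L ≠ ⊥ ∧ ⁅L, L⁆ = L := by
  classical
  -- choose `n` minimising the order of `derivedSeries G n`
  let f : ℕ → ℕ := fun n => Nat.card (derivedSeries G n)
  have hex : ∃ m, ∃ n, f n = m := ⟨f 0, 0, rfl⟩
  obtain ⟨n, hn⟩ := Nat.find_spec hex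
  have hmin : ∀ k, Nat.find hex ≤ f k := fun k => Nat.find_min' hex ⟨k, rfl⟩
  have hle : derivedSeries G (n + 1) ≤ derivedSeries G n := derivedSeries_antitone G (Nat.le_succ n)
  have heq : derivedSeries G (n + 1) = derivedSeries G n := by
    apply Subgroup.eq_of_le_of_card_ge hle
    have := hmin (n + 1)
    show f n ≤ f (n + 1)
    omega
  refine ⟨derivedSeries G n, derivedSeries_normal G n, ?_, ?_⟩
  · intro h
    exact hns ((Group.isSolvable_def G).mpr ⟨n, h⟩)
  · rw [← derivedSeries_succ, heq]

end Perfect

section Aut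

variable {S : Type*} [Group S]

/-- An automorphism maps the centre onto the centre. -/
theorem map_center_mulEquiv {T : Type*} [Group T] (e : S ≃* T) :
    (center S).map e.toMonoidHom = center T := by
  ext y
  constructor
  · rintro ⟨x, hx, rfl⟩
    rw [Subgroup.mem_center_iff]
    intro t
    obtain ⟨s, rfl⟩ := e.surjective t
    have := (Subgroup.mem_center_iff.mp hx) s
    show e s * e x = e x * e s
    rw [← map_mul, ← map_mul, this]
  · intro hy
    refine ⟨e.symm y, ?_, by simp⟩
    rw [SetLike.mem_coe, Subgroup.mem_center_iff]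
    intro s
    apply e.injective
    rw [map_mul, map_mul, e.apply_symm_apply]
    exact (Subgroup.mem_center_iff.mp hy) (e s)

/-- The automorphism induced on the central quotient. -/
noncomputable def quotAut (φ : MulAut S) : MulAut (S ⧸ center S) :=
  QuotientGroup.congr (center S) (center S) φ (map_center_mulEquiv φ)

theorem quotAut_mk (φ : MulAut S) (x : S) :
    quotAut φ (QuotientGroup.mk x) = QuotientGroup.mk (φ x) := rfl

/-- For a perfect group, an automorphism is determined by its action on the central quotient. -/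
theorem quotAut_injective (hperf : commutator S = ⊤) :
    Function.Injective (quotAut : MulAut S → MulAut (S ⧸ center S)) := by
  intro φ ψ h
  -- `x ↦ (ψ x)⁻¹ * φ x` is a homomorphism into the centre
  have hmem : ∀ x : S, (ψ x)⁻¹ * φ x ∈ center S := by
    intro x
    have h1 : quotAut φ (QuotientGroup.mk x) = quotAut ψ (QuotientGroup.mk x) := by rw [h]
    rw [quotAut_mk, quotAut_mk] at h1
    exact QuotientGroup.eq.mp h1.symm
  letI instC : CommGroup (center S) :=
    { (inferInstance : Group (center S)) with
      mul_comm := fun a b => Subtype.ext (Subgroup.mem_center_iff.mp b.2 a) }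
  let δ : S →* center S :=
    { toFun := fun x => ⟨(ψ x)⁻¹ * φ x, hmem x⟩
      map_one' := by
        apply Subtype.ext
        simp
      map_mul' := fun x y => by
        apply Subtype.ext
        show (ψ (x * y))⁻¹ * φ (x * y) = ((ψ x)⁻¹ * φ x) * ((ψ y)⁻¹ * φ y)
        have hc := (Subgroup.mem_center_iff.mp (hmem x)) (ψ y)⁻¹
        rw [map_mul, map_mul, mul_inv_rev]
        calc (ψ y)⁻¹ * (ψ x)⁻¹ * (φ x * φ y) = ((ψ y)⁻¹ * ((ψ x)⁻¹ * φ x)) * φ y := by group
          _ = (((ψ x)⁻¹ * φ x) * (ψ y)⁻¹) * φ y := by rw [hc]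
          _ = ((ψ x)⁻¹ * φ x) * ((ψ y)⁻¹ * φ y) := by group }
  have hker : δ.ker = ⊤ := by
    have := @Abelianization.commutator_subset_ker S _ (center S) instC δ
    rw [hperf] at this
    exact top_le_iff.mp this
  apply MulEquiv.ext
  intro x
  have hx : x ∈ δ.ker := by rw [hker]; exact Subgroup.mem_top x
  have h2 : (ψ x)⁻¹ * φ x = 1 := congrArg Subtype.val (MonoidHom.mem_ker.mp hx)
  exact (inv_mul_eq_one.mp h2).symm

end Aut

section SL

variable {L : Type*} [Group L]

theorem card_of_equiv (e : L ≃* SL25) : Nat.card L = 120 := by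
  rw [Nat.card_congr e.toEquiv]
  exact Cfsg.Agent.Lib.Helper48.SL25.card_SL25

theorem card_center_of_equiv (e : L ≃* SL25) : Nat.card (center L) = 2 := by
  have h1 : Nat.card (center L) = Nat.card (center SL25) := by
    rw [← map_center_mulEquiv e]
    exact (Subgroup.card_map_of_injective e.injective).symm
  rw [h1, Cfsg.Agent.Lib.Helper5.AutPSL2.card_center_SL2]
  simp [ZMod.card]

/-- A perfect group isomorphic to `SL(2,5)` has at most `120` automorphisms. -/
theorem card_mulAut_le [Finite L] (e : L ≃* SL25) (hperf : commutator L = ⊤) :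
    Nat.card (MulAut L) ≤ 120 := by
  have hfin : Finite (MulAut (L ⧸ center L)) :=
    Finite.of_injective (fun φ : MulAut (L ⧸ center L) => (φ : L ⧸ center L → L ⧸ center L))
      DFunLike.coe_injective
  have : Fact (Nat.Prime 5) := ⟨by norm_num⟩
  have h1 : Nat.card (MulAut L) ≤ Nat.card (MulAut (L ⧸ center L)) :=
    Nat.card_le_card_of_injective _ (quotAut_injective hperf)
  let eq : (L ⧸ center L) ≃* Matrix.ProjectiveSpecialLinearGroup (Fin 2) (ZMod 5) :=
    QuotientGroup.congr (center L) (center SL25) e (map_center_mulEquiv e)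
  have h2 : Nat.card (MulAut (L ⧸ center L)) =
      Nat.card (MulAut (Matrix.ProjectiveSpecialLinearGroup (Fin 2) (ZMod 5))) :=
    Nat.card_congr (MulAut.congr eq).toEquiv
  have h3 := Cfsg.Agent.Lib.Helper5.AutPSL2.card_aut_PSL2 (F := ZMod 5) (p := 5) (f := 1)
    le_rfl (by simp [ZMod.card])
  rw [Cfsg.Agent.Lib.Helper48.SL25.card_SL25] at h3
  omega

end SL

end Cfsg.Agent.Lib.Helper97.FrobNS
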