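import Mathlib
import Cfsg.Agent.Lib.Helper97.FrobNS1

/-!
# Non-solvable Frobenius complements, part 2: the abstract structure theorem

A finite non-solvable group with a unique involution, cyclic odd Sylow subgroups, no `C_p × C_p`
and whose non-trivial perfect subgroups are all isomorphic to `SL(2,5)` has a normal subgroup of
index at most `2` of the form `SL(2,5) × M`.
-/

set_option autoImplicit false
set_option linter.unusedSectionVars false

namespace Cfsg.Agent.Lib.Helper97.FrobNS

open Subgroup

/-- The abstract hypotheses satisfied by Frobenius complements. -/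
structure Hyp (G : Type*) [Group G] : Prop where
  inv_unique : ∀ s t : G, orderOf s = 2 → orderOf t = 2 → s = t
  prime_comm : ∀ p : ℕ, p.Prime → ∀ a b : G, a * b = b * a → orderOf a = p → orderOf b = p →
    b ∈ zpowers a
  sylow_cyclic : ∀ p : ℕ, p.Prime → p ≠ 2 → ∀ P : Subgroup G, IsPGroup p P → IsCyclic P
  perfect : ∀ U : Subgroup G, ⁅U, U⁆ = U → U ≠ ⊥ → Nonempty (U ≃* SL25)

variable {G : Type*} [Group G] [Finite G]

theorem card_mul_relIndex {A B : Subgroup G} (h : A ≤ B) :
    Nat.card A * A.relIndex B = Nat.card B := by
  have h1 := Subgroup.card_mul_index (A.subgroupOf B)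
  rw [Nat.card_congr (Subgroup.subgroupOfEquivOfLe h).toEquiv] at h1
  exact h1

theorem pow_two_eq_one_of_card {A : Subgroup G} (hA : Nat.card A = 2) {x : G} (hx : x ∈ A) :
    x ^ 2 = 1 := by
  have h1 : (⟨x, hx⟩ : A) ^ Nat.card A = 1 := pow_card_eq_one'
  rw [hA] at h1
  exact congrArg Subtype.val h1

/-- An involution of a group with a unique involution is central. -/
theorem Hyp.inv_central (H : Hyp G) {z : G} (hz : orderOf z = 2) (g : G) : g * z = z * g := by
  have h1 : orderOf (g * z * g⁻¹) = 2 := by
    have := orderOf_injective (MulAut.conj g).toMonoidHom (MulAut.conj g).injective z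
    rw [← hz, ← this]
    rfl
  have h2 := H.inv_unique _ _ h1 hz
  calc g * z = g * z * g⁻¹ * g := by group
    _ = z * g := by rw [h2]

/-- A subgroup of order `4` of a group with a unique involution contains an element of
order `4`. -/
theorem Hyp.exists_order_four (H : Hyp G) (K : Subgroup G) (hK : Nat.card K = 4) :
    ∃ x ∈ K, orderOf x = 4 := by
  have hord : ∀ a ∈ K, a ≠ 1 → orderOf a = 2 ∨ orderOf a = 4 := by
    intro a ha ha1
    have h1 : orderOf a ∣ 2 ^ 2 := by
      have := Subgroup.orderOf_dvd_natCard K ha
      rw [hK] at this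
      exact this
    obtain ⟨k, hk, hk2⟩ := (Nat.dvd_prime_pow Nat.prime_two).mp h1
    interval_cases k
    · exfalso
      exact ha1 (orderOf_eq_one_iff.mp (by simpa using hk2))
    · left; simpa using hk2
    · right; simpa using hk2
  have hnt : K ≠ ⊥ := by
    intro h
    rw [h, Subgroup.card_bot] at hK
    omega
  obtain ⟨⟨a, ha⟩, ha1'⟩ := Subgroup.ne_bot_iff_exists_ne_one.mp hnt
  have ha1 : a ≠ 1 := fun h => ha1' (Subtype.ext h)
  rcases hord a ha ha1 with h2 | h4
  · have hle : zpowers a ≤ K := (Subgroup.zpowers_le).mpr ha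
    have hne : zpowers a ≠ K := by
      intro h
      have := Nat.card_zpowers a
      rw [h, hK, h2] at this
      omega
    obtain ⟨b, hbK, hbn⟩ := SetLike.exists_of_lt (lt_of_le_of_ne hle hne)
    have hb1 : b ≠ 1 := by
      rintro rfl
      exact hbn (one_mem _)
    rcases hord b hbK hb1 with hb2 | hb4
    · exfalso
      apply hbn
      rw [H.inv_unique b a hb2 h2]
      exact Subgroup.mem_zpowers a
    · exact ⟨b, hbK, hb4⟩
  · exact ⟨a, ha, h4⟩


/-- In a perfect normal subgroup `L ≃ SL(2,5)`: the intersection with its centraliser has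
order `2`. -/
theorem inf_centralizer_card (L : Subgroup G) (e : L ≃* SL25) :
    Nat.card ↥(L ⊓ centralizer (L : Set G)) = 2 := by
  have h1 : L ⊓ centralizer (L : Set G) = (center L).map L.subtype := by
    ext x
    constructor
    · rintro ⟨hxL, hxC⟩
      refine ⟨⟨x, hxL⟩, ?_, rfl⟩
      rw [SetLike.mem_coe, Subgroup.mem_center_iff]
      intro y
      apply Subtype.ext
      exact (Subgroup.mem_centralizer_iff.mp hxC) y y.2
    · rintro ⟨y, hy, rfl⟩
      refine ⟨y.2, ?_⟩
      show L.subtype y ∈ centralizer (L : Set G)
      rw [Subgroup.mem_centralizer_iff]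
      intro h hh
      have := (Subgroup.mem_center_iff.mp hy) ⟨h, hh⟩
      exact congrArg Subtype.val this
  rw [h1, Subgroup.card_map_of_injective L.subtype_injective]
  exact card_center_of_equiv e

/-- The centraliser of a normal subgroup `L ≃ SL(2,5)`, `L` perfect, has index at most `120`. -/
theorem index_centralizer_le (L : Subgroup G) [L.Normal] (e : L ≃* SL25)
    (hperf : commutator L = ⊤) : (centralizer (L : Set G)).index ≤ 120 := by
  have hker : (MulAut.conjNormal : G →* MulAut L).ker = centralizer (L : Set G) := by
    ext g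
    rw [MonoidHom.mem_ker, Subgroup.mem_centralizer_iff]
    constructor
    · intro h x hx
      have h1 : (MulAut.conjNormal g : MulAut L) ⟨x, hx⟩ = ⟨x, hx⟩ := by rw [h]; rfl
      have h2 : g * x * g⁻¹ = x := by
        have := congrArg Subtype.val h1
        rwa [MulAut.conjNormal_apply] at this
      calc x * g = g * x * g⁻¹ * g := by rw [h2]
        _ = g * x := by group
    · intro h
      apply MulEquiv.ext
      intro x
      apply Subtype.ext
      rw [MulAut.conjNormal_apply]
      show g * x * g⁻¹ = x
      have := h x x.2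
      calc g * x * g⁻¹ = x * g * g⁻¹ := by rw [this]
        _ = x := by group
  rw [← hker, Subgroup.index_ker]
  have hfin : Finite (MulAut L) :=
    Finite.of_injective (fun φ : MulAut L => (φ : L → L)) DFunLike.coe_injective
  calc Nat.card (MulAut.conjNormal : G →* MulAut L).range ≤ Nat.card (MulAut L) :=
        Nat.card_le_card_of_injective _ Subtype.val_injective
    _ ≤ 120 := card_mulAut_le e hperf

end Cfsg.Agent.Lib.Helper97.FrobNS
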