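import Mathlib
import Cfsg.Agent.Lib.Helper97.FrobNS2

/-!
# Non-solvable Frobenius complements, part 3: the abstract structure theorem (main proof)
-/

set_option autoImplicit false
set_option linter.unusedSectionVars false

namespace Cfsg.Agent.Lib.Helper97.FrobNS

open Subgroup

variable {G : Type*} [Group G] [Finite G]

/-- The structure theorem in abstract form. -/
theorem Hyp.main (H : Hyp G) (hns : ¬ Group.IsSolvable G) :
    ∃ G₀ : Subgroup G, G₀.Normal ∧ (G₀.index = 1 ∨ G₀.index = 2) ∧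
      ∃ S M : Subgroup G, S ⊔ M = G₀ ∧ S ⊓ M = ⊥ ∧ (∀ s ∈ S, ∀ x ∈ M, s * x = x * s) ∧
        Nonempty (S ≃* SL25) ∧
        (∀ (p : ℕ) [Fact p.Prime] (P : Sylow p M), IsCyclic P) ∧ (Nat.card M).Coprime 30 := by
  classical
  obtain ⟨L, hLn, hL1, hLp⟩ := exists_perfect_normal hns
  obtain ⟨e⟩ := H.perfect L hLp hL1
  have hcardL : Nat.card L = 120 := card_of_equiv e
  have hperfL : commutator L = ⊤ := by
    apply Subgroup.map_injective L.subtype_injective
    rw [Subgroup.map_subtype_commutator, hLp, ← MonoidHom.range_eq_map, Subgroup.range_subtype]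
  set C : Subgroup G := centralizer (L : Set G) with hC
  have hCn : C.Normal := Subgroup.normal_centralizer
  have hLC : Nat.card ↥(L ⊓ C) = 2 := inf_centralizer_card L e
  have hCidx : C.index ≤ 120 := index_centralizer_le L e hperfL
  -- index of `L ⊔ C`
  have hidx : (L ⊔ C).index = 1 ∨ (L ⊔ C).index = 2 := by
    have h1 : C.relIndex (L ⊔ C) * (L ⊔ C).index = C.index :=
      Subgroup.relIndex_mul_index le_sup_right
    have h2 : C.relIndex (L ⊔ C) = C.relIndex L := Subgroup.relIndex_sup_right L C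
    have h3 : C.relIndex L = (L ⊓ C).relIndex L := by
      rw [inf_comm]; exact (Subgroup.inf_relIndex_right C L).symm
    have h4 : Nat.card ↥(L ⊓ C) * (L ⊓ C).relIndex L = Nat.card L :=
      card_mul_relIndex inf_le_left
    have h5 : (L ⊔ C).index ≠ 0 := Subgroup.index_ne_zero_of_finite
    rw [hLC, hcardL] at h4
    have h6 : (L ⊓ C).relIndex L = 60 := by omega
    rw [h2, h3, h6] at h1
    have h7 : (L ⊔ C).index ≤ 2 := by
      by_contra hcon
      push Not at hcon
      nlinarith
    omega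
  -- elements of `L` of order 3, 5 and 4
  have hex : ∀ p : ℕ, p.Prime → p ∣ 120 → ∃ x ∈ L, orderOf x = p := by
    intro p hp hdvd
    have : Fact p.Prime := ⟨hp⟩
    obtain ⟨x, hx⟩ := exists_prime_orderOf_dvd_card' (G := L) p (by rw [hcardL]; exact hdvd)
    exact ⟨x, x.2, by rw [Subgroup.orderOf_coe]; exact hx⟩
  obtain ⟨x3, hx3L, hx3⟩ := hex 3 (by norm_num) (by norm_num)
  obtain ⟨x5, hx5L, hx5⟩ := hex 5 (by norm_num) (by norm_num)
  obtain ⟨x4, hx4L, hx4⟩ : ∃ x ∈ L, orderOf x = 4 := by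
    have : Fact (Nat.Prime 2) := ⟨Nat.prime_two⟩
    obtain ⟨K, hK⟩ := Sylow.exists_subgroup_card_pow_prime (G := L) 2 (n := 2)
      (by rw [hcardL]; norm_num)
    have hK' : Nat.card (K.map L.subtype) = 4 := by
      rw [Subgroup.card_map_of_injective L.subtype_injective, hK]; norm_num
    obtain ⟨x, hx, hx4⟩ := H.exists_order_four _ hK'
    obtain ⟨y, -, rfl⟩ := hx
    exact ⟨y, y.2, hx4⟩
  -- the involution
  set z : G := x4 ^ 2 with hz
  have hz2 : orderOf z = 2 := by
    rw [hz, orderOf_pow' _ (by norm_num), hx4]; norm_num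
  have hzL : z ∈ L := L.pow_mem hx4L 2
  have hzC : z ∈ C := by
    rw [hC, Subgroup.mem_centralizer_iff]
    intro h _
    exact H.inv_central hz2 h
  -- elements of `L ⊓ C` have square one
  have hsq : ∀ c, c ∈ L → c ∈ C → c ^ 2 = 1 := fun c hcL hcC =>
    pow_two_eq_one_of_card hLC (Subgroup.mem_inf.mpr ⟨hcL, hcC⟩)
  -- no elements of order 3, 5, 4 in `C`
  have hno_p : ∀ p : ℕ, p.Prime → p ≠ 2 → p ∣ 120 → ∀ c ∈ C, orderOf c ≠ p := by
    intro p hp hp2 hdvd c hcC hcp
    obtain ⟨x, hxL, hxp⟩ := hex p hp hdvd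
    have hcomm : x * c = c * x := (Subgroup.mem_centralizer_iff.mp hcC) x hxL
    have hcx : c ∈ zpowers x := H.prime_comm p hp x c hcomm hxp hcp
    have hcL : c ∈ L := (Subgroup.zpowers_le.mpr hxL) hcx
    have h2 := hsq c hcL hcC
    have h3 : orderOf c ∣ 2 := orderOf_dvd_of_pow_eq_one h2
    rw [hcp] at h3
    exact hp2 ((Nat.prime_dvd_prime_iff_eq hp Nat.prime_two).mp h3)
  have hno_4 : ∀ c ∈ C, orderOf c ≠ 4 := by
    intro c hcC hc4
    have hcomm : x4 * c = c * x4 := (Subgroup.mem_centralizer_iff.mp hcC) x4 hx4L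
    have hc2 : orderOf (c ^ 2) = 2 := by rw [orderOf_pow' _ (by norm_num), hc4]; norm_num
    have heq : c ^ 2 = z := H.inv_unique _ _ hc2 hz2
    set y : G := c * x4⁻¹ with hy
    have hcomm' : Commute c x4⁻¹ := (Commute.inv_right (show Commute c x4 from hcomm.symm))
    have hy2 : y ^ 2 = 1 := by
      rw [hy, hcomm'.mul_pow, heq, hz, inv_pow, mul_inv_cancel]
    have hcL : c ∈ L := by
      have hdvd : orderOf y ∣ 2 := orderOf_dvd_of_pow_eq_one hy2
      rcases (Nat.dvd_prime Nat.prime_two).mp hdvd with h1 | h2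
      · have : y = 1 := orderOf_eq_one_iff.mp h1
        have hc : c = x4 := by
          have := mul_inv_eq_one.mp (hy ▸ this)
          exact this
        rw [hc]; exact hx4L
      · have : y = z := H.inv_unique _ _ h2 hz2
        have hc : c = z * x4 := by
          rw [← this, hy]; group
        rw [hc]; exact L.mul_mem hzL hx4L
    have h2 := hsq c hcL hcC
    have h3 : orderOf c ∣ 2 := orderOf_dvd_of_pow_eq_one h2
    rw [hc4] at h3
    omega
  -- arithmetic of `|C|`
  have hC3 : ¬ 3 ∣ Nat.card C := by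
    intro h
    have : Fact (Nat.Prime 3) := ⟨by norm_num⟩
    obtain ⟨c, hc⟩ := exists_prime_orderOf_dvd_card' (G := C) 3 h
    exact hno_p 3 (by norm_num) (by norm_num) (by norm_num) c c.2
      (by rw [Subgroup.orderOf_coe]; exact hc)
  have hC5 : ¬ 5 ∣ Nat.card C := by
    intro h
    have : Fact (Nat.Prime 5) := ⟨by norm_num⟩
    obtain ⟨c, hc⟩ := exists_prime_orderOf_dvd_card' (G := C) 5 h
    exact hno_p 5 (by norm_num) (by norm_num) (by norm_num) c c.2
      (by rw [Subgroup.orderOf_coe]; exact hc)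
  have hC4 : ¬ 4 ∣ Nat.card C := by
    intro h
    have : Fact (Nat.Prime 2) := ⟨Nat.prime_two⟩
    obtain ⟨K, hK⟩ := Sylow.exists_subgroup_card_pow_prime (G := C) 2 (n := 2) (by simpa using h)
    have hK' : Nat.card (K.map C.subtype) = 4 := by
      rw [Subgroup.card_map_of_injective C.subtype_injective, hK]; norm_num
    obtain ⟨x, hx, hx4'⟩ := H.exists_order_four _ hK'
    obtain ⟨y, -, rfl⟩ := hx
    exact hno_4 y y.2 hx4'
  have hC2 : 2 ∣ Nat.card C := by
    have := Subgroup.orderOf_dvd_natCard C hzC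
    rwa [hz2] at this
  -- the complement `M` of `⟨z⟩` in `C`
  let z' : C := ⟨z, hzC⟩
  have hz'2 : orderOf z' = 2 := by rw [← Subgroup.orderOf_coe]; exact hz2
  have hz'c : ∀ g : C, g * z' = z' * g := fun g => Subtype.ext (H.inv_central hz2 g)
  have hNn : (zpowers z').Normal := by
    refine ⟨fun n hn g => ?_⟩
    obtain ⟨k, rfl⟩ := Subgroup.mem_zpowers_iff.mp hn
    have hcomm : Commute g (z' ^ k) := (Commute.zpow_right (hz'c g) k)
    rw [hcomm.eq, mul_inv_cancel_right]
    exact Subgroup.zpow_mem_zpowers z' k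
  have hNcard : Nat.card (zpowers z') = 2 := by rw [Nat.card_zpowers, hz'2]
  have hNidx : Nat.card (zpowers z') * (zpowers z').index = Nat.card C :=
    Subgroup.card_mul_index _
  have hcop : (Nat.card (zpowers z')).Coprime (zpowers z').index := by
    rw [hNcard] at hNidx ⊢
    rw [Nat.coprime_two_left, ← Nat.not_even_iff_odd]
    intro hev
    obtain ⟨r, hr⟩ := hev
    apply hC4
    rw [← hNidx, hr]
    exact ⟨r, by ring⟩
  obtain ⟨M', hM'⟩ := Subgroup.exists_left_complement'_of_coprime hcop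
  have hM'card : Nat.card M' * 2 = Nat.card C := by
    have := hM'.card_mul_card
    rwa [hNcard] at this
  set M : Subgroup G := M'.map C.subtype with hM
  have hMcard : Nat.card M = Nat.card M' :=
    Subgroup.card_map_of_injective C.subtype_injective
  have hMC : M ≤ C := by
    rintro _ ⟨y, -, rfl⟩
    exact y.2
  have hModd : ¬ 2 ∣ Nat.card M := by
    intro h
    obtain ⟨r, hr⟩ := h
    apply hC4
    rw [← hM'card, ← hMcard, hr]
    exact ⟨r, by ring⟩
  have hM3 : ¬ 3 ∣ Nat.card M := fun h => hC3 (by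
    rw [← hM'card, ← hMcard]; exact Dvd.dvd.mul_right h 2)
  have hM5 : ¬ 5 ∣ Nat.card M := fun h => hC5 (by
    rw [← hM'card, ← hMcard]; exact Dvd.dvd.mul_right h 2)
  have hM30 : (Nat.card M).Coprime 30 := by
    have h2 : Nat.Coprime (Nat.card M) 2 :=
      ((Nat.Prime.coprime_iff_not_dvd Nat.prime_two).mpr hModd).symm
    have h3 : Nat.Coprime (Nat.card M) 3 :=
      ((Nat.Prime.coprime_iff_not_dvd (by norm_num)).mpr hM3).symm
    have h5 : Nat.Coprime (Nat.card M) 5 :=
      ((Nat.Prime.coprime_iff_not_dvd (by norm_num)).mpr hM5).symm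
    have : (30 : ℕ) = 2 * 3 * 5 := by norm_num
    rw [this]
    exact (h2.mul_right h3).mul_right h5
  -- `L ⊓ M = ⊥`
  have hLM : L ⊓ M = ⊥ := by
    rw [eq_bot_iff]
    rintro x ⟨hxL, hxM⟩
    rw [Subgroup.mem_bot]
    have h2 := hsq x hxL (hMC hxM)
    have h3 : orderOf x ∣ 2 := orderOf_dvd_of_pow_eq_one h2
    have h4 : orderOf x ∣ Nat.card M := Subgroup.orderOf_dvd_natCard M hxM
    rcases (Nat.dvd_prime Nat.prime_two).mp h3 with h1 | h2'
    · exact orderOf_eq_one_iff.mp h1
    · exact absurd (h2' ▸ h4) hModd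
  -- `L ⊔ M = L ⊔ C`
  have hsup : L ⊔ M = L ⊔ C := by
    apply le_antisymm (sup_le_sup_left hMC L)
    apply sup_le le_sup_left
    have h1 : (M' ⊔ zpowers z').map C.subtype = C := by
      rw [hM'.sup_eq_top, ← MonoidHom.range_eq_map, Subgroup.range_subtype]
    rw [← h1, Subgroup.map_sup]
    apply sup_le le_sup_right
    apply le_trans _ (le_sup_left : L ≤ L ⊔ M)
    rw [MonoidHom.map_zpowers]
    exact Subgroup.zpowers_le.mpr hzL
  refine ⟨L ⊔ C, inferInstance, hidx, L, M, hsup, hLM, ?_, ⟨e⟩, ?_, hM30⟩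
  · intro s hs x hx
    exact (Subgroup.mem_centralizer_iff.mp (hMC hx)) s hs
  · intro p hp P
    by_cases hp2 : p = 2
    · subst hp2
      have h1 : Nat.card P ∣ Nat.card M := Subgroup.card_subgroup_dvd_card _
      obtain ⟨k, hk⟩ := (P.isPGroup'.exists_card_eq)
      have hk0 : k = 0 := by
        by_contra hk0
        apply hModd
        rw [hk] at h1
        exact dvd_trans (dvd_pow_self 2 hk0) h1
      rw [hk0, pow_zero] at hk
      have : Subsingleton P := (Nat.card_eq_one_iff_unique.mp hk).1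
      exact isCyclic_of_subsingleton
    · have hpg : IsPGroup p ((P : Subgroup M).map M.subtype) := P.isPGroup'.map _
      have hcyc := H.sylow_cyclic p hp.out hp2 _ hpg
      exact isCyclic_of_surjective ((P : Subgroup M).equivMapOfInjective M.subtype
        M.subtype_injective).symm.toMonoidHom
        ((P : Subgroup M).equivMapOfInjective M.subtype M.subtype_injective).symm.surjective

end Cfsg.Agent.Lib.Helper97.FrobNS
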