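import Mathlib
import Cfsg.Agent.S0253
import Cfsg.Agent.S2119
import Cfsg.Agent.Lib.Helper97.FrobNS3
import Cfsg.Agent.Lib.Helper97.FC3
import Cfsg.Agent.Lib.Helper97.FC4

/-!
# Frobenius complements and the six quotient types, part 7: the non-solvable case
-/

set_option autoImplicit false
set_option linter.unusedSectionVars false
set_option linter.style.haveILetI false
set_option linter.deprecated false

namespace Cfsg.Agent.Lib.Helper97.FC

open Subgroup Cfsg.Agent.Lib.Helper97.FrobNS

section QuotAut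

variable {S : Type*} [Group S]

/-- `quotAut` as a homomorphism. -/
noncomputable def quotAutHom : MulAut S →* MulAut (S ⧸ center S) where
  toFun := quotAut
  map_one' := by
    apply MulEquiv.ext
    intro x
    obtain ⟨y, rfl⟩ := QuotientGroup.mk_surjective x
    rfl
  map_mul' := fun φ ψ => by
    apply MulEquiv.ext
    intro x
    obtain ⟨y, rfl⟩ := QuotientGroup.mk_surjective x
    rfl

end QuotAut

variable {G : Type*} [Group G] [Finite G]

/-- The data of the structure theorem: a normal `L ≃ SL(2,5)` whose centralizer has index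
`60` or `120` and order not divisible by four. -/
theorem hyp_main_data (H : Hyp G) (hns : ¬ Group.IsSolvable G) :
    ∃ L : Subgroup G, L.Normal ∧ Nonempty (L ≃* SL25) ∧ commutator L = ⊤ ∧
      ((centralizer (L : Set G)).index = 60 ∨ (centralizer (L : Set G)).index = 120) ∧
      ¬ 4 ∣ Nat.card (centralizer (L : Set G)) := by
  classical
  obtain ⟨L, hLn, hL1, hLp⟩ := exists_perfect_normal hns
  obtain ⟨e⟩ := H.perfect L hLp hL1
  have hcardL : Nat.card L = 120 := card_of_equiv e
  have hperfL : commutator L = ⊤ := by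
    apply Subgroup.map_injective L.subtype_injective
    rw [Subgroup.map_subtype_commutator, hLp, ← MonoidHom.range_eq_map, Subgroup.range_subtype]
  set C : Subgroup G := centralizer (L : Set G) with hC
  have hCn : C.Normal := Subgroup.normal_centralizer
  have hLC : Nat.card ↥(L ⊓ C) = 2 := inf_centralizer_card L e
  have hCidx : C.index ≤ 120 := index_centralizer_le L e hperfL
  have hidx : C.index = 60 ∨ C.index = 120 := by
    have h1 : C.relIndex (L ⊔ C) * (L ⊔ C).index = C.index :=
      Subgroup.relIndex_mul_index le_sup_right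
    have h2 : C.relIndex (L ⊔ C) = C.relIndex L := Subgroup.relIndex_sup_right L C
    have h3 : C.relIndex L = (L ⊓ C).relIndex L := by
      rw [inf_comm]; exact (Subgroup.inf_relIndex_right C L).symm
    have h4 : Nat.card ↥(L ⊓ C) * (L ⊓ C).relIndex L = Nat.card L :=
      card_mul_relIndex inf_le_left
    have h5 : (L ⊔ C).index ≠ 0 := Subgroup.index_ne_zero_of_finite
    rw [hLC, hcardL] at h4
    have h6 : (L ⊓ C).relIndex L = 60 := by omega
    rw [h2, h3, h6] at h1
    have h7 : (L ⊔ C).index ≤ 2 := by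
      by_contra hcon
      push Not at hcon
      nlinarith
    have h8 : (L ⊔ C).index = 1 ∨ (L ⊔ C).index = 2 := by omega
    rcases h8 with h | h <;> rw [h] at h1 <;> omega
  obtain ⟨x4, hx4L, hx4⟩ : ∃ x ∈ L, orderOf x = 4 := by
    have : Fact (Nat.Prime 2) := ⟨Nat.prime_two⟩
    obtain ⟨K, hK⟩ := Sylow.exists_subgroup_card_pow_prime (G := L) 2 (n := 2)
      (by rw [hcardL]; norm_num)
    have hK' : Nat.card (K.map L.subtype) = 4 := by
      rw [Subgroup.card_map_of_injective L.subtype_injective, hK]; norm_num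
    obtain ⟨x, hx, hx4⟩ := H.exists_order_four _ hK'
    obtain ⟨y, -, rfl⟩ := hx
    exact ⟨y, y.2, hx4⟩
  set z : G := x4 ^ 2 with hz
  have hz2 : orderOf z = 2 := by
    rw [hz, orderOf_pow' _ (by norm_num), hx4]; norm_num
  have hzL : z ∈ L := L.pow_mem hx4L 2
  have hsq : ∀ c, c ∈ L → c ∈ C → c ^ 2 = 1 := fun c hcL hcC =>
    pow_two_eq_one_of_card hLC (Subgroup.mem_inf.mpr ⟨hcL, hcC⟩)
  have hno_4 : ∀ c ∈ C, orderOf c ≠ 4 := by
    intro c hcC hc4
    have hcomm : x4 * c = c * x4 := (Subgroup.mem_centralizer_iff.mp hcC) x4 hx4L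
    have hc2 : orderOf (c ^ 2) = 2 := by rw [orderOf_pow' _ (by norm_num), hc4]; norm_num
    have heq : c ^ 2 = z := H.inv_unique _ _ hc2 hz2
    set y : G := c * x4⁻¹ with hy
    have hcomm' : Commute c x4⁻¹ := (Commute.inv_right (show Commute c x4 from hcomm.symm))
    have hy2 : y ^ 2 = 1 := by
      rw [hy, hcomm'.mul_pow, heq, hz, inv_pow, mul_inv_cancel]
    have hcL : c ∈ L := by
      have hdvd : orderOf y ∣ 2 := orderOf_dvd_of_pow_eq_one hy2
      rcases (Nat.dvd_prime Nat.prime_two).mp hdvd with h1 | h2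
      · have : y = 1 := orderOf_eq_one_iff.mp h1
        have hc : c = x4 := by
          have := mul_inv_eq_one.mp (hy ▸ this)
          exact this
        rw [hc]; exact hx4L
      · have : y = z := H.inv_unique _ _ h2 hz2
        have hc : c = z * x4 := by
          rw [← this, hy]; group
        rw [hc]; exact L.mul_mem hzL hx4L
    have h2 := hsq c hcL hcC
    have h3 : orderOf c ∣ 2 := orderOf_dvd_of_pow_eq_one h2
    rw [hc4] at h3
    omega
  have hC4 : ¬ 4 ∣ Nat.card C := by
    intro h
    have : Fact (Nat.Prime 2) := ⟨Nat.prime_two⟩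
    obtain ⟨K, hK⟩ := Sylow.exists_subgroup_card_pow_prime (G := C) 2 (n := 2) (by simpa using h)
    have hK' : Nat.card (K.map C.subtype) = 4 := by
      rw [Subgroup.card_map_of_injective C.subtype_injective, hK]; norm_num
    obtain ⟨x, hx, hx4'⟩ := H.exists_order_four _ hK'
    obtain ⟨y, -, rfl⟩ := hx
    exact hno_4 y y.2 hx4'
  exact ⟨L, hLn, ⟨e⟩, hperfL, hidx, hC4⟩

set_option maxHeartbeats 800000 in
/-- The non-solvable case. -/
theorem nonsolv_case (H : Hyp G) (hns : ¬ Group.IsSolvable G) :
    ∃ N : Subgroup G, N.Normal ∧ AllPCyc N ∧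
      ((∃ f : G →* alternatingGroup (Fin 5), Function.Surjective f ∧ f.ker = N) ∨
       (∃ f : G →* Equiv.Perm (Fin 5), Function.Surjective f ∧ f.ker = N)) := by
  classical
  obtain ⟨L, hLn, ⟨e⟩, hperfL, hidx, hC4⟩ := hyp_main_data H hns
  haveI := hLn
  set C : Subgroup G := centralizer (L : Set G) with hC
  have hCn : C.Normal := Subgroup.normal_centralizer
  have hCc : AllPCyc C := by
    intro p hp T hT hTp
    by_cases hp2 : p = 2
    · subst hp2
      obtain ⟨k, hk⟩ := hTp.exists_card_eq
      have hdvd : Nat.card T ∣ Nat.card C := Subgroup.card_dvd_of_le hT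
      have hk1 : k ≤ 1 := by
        by_contra hcon
        push Not at hcon
        apply hC4
        refine dvd_trans ?_ hdvd
        rw [hk]
        exact pow_dvd_pow 2 hcon
      interval_cases k
      · rw [pow_zero] at hk
        haveI : Subsingleton T := (Nat.card_eq_one_iff_unique.mp hk).1
        exact isCyclic_of_subsingleton
      · rw [pow_one] at hk
        haveI : Fact (Nat.Prime 2) := ⟨Nat.prime_two⟩
        exact isCyclic_of_prime_card hk
    · exact H.sylow_cyclic p hp hp2 T hTp
  haveI : Fact (Nat.Prime 5) := ⟨by norm_num⟩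
  let ψ₀ : (L ⧸ center L) ≃* Matrix.ProjectiveSpecialLinearGroup (Fin 2) (ZMod 5) :=
    QuotientGroup.congr (center L) (center SL25) e (map_center_mulEquiv e)
  obtain ⟨ψ₁⟩ := Cfsg.Agent.S0253.result (F := ZMod 5) (by simp [ZMod.card])
  let ψ : (L ⧸ center L) ≃* alternatingGroup (Fin 5) := ψ₀.trans ψ₁
  let κ : Equiv.Perm (Fin 5) ≃* MulAut (alternatingGroup (Fin 5)) :=
    MulEquiv.ofBijective MulAut.conjNormal
      (Cfsg.Agent.S2119.result 5 (by norm_num) (by norm_num))
  let θ : G →* MulAut L := MulAut.conjNormal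
  let f₁ : G →* MulAut (L ⧸ center L) := quotAutHom.comp θ
  let f₂ : G →* MulAut (alternatingGroup (Fin 5)) :=
    ((MulAut.congr ψ : MulAut (L ⧸ center L) ≃* MulAut (alternatingGroup (Fin 5))) :
      MulAut (L ⧸ center L) →* MulAut (alternatingGroup (Fin 5))).comp f₁
  let f₀ : G →* Equiv.Perm (Fin 5) :=
    (κ.symm : MulAut (alternatingGroup (Fin 5)) →* Equiv.Perm (Fin 5)).comp f₂
  have hker : f₀.ker = C := by
    have h1 : f₀.ker = f₂.ker := MonoidHom.ker_mulEquiv_comp f₂ κ.symm
    have h2 : f₂.ker = f₁.ker := MonoidHom.ker_mulEquiv_comp f₁ (MulAut.congr ψ)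
    have h3 : f₁.ker = θ.ker :=
      MonoidHom.ker_comp_of_injective θ quotAutHom (quotAut_injective hperfL)
    rw [h1, h2, h3]
    exact ker_conjNormal L
  have hrange : Nat.card f₀.range = C.index := by
    rw [← hker, Subgroup.index_ker]
  refine ⟨C, hCn, hCc, ?_⟩
  rcases hidx with h60 | h120
  · left
    have hidx2 : f₀.range.index = 2 := by
      have := Subgroup.card_mul_index f₀.range
      rw [hrange, h60, card_S5] at this
      omega
    have hra : f₀.range = alternatingGroup (Fin 5) :=
      Equiv.Perm.eq_alternatingGroup_of_index_eq_two hidx2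
    have hmem : ∀ g : G, f₀ g ∈ alternatingGroup (Fin 5) := by
      intro g
      rw [← hra]
      exact ⟨g, rfl⟩
    refine ⟨f₀.codRestrict (alternatingGroup (Fin 5)) hmem, ?_, ?_⟩
    · rintro ⟨y, hy⟩
      rw [← hra] at hy
      obtain ⟨g, rfl⟩ := hy
      exact ⟨g, rfl⟩
    · rw [MonoidHom.ker_codRestrict, hker]
  · right
    refine ⟨f₀, ?_, hker⟩
    rw [← MonoidHom.range_eq_top]
    apply (Subgroup.card_eq_iff_eq_top _).mp
    rw [hrange, h120, card_S5]

end Cfsg.Agent.Lib.Helper97.FC
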