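import Mathlib
import Cfsg.Agent.S0033
import Cfsg.Agent.S0041

/-!
# Solvable Frobenius complements, part 1: subgroups of order `pq` are cyclic
-/

set_option autoImplicit false
set_option linter.unusedSectionVars false
set_option linter.style.haveILetI false

namespace Cfsg.Agent.Lib.Helper97.FC

open Subgroup

variable {G : Type*} [Group G] [Finite G] {𝔏 : Type} [Group 𝔏] [Finite 𝔏]
  (N H : Subgroup 𝔏) [N.Normal]

/-- In a Frobenius complement, subgroups whose order is a product of two primes are cyclic. -/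
theorem pq_cyclic_of_frob (hN : N ≠ ⊥)
    (hfpf : ∀ h ∈ H, h ≠ 1 → N ⊓ centralizer {h} = ⊥) (e : G ≃* H)
    (A : Subgroup G) (p q : ℕ) (hp : p.Prime) (hq : q.Prime) (hA : Nat.card A = p * q) :
    IsCyclic A := by
  classical
  haveI : Fact p.Prime := ⟨hp⟩
  let ι : G →* 𝔏 := H.subtype.comp e.toMonoidHom
  have hι : Function.Injective ι := H.subtype_injective.comp e.injective
  have hιH : ∀ g : G, ι g ∈ H := fun g => (e g).2
  set A' : Subgroup 𝔏 := A.map ι with hA'
  have hA'card : Nat.card A' = p * q := by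
    rw [hA', Subgroup.card_map_of_injective hι, hA]
  have hA'H : A' ≤ H := by
    rintro _ ⟨g, -, rfl⟩
    exact hιH g
  -- an element of order `p`
  obtain ⟨a, ha⟩ := exists_prime_orderOf_dvd_card' (G := A') p (by rw [hA'card]; exact dvd_mul_right p q)
  set h : 𝔏 := (a : 𝔏) with hh
  have hhord : orderOf h = p := by rw [hh, Subgroup.orderOf_coe]; exact ha
  have hhH : h ∈ H := hA'H a.2
  have hh1 : h ≠ 1 := by
    intro h1
    rw [h1, orderOf_one] at hhord
    exact hp.one_lt.ne hhord
  -- the kernel is nilpotent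
  let φ : N ≃* N := MulAut.conjNormal h
  have hφfpf : MonoidHom.FixedPointFree (φ : N →* N) := by
    intro k hk
    have h1 : h * k * h⁻¹ = k := by
      have := congrArg Subtype.val hk
      rwa [MonoidHom.coe_coe, MulAut.conjNormal_apply] at this
    have hmem : (k : 𝔏) ∈ N ⊓ centralizer {h} := by
      refine Subgroup.mem_inf.mpr ⟨k.2, ?_⟩
      rw [Subgroup.mem_centralizer_iff]
      intro y hy
      rw [Set.mem_singleton_iff.mp hy]
      calc h * k = h * k * h⁻¹ * h := by group
        _ = k * h := by rw [h1]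
    rw [hfpf h hhH hh1, Subgroup.mem_bot] at hmem
    exact Subtype.ext hmem
  have hφord : orderOf φ = p := by
    apply orderOf_eq_prime
    · show (MulAut.conjNormal h : MulAut N) ^ p = 1
      rw [← map_pow, ← hhord, pow_orderOf_eq_one, map_one]
    · intro h1
      apply hN
      rw [eq_bot_iff]
      intro k hk
      rw [Subgroup.mem_bot]
      have := hφfpf ⟨k, hk⟩ (by rw [h1]; rfl)
      exact congrArg Subtype.val this
  have hnil : Group.IsNilpotent N := Cfsg.Agent.S0033.result φ hφfpf p hp hφord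
  haveI : Nontrivial N := (Subgroup.nontrivial_iff_ne_bot N).mpr hN
  haveI := hnil
  have hZ : center N ≠ ⊥ := Group.IsNilpotent.center_ne_bot N
  set V : Subgroup 𝔏 := (center N).map N.subtype with hV
  have hVN : V ≤ N := by
    rintro _ ⟨y, -, rfl⟩
    exact y.2
  haveI hVc : IsMulCommutative V := by
    refine ⟨⟨fun a b => ?_⟩⟩
    obtain ⟨_, ⟨x, hx, rfl⟩⟩ := a
    obtain ⟨_, ⟨y, hy, rfl⟩⟩ := b
    apply Subtype.ext
    show N.subtype x * N.subtype y = N.subtype y * N.subtype x
    rw [← map_mul, ← map_mul, (Subgroup.mem_center_iff.mp hx y)]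
  have hVne : V ≠ ⊥ := by
    intro h0
    apply hZ
    exact (Subgroup.map_eq_bot_iff_of_injective _ N.subtype_injective).mp h0
  haveI hVn : V.Normal := ConjAct.normal_of_characteristic_of_normal
  have hAV : A' ≤ normalizer (V : Set 𝔏) := by
    rw [Subgroup.normalizer_eq_top]; exact le_top
  have hfpf' : ∀ a ∈ A', a ≠ 1 → V ⊓ centralizer {a} = ⊥ := by
    intro a haA ha1
    rw [eq_bot_iff, ← hfpf a (hA'H haA) ha1]
    exact inf_le_inf_right _ hVN
  have hcyc : IsCyclic A' :=
    Cfsg.Agent.S0041.result A' V hVne hAV hfpf' (Or.inr ⟨p, q, hp, hq, hA'card⟩)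
  exact isCyclic_of_surjective (A.equivMapOfInjective ι hι).symm.toMonoidHom
    (A.equivMapOfInjective ι hι).symm.surjective

end Cfsg.Agent.Lib.Helper97.FC
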