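import Mathlib
import Cfsg.Agent.S3379

/-!
# Solvable Frobenius complements, part 2: the metacyclic presentation
-/

set_option autoImplicit false
set_option linter.unusedSectionVars false
set_option linter.style.haveILetI false

namespace Cfsg.Agent.Lib.Helper97.FC

open Subgroup

/-- The subgroup generated by `X`, `Y` with `X ^ n = 1`, `Y ^ m = 1`, `X⁻¹ Y X = Y ^ r` has at
most `n * m` elements. -/
theorem card_closure_le_of_rel {P : Type*} [Group P] (X Y : P) (n m r : ℕ) (hn : 0 < n)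
    (hm : 0 < m) (hX : X ^ n = 1) (hY : Y ^ m = 1) (hrel : X⁻¹ * Y * X = Y ^ r) :
    Finite (closure ({X, Y} : Set P)) ∧ Nat.card (closure ({X, Y} : Set P)) ≤ n * m := by
  have hXinv : X⁻¹ = X ^ (n - 1) := by
    apply inv_eq_of_mul_eq_one_left
    rw [← pow_succ, Nat.sub_add_cancel hn, hX]
  have hYinv : Y⁻¹ = Y ^ (m - 1) := by
    apply inv_eq_of_mul_eq_one_left
    rw [← pow_succ, Nat.sub_add_cancel hm, hY]
  have hconj : ∀ i k : ℕ, Y ^ k * X ^ i = X ^ i * (Y ^ (r ^ i)) ^ k := by
    intro i k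
    have h1 := Cfsg.Agent.S3379.conj_pow_aux X Y r hrel i
    have h2 : (X ^ i)⁻¹ * Y ^ k * X ^ i = (Y ^ (r ^ i)) ^ k := by
      rw [← h1]
      have := conj_pow (a := (X ^ i)⁻¹) (b := Y) (i := k)
      rw [inv_inv] at this
      exact this.symm
    rw [← h2]; group
  have key : ∀ g ∈ closure ({X, Y} : Set P), ∃ i j : ℕ, g = X ^ i * Y ^ j := by
    intro g hg
    induction hg using Subgroup.closure_induction_left with
    | one => exact ⟨0, 0, by simp⟩
    | mul_left x hx y _ ih =>
      obtain ⟨i, j, rfl⟩ := ih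
      rcases hx with rfl | rfl
      · exact ⟨i + 1, j, by rw [pow_succ']; group⟩
      · refine ⟨i, r ^ i + j, ?_⟩
        have := hconj i 1
        rw [pow_one, pow_one] at this
        rw [← mul_assoc, this, pow_add, mul_assoc]
    | inv_mul_cancel x hx y _ ih =>
      obtain ⟨i, j, rfl⟩ := ih
      rcases hx with rfl | rfl
      · exact ⟨n - 1 + i, j, by rw [hXinv, pow_add]; group⟩
      · refine ⟨i, r ^ i * (m - 1) + j, ?_⟩
        rw [hYinv, ← mul_assoc, hconj i (m - 1), pow_add, ← pow_mul, mul_assoc]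
  have hXmem : X ∈ closure ({X, Y} : Set P) := subset_closure (by simp)
  have hYmem : Y ∈ closure ({X, Y} : Set P) := subset_closure (by simp)
  let F : Fin n × Fin m → closure ({X, Y} : Set P) := fun p =>
    ⟨X ^ (p.1 : ℕ) * Y ^ (p.2 : ℕ), mul_mem (pow_mem hXmem _) (pow_mem hYmem _)⟩
  have hsurj : Function.Surjective F := by
    rintro ⟨g, hg⟩
    obtain ⟨i, j, rfl⟩ := key g hg
    refine ⟨(⟨i % n, Nat.mod_lt _ hn⟩, ⟨j % m, Nat.mod_lt _ hm⟩), ?_⟩
    apply Subtype.ext
    show X ^ (i % n) * Y ^ (j % m) = X ^ i * Y ^ j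
    rw [← pow_eq_pow_mod i hX, ← pow_eq_pow_mod j hY]
  have hfin : Finite (closure ({X, Y} : Set P)) := Finite.of_surjective F hsurj
  refine ⟨hfin, ?_⟩
  have := Nat.card_le_card_of_surjective F hsurj
  simpa using this

/-- A group generated by `X`, `Y` with `X ^ n = 1`, `Y ^ m = 1`, `X⁻¹ Y X = Y ^ r` has at most
`n * m` elements. -/
theorem card_le_of_rel {P : Type*} [Group P] (X Y : P) (n m r : ℕ) (hn : 0 < n) (hm : 0 < m)
    (hX : X ^ n = 1) (hY : Y ^ m = 1) (hrel : X⁻¹ * Y * X = Y ^ r)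
    (hgen : closure {X, Y} = ⊤) : Finite P ∧ Nat.card P ≤ n * m := by
  obtain ⟨h1, h2⟩ := card_closure_le_of_rel X Y n m r hn hm hX hY hrel
  rw [hgen] at h1 h2
  have e : (⊤ : Subgroup P) ≃ P := Subgroup.topEquiv.toEquiv
  refine ⟨Finite.of_equiv _ e, ?_⟩
  rw [← Nat.card_congr e]
  exact h2

/-- The relators of the metacyclic presentation. -/
def metaRels (n m r : ℕ) : Set (FreeGroup (Fin 2)) :=
  ({FreeGroup.of (0 : Fin 2) ^ n, FreeGroup.of (1 : Fin 2) ^ m,
    (FreeGroup.of (0 : Fin 2))⁻¹ * FreeGroup.of 1 * FreeGroup.of 0 *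
      (FreeGroup.of (1 : Fin 2) ^ r)⁻¹} : Set (FreeGroup (Fin 2)))

/-- A finite group generated by `x` of order `n` and `y` of order `m`, `n` and `m` coprime,
with `x⁻¹ y x = y ^ r`, has the metacyclic presentation. -/
theorem presented_iso {W : Type*} [Group W] [Finite W] (x y : W) (n m r : ℕ)
    (hgen : closure {x, y} = ⊤) (hx : orderOf x = n) (hy : orderOf y = m)
    (hrel : x⁻¹ * y * x = y ^ r) (hcop : Nat.Coprime n m) :
    Nonempty (W ≃* PresentedGroup (metaRels n m r)) := by
  have hn : 0 < n := hx ▸ orderOf_pos x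
  have hm : 0 < m := hy ▸ orderOf_pos y
  let gens : Fin 2 → W := ![x, y]
  have hrels : ∀ w ∈ metaRels n m r, FreeGroup.lift gens w = 1 := by
    intro w hw
    rcases hw with rfl | rfl | rfl
    · simp [gens, ← hx, pow_orderOf_eq_one]
    · simp [gens, ← hy, pow_orderOf_eq_one]
    · simp [gens, hrel]
  let φ : PresentedGroup (metaRels n m r) →* W := PresentedGroup.toGroup hrels
  have hφX : φ (PresentedGroup.of 0) = x := PresentedGroup.toGroup.of hrels
  have hφY : φ (PresentedGroup.of 1) = y := PresentedGroup.toGroup.of hrels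
  have hφs : Function.Surjective φ := by
    rw [← MonoidHom.range_eq_top, eq_top_iff, ← hgen, closure_le]
    rintro g (rfl | rfl)
    · exact ⟨_, hφX⟩
    · exact ⟨_, hφY⟩
  -- relations in the presented group
  set X : PresentedGroup (metaRels n m r) := PresentedGroup.of 0 with hXdef
  set Y : PresentedGroup (metaRels n m r) := PresentedGroup.of 1 with hYdef
  have hXn : X ^ n = 1 := by
    have h1 : PresentedGroup.mk (metaRels n m r) (FreeGroup.of (0 : Fin 2) ^ n) = 1 :=
      PresentedGroup.one_of_mem (Or.inl rfl)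
    rwa [map_pow] at h1
  have hYm : Y ^ m = 1 := by
    have h1 : PresentedGroup.mk (metaRels n m r) (FreeGroup.of (1 : Fin 2) ^ m) = 1 :=
      PresentedGroup.one_of_mem (Or.inr (Or.inl rfl))
    rwa [map_pow] at h1
  have hXY : X⁻¹ * Y * X = Y ^ r := by
    have h1 : PresentedGroup.mk (metaRels n m r) ((FreeGroup.of (0 : Fin 2))⁻¹ * FreeGroup.of 1 *
        FreeGroup.of 0 * (FreeGroup.of (1 : Fin 2) ^ r)⁻¹) = 1 :=
      PresentedGroup.one_of_mem (Or.inr (Or.inr rfl))
    rw [map_mul, map_mul, map_mul, map_inv, map_inv, map_pow] at h1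
    exact mul_inv_eq_one.mp h1
  have hgenP : closure ({X, Y} : Set (PresentedGroup (metaRels n m r))) = ⊤ := by
    rw [← PresentedGroup.closure_range_of (metaRels n m r)]
    congr 1
    ext g
    constructor
    · rintro (rfl | rfl)
      · exact ⟨0, rfl⟩
      · exact ⟨1, rfl⟩
    · rintro ⟨i, rfl⟩
      fin_cases i
      · exact Or.inl rfl
      · exact Or.inr rfl
  obtain ⟨hfinP, hcardP⟩ := card_le_of_rel X Y n m r hn hm hXn hYm hXY hgenP
  -- the order of `W`
  have hW : n * m ≤ Nat.card W := by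
    have h1 : n ∣ Nat.card W := hx ▸ orderOf_dvd_natCard x
    have h2 : m ∣ Nat.card W := hy ▸ orderOf_dvd_natCard y
    exact Nat.le_of_dvd Nat.card_pos (hcop.mul_dvd_of_dvd_of_dvd h1 h2)
  have hbij : Function.Bijective φ :=
    Function.Surjective.bijective_of_nat_card_le hφs (hcardP.trans hW)
  exact ⟨(MulEquiv.ofBijective φ hbij).symm⟩

end Cfsg.Agent.Lib.Helper97.FC
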