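import Mathlib
import Cfsg.Agent.Lib.Helper97.FP2

/-!
# Solvable Frobenius complements, part 3: the condition `r ^ (n / rad n) ≡ 1 (mod m)`
-/

set_option autoImplicit false
set_option linter.unusedSectionVars false
set_option linter.style.haveILetI false

namespace Cfsg.Agent.Lib.Helper97.FC

open Subgroup

/-- If `s ^ p ≡ 1 (mod m)`, `p ∤ m` and `s ≡ 1` modulo every prime divisor of `m`, then
`s ≡ 1 (mod m)`. -/
theorem modEq_one_of_pow (s m p : ℕ) (hp : p.Prime) (hpm : ¬ p ∣ m) (hsp : s ^ p ≡ 1 [MOD m])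
    (hq : ∀ q : ℕ, q.Prime → q ∣ m → s ≡ 1 [MOD q]) : s ≡ 1 [MOD m] := by
  set g : ℕ := ∑ i ∈ Finset.range p, s ^ i with hg
  have hcop : Nat.Coprime m g := by
    apply Nat.coprime_of_dvd
    intro q hqp hqm hqg
    haveI : Fact q.Prime := ⟨hqp⟩
    have h1 : ((s : ℕ) : ZMod q) = 1 := by
      have := (ZMod.natCast_eq_natCast_iff s 1 q).mpr (hq q hqp hqm)
      simpa using this
    have h2 : ((g : ℕ) : ZMod q) = (p : ZMod q) := by
      rw [hg]
      push_cast
      rw [h1]
      simp
    have h3 : ((g : ℕ) : ZMod q) = 0 := (ZMod.natCast_eq_zero_iff g q).mpr hqg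
    rw [h2] at h3
    have h4 : q ∣ p := (ZMod.natCast_eq_zero_iff p q).mp h3
    have h5 : q = p := (Nat.prime_dvd_prime_iff_eq hqp hp).mp h4
    exact hpm (h5 ▸ hqm)
  have hdvd : (m : ℤ) ∣ ((s : ℤ) - 1) * (g : ℤ) := by
    have h1 : ((s : ℤ) - 1) * (g : ℤ) = (s : ℤ) ^ p - 1 := by
      rw [hg]
      push_cast
      exact mul_geom_sum (s : ℤ) p
    rw [h1]
    have := (Nat.modEq_iff_dvd.mp hsp.symm)
    simpa using this
  have hcop' : IsCoprime (m : ℤ) (g : ℤ) := Nat.isCoprime_iff_coprime.mpr hcop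
  have h2 : (m : ℤ) ∣ (s : ℤ) - 1 := hcop'.dvd_of_dvd_mul_right hdvd
  have h3 : 1 ≡ s [MOD m] := by
    rw [Nat.modEq_iff_dvd]
    simpa using h2
  exact h3.symm

variable {W : Type*} [Group W] [Finite W]

/-- In a finite cyclic group, a subgroup contains every element killed by its order. -/
theorem mem_of_pow_card_eq_one {Z : Type*} [Group Z] [Finite Z] [IsCyclic Z] (D : Subgroup Z)
    (c : Z) (hc : c ^ Nat.card D = 1) : c ∈ D := by
  classical
  haveI : Fintype Z := Fintype.ofFinite Z
  have hd : 0 < Nat.card D := Nat.card_pos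
  have h1 := IsCyclic.card_pow_eq_one_le (α := Z) hd
  have hsub : (D : Set Z).toFinset ⊆ Finset.univ.filter (fun a : Z => a ^ Nat.card D = 1) := by
    intro a ha
    rw [Set.mem_toFinset] at ha
    rw [Finset.mem_filter]
    refine ⟨Finset.mem_univ _, ?_⟩
    have : (⟨a, ha⟩ : D) ^ Nat.card D = 1 := pow_card_eq_one'
    exact congrArg Subtype.val this
  have hcard : (D : Set Z).toFinset.card = Nat.card D := by
    rw [Set.toFinset_card, Nat.card_eq_fintype_card]
    rfl
  have heq : (D : Set Z).toFinset = Finset.univ.filter (fun a : Z => a ^ Nat.card D = 1) :=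
    Finset.eq_of_subset_of_card_le hsub (by rw [hcard]; exact h1)
  have : c ∈ Finset.univ.filter (fun a : Z => a ^ Nat.card D = 1) := by
    rw [Finset.mem_filter]; exact ⟨Finset.mem_univ _, hc⟩
  rw [← heq, Set.mem_toFinset] at this
  exact this

set_option maxHeartbeats 800000 in
/-- The radical condition from the `pq`-property. -/
theorem rad_condition
    (hpq : ∀ A : Subgroup W, ∀ p q : ℕ, p.Prime → q.Prime → Nat.card A = p * q → IsCyclic A)
    (x y : W) (n m r : ℕ) (hx : orderOf x = n) (hy : orderOf y = m)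
    (hrel : x⁻¹ * y * x = y ^ r) (hcop : Nat.Coprime n m) (hrn : r ^ n % m = 1 % m) :
    r ^ (n / ∏ p ∈ n.primeFactors, p) % m = 1 % m := by
  classical
  have hn : 0 < n := hx ▸ orderOf_pos x
  have hm : 0 < m := hy ▸ orderOf_pos y
  -- elements of prime order of `⟨x⟩` centralize `y`
  have hB : ∀ p : ℕ, p.Prime → p ∣ n → x ^ (n / p) * y = y * x ^ (n / p) := by
    intro p hp hpn
    set u := x ^ (n / p) with hu
    set s := r ^ (n / p) with hs
    have hnp : n / p ∣ n := Nat.div_dvd_of_dvd hpn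
    have hnp0 : n / p ≠ 0 := (Nat.div_pos (Nat.le_of_dvd hn hpn) hp.pos).ne'
    have hup : orderOf u = p := by
      rw [hu, orderOf_pow_of_dvd hnp0 (hx ▸ hnp), hx, Nat.div_div_self hpn hn.ne']
    have hconj : u⁻¹ * y * u = y ^ s := Cfsg.Agent.S3379.conj_pow_aux x y r hrel (n / p)
    have hsp : s ^ p ≡ 1 [MOD m] := by
      rw [hs, ← pow_mul, Nat.div_mul_cancel hpn]; exact hrn
    have hpm : ¬ p ∣ m := by
      intro h
      have := Nat.eq_one_of_dvd_coprimes hcop hpn h
      exact hp.one_lt.ne' this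
    have hs1 : s ≡ 1 [MOD m] := by
      apply modEq_one_of_pow s m p hp hpm hsp
      intro q hq hqm
      set v := y ^ (m / q) with hv
      have hmq : m / q ∣ m := Nat.div_dvd_of_dvd hqm
      have hmq0 : m / q ≠ 0 := (Nat.div_pos (Nat.le_of_dvd hm hqm) hq.pos).ne'
      have hvq : orderOf v = q := by
        rw [hv, orderOf_pow_of_dvd hmq0 (hy ▸ hmq), hy, Nat.div_div_self hqm hm.ne']
      have hconjv : u⁻¹ * v * u = v ^ s := by
        have := conj_pow (a := u⁻¹) (b := y) (i := m / q)
        rw [inv_inv] at this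
        rw [hv, ← this, hconj, ← pow_mul, ← pow_mul, mul_comm]
      have hpq_ne : p ≠ q := by
        rintro rfl
        exact hpm hqm
      obtain ⟨hfinA, hcardA⟩ := card_closure_le_of_rel u v p q s hp.pos hq.pos
        (hup ▸ pow_orderOf_eq_one u) (hvq ▸ pow_orderOf_eq_one v) hconjv
      set A : Subgroup W := closure ({u, v} : Set W) with hA
      have huA : u ∈ A := subset_closure (by simp)
      have hvA : v ∈ A := subset_closure (by simp)
      have hdvd : p * q ∣ Nat.card A := by
        have h1 : p ∣ Nat.card A := hup ▸ Subgroup.orderOf_dvd_natCard A huA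
        have h2 : q ∣ Nat.card A := hvq ▸ Subgroup.orderOf_dvd_natCard A hvA
        exact ((Nat.coprime_primes hp hq).mpr hpq_ne).mul_dvd_of_dvd_of_dvd h1 h2
      have hcard : Nat.card A = p * q := le_antisymm hcardA (Nat.le_of_dvd Nat.card_pos hdvd)
      have hcyc := hpq A p q hp hq hcard
      have hcomm : u * v = v * u := by
        letI := hcyc.commGroup
        have := mul_comm (⟨u, huA⟩ : A) ⟨v, hvA⟩
        exact congrArg Subtype.val this
      have h3 : v ^ s = v ^ 1 := by
        rw [← hconjv, pow_one, mul_assoc, ← hcomm, ← mul_assoc, inv_mul_cancel, one_mul]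
      have := pow_eq_pow_iff_modEq.mp h3
      rwa [hvq] at this
    have h4 : y ^ s = y := by
      have : y ^ s = y ^ 1 := by
        rw [pow_eq_pow_iff_modEq, hy]; exact hs1
      rwa [pow_one] at this
    rw [h4] at hconj
    calc u * y = u * (u⁻¹ * y * u) := by rw [hconj]
      _ = y * u := by group
  -- the centralizer of `y` in `⟨x⟩`
  set n' : ℕ := ∏ p ∈ n.primeFactors, p with hn'
  have hn'n : n' ∣ n := Nat.prod_primeFactors_dvd n
  set k : ℕ := n / n' with hk
  let Z : Subgroup W := zpowers x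
  let x' : Z := ⟨x, mem_zpowers x⟩
  let D : Subgroup Z := (centralizer ({y} : Set W)).subgroupOf Z
  have hmemD : ∀ j : ℕ, x ^ j * y = y * x ^ j → x' ^ j ∈ D := by
    intro j hj
    rw [Subgroup.mem_subgroupOf, Subgroup.mem_centralizer_iff]
    intro h hh
    rw [Set.mem_singleton_iff.mp hh]
    show y * x ^ j = x ^ j * y
    exact hj.symm
  have hdvd : n' ∣ Nat.card D := by
    apply Finset.prod_primes_dvd
    · intro p hp
      exact (Nat.prime_of_mem_primeFactors hp).prime
    · intro p hp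
      have hpp := Nat.prime_of_mem_primeFactors hp
      have hpn := Nat.dvd_of_mem_primeFactors hp
      have h1 : x' ^ (n / p) ∈ D := hmemD _ (hB p hpp hpn)
      have h2 : orderOf (x' ^ (n / p)) = p := by
        have hnp : n / p ∣ n := Nat.div_dvd_of_dvd hpn
        have hnp0 : n / p ≠ 0 := (Nat.div_pos (Nat.le_of_dvd hn hpn) hpp.pos).ne'
        have hx' : orderOf x' = n := by rw [← hx, ← Subgroup.orderOf_coe]
        rw [orderOf_pow_of_dvd hnp0 (hx' ▸ hnp), hx', Nat.div_div_self hpn hn.ne']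
      rw [← h2]
      exact Subgroup.orderOf_dvd_natCard D h1
  have hxk : x' ^ k ∈ D := by
    apply mem_of_pow_card_eq_one
    obtain ⟨d', hd'⟩ := hdvd
    rw [← pow_mul, hd', ← mul_assoc, hk, Nat.div_mul_cancel hn'n, pow_mul]
    have : x' ^ n = 1 := by
      apply Subtype.ext
      show x ^ n = 1
      rw [← hx]; exact pow_orderOf_eq_one x
    rw [this, one_pow]
  have hcommk : x ^ k * y = y * x ^ k := by
    rw [Subgroup.mem_subgroupOf, Subgroup.mem_centralizer_iff] at hxk
    exact (hxk y rfl).symm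
  have hconjk := Cfsg.Agent.S3379.conj_pow_aux x y r hrel k
  have h5 : y ^ (r ^ k) = y ^ 1 := by
    rw [← hconjk, pow_one, mul_assoc, ← hcommk, ← mul_assoc, inv_mul_cancel, one_mul]
  have h6 := pow_eq_pow_iff_modEq.mp h5
  rw [hy] at h6
  exact h6

end Cfsg.Agent.Lib.Helper97.FC
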