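import Mathlib

set_option autoImplicit false

/-!
# Free actions and group rings, part 1

Ring-level lemmas: geometric sums of an element of finite order, lifting of the relation
`N * z * e = 0` along a ring map whose kernel is `r`-divisible.
-/

namespace Cfsg.Agent.Lib.Helper97.FreeAct

open Finset

section Geom

variable {S : Type*} [Ring S]

/-- `t * (1 + t + ... + t^(n-1)) = 1 + t + ... + t^(n-1)` when `t ^ n = 1`. -/
theorem mul_geom_fix (t : S) (n : ℕ) (ht : t ^ n = 1) :
    t * ∑ i ∈ range n, t ^ i = ∑ i ∈ range n, t ^ i := by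
  have h := mul_geom_sum t n
  rw [ht, sub_self, sub_mul, one_mul, sub_eq_zero] at h
  exact h

theorem pow_mul_fixed (t x : S) (hx : t * x = x) (i : ℕ) : t ^ i * x = x := by
  induction i with
  | zero => simp
  | succ i ih => rw [pow_succ, mul_assoc, hx, ih]

/-- If `t * x = x` then `(1 + t + ... + t^(n-1)) * x = n • x`. -/
theorem geom_mul_fixed (t x : S) (n : ℕ) (hx : t * x = x) :
    (∑ i ∈ range n, t ^ i) * x = n • x := by
  rw [Finset.sum_mul]
  rw [Finset.sum_congr rfl (fun i _ => pow_mul_fixed t x hx i)]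
  simp

/-- `N * N = n • N` for the geometric sum `N` of an element with `t ^ n = 1`. -/
theorem geom_mul_geom (t : S) (n : ℕ) (ht : t ^ n = 1) :
    (∑ i ∈ range n, t ^ i) * (∑ i ∈ range n, t ^ i) = n • ∑ i ∈ range n, t ^ i :=
  geom_mul_fixed t _ n (mul_geom_fix t n ht)

end Geom

section Lift

variable {S₁ S₀ : Type*} [Ring S₁] [Ring S₀]

/-- Lifting the relation `N * z * e = 0` from `S₀` to `S₁` along `f`, when the kernel of `f`
is `r`-divisible, `S₁` has characteristic dividing `r ^ k`, `e` is idempotent, `N * N = n • N`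
and `n` is prime to `r`. -/
theorem lift_norm_zero (f : S₁ →+* S₀) (r k n : ℕ) (hcop : Nat.Coprime n r)
    (hker : ∀ x : S₁, f x = 0 → ∃ y : S₁, x = r • y)
    (hchar : ∀ x : S₁, r ^ k • x = 0)
    (e N : S₁) (he : e * e = e) (hNN : N * N = n • N)
    (h0 : ∀ z : S₁, f (N * z * e) = 0) (z : S₁) : N * z * e = 0 := by
  have base : ∀ z : S₁, ∃ y : S₁, N * z * e = r • (y * e) := by
    intro z
    obtain ⟨y, hy⟩ := hker _ (h0 z)
    refine ⟨y, ?_⟩
    calc N * z * e = N * z * e * e := by rw [mul_assoc (N * z), he]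
      _ = (r • y) * e := by rw [hy]
      _ = r • (y * e) := by rw [smul_mul_assoc]
  have step : ∀ j : ℕ, ∀ z : S₁, ∃ y : S₁, n ^ j • (N * z * e) = r ^ (j + 1) • (y * e) := by
    intro j
    induction j with
    | zero =>
      intro z
      obtain ⟨y, hy⟩ := base z
      exact ⟨y, by simpa using hy⟩
    | succ j ih =>
      intro z
      obtain ⟨y, hy⟩ := ih z
      obtain ⟨y', hy'⟩ := base y
      refine ⟨y', ?_⟩
      calc n ^ (j + 1) • (N * z * e) = n ^ j • (n • (N * z * e)) := by
            rw [pow_succ, mul_smul]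
        _ = n ^ j • (N * N * z * e) := by
            rw [hNN, smul_mul_assoc, smul_mul_assoc]
        _ = N * (n ^ j • (N * z * e)) := by
            rw [mul_smul_comm, mul_assoc N N z, mul_assoc N (N * z) e]
        _ = N * (r ^ (j + 1) • (y * e)) := by rw [hy]
        _ = r ^ (j + 1) • (N * y * e) := by rw [mul_smul_comm, mul_assoc]
        _ = r ^ (j + 1) • (r • (y' * e)) := by rw [hy']
        _ = r ^ (j + 1 + 1) • (y' * e) := by rw [← mul_smul, ← pow_succ]
  obtain ⟨y, hy⟩ := step k z
  have h1 : n ^ k • (N * z * e) = 0 := by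
    rw [hy, pow_succ, mul_comm, mul_smul, hchar, smul_zero]
  have h2 : r ^ k • (N * z * e) = 0 := hchar _
  have hc : Nat.Coprime (n ^ k) (r ^ k) := Nat.Coprime.pow k k hcop
  have hc' : IsCoprime ((n ^ k : ℕ) : ℤ) ((r ^ k : ℕ) : ℤ) := Nat.isCoprime_iff_coprime.mpr hc
  obtain ⟨a, b, hab⟩ := hc'
  have h3 : (N * z * e) = (a * ((n ^ k : ℕ) : ℤ) + b * ((r ^ k : ℕ) : ℤ)) • (N * z * e) := by
    rw [hab, one_smul]
  rw [h3, add_smul, mul_smul, mul_smul, natCast_zsmul, natCast_zsmul, h1, h2]
  simp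

end Lift

end Cfsg.Agent.Lib.Helper97.FreeAct
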