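import Mathlib
import Cfsg.Agent.Lib.Helper97.FreeAct1

set_option autoImplicit false

namespace Cfsg.Agent.Lib.Helper97.FreeAct

open Finset MonoidAlgebra

section NormElt

variable {H : Type*} [Group H]

/-- The norm element `1 + h + ... + h^(n-1)` of the group ring, `n` the order of `h`. -/
noncomputable def normElt (R : Type*) [Ring R] (h : H) : MonoidAlgebra R H :=
  ∑ i ∈ range (orderOf h), (MonoidAlgebra.of R H h) ^ i

theorem of_pow_orderOf (R : Type*) [Ring R] (h : H) : (MonoidAlgebra.of R H h) ^ orderOf h = 1 := by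
  rw [← map_pow, pow_orderOf_eq_one, map_one]

theorem normElt_mul_self (R : Type*) [Ring R] (h : H) :
    normElt R h * normElt R h = orderOf h • normElt R h :=
  geom_mul_geom _ _ (of_pow_orderOf R h)

theorem of_mul_normElt (R : Type*) [Ring R] (h : H) :
    MonoidAlgebra.of R H h * normElt R h = normElt R h :=
  mul_geom_fix _ _ (of_pow_orderOf R h)

theorem normElt_mul_fixed (R : Type*) [Ring R] (h : H) (x : MonoidAlgebra R H)
    (hx : MonoidAlgebra.of R H h * x = x) : normElt R h * x = orderOf h • x :=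
  geom_mul_fixed _ _ _ hx

theorem map_of {R R' : Type*} [Ring R] [Ring R'] (f : R →+* R') (h : H) :
    mapRingHom H f (MonoidAlgebra.of R H h) = MonoidAlgebra.of R' H h := by
  simp [MonoidAlgebra.of_apply]

theorem map_normElt {R R' : Type*} [Ring R] [Ring R'] (f : R →+* R') (h : H) :
    mapRingHom H f (normElt R h) = normElt R' h := by
  unfold normElt
  rw [map_sum]
  refine sum_congr rfl fun i _ => ?_
  rw [map_pow, map_of]

theorem mapRingHom_surjective {R R' : Type*} [Ring R] [Ring R'] (f : R →+* R')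
    (hf : Function.Surjective f) : Function.Surjective (mapRingHom H f) := by
  intro x
  induction x using MonoidAlgebra.induction_on with
  | of m => exact ⟨MonoidAlgebra.of R H m, map_of f m⟩
  | add x y hx hy =>
    obtain ⟨x', rfl⟩ := hx
    obtain ⟨y', rfl⟩ := hy
    exact ⟨x' + y', map_add _ _ _⟩
  | smul c x hx =>
    obtain ⟨x', rfl⟩ := hx
    obtain ⟨c', rfl⟩ := hf c
    refine ⟨c' • x', ?_⟩
    ext g
    simp [coeff_mapRingHom, coeff_smul]

end NormElt

section ZModRed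

variable {H : Type*} [Group H]

/-- Reduction `(ℤ/r^k)[H] → (ℤ/r)[H]`. -/
noncomputable def red (r k : ℕ) (hk : k ≠ 0) :
    MonoidAlgebra (ZMod (r ^ k)) H →+* MonoidAlgebra (ZMod r) H :=
  mapRingHom H (ZMod.castHom (dvd_pow_self r hk) (ZMod r))

theorem zmod_cast_eq_zero_dvd (r k : ℕ) [Fact r.Prime] (hk : k ≠ 0) (c : ZMod (r ^ k))
    (hc : ZMod.castHom (dvd_pow_self r hk) (ZMod r) c = 0) : r ∣ c.val := by
  have : NeZero (r ^ k) := ⟨pow_ne_zero _ (Fact.out : r.Prime).ne_zero⟩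
  rw [ZMod.castHom_apply, ← ZMod.natCast_val, ZMod.natCast_eq_zero_iff] at hc
  exact hc

theorem red_ker (r k : ℕ) [Fact r.Prime] (hk : k ≠ 0) (x : MonoidAlgebra (ZMod (r ^ k)) H)
    (hx : red (H := H) r k hk x = 0) : ∃ y : MonoidAlgebra (ZMod (r ^ k)) H, x = r • y := by
  have : NeZero (r ^ k) := ⟨pow_ne_zero _ (Fact.out : r.Prime).ne_zero⟩
  refine ⟨MonoidAlgebra.ofCoeff (x.coeff.mapRange (fun c => ((c.val / r : ℕ) : ZMod (r ^ k)))
    (by simp)), ?_⟩
  ext g
  have h1 : ZMod.castHom (dvd_pow_self r hk) (ZMod r) (x.coeff g) = 0 := by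
    have := congrArg (fun z => z.coeff g) hx
    simpa [red, coeff_mapRingHom] using this
  have h2 := zmod_cast_eq_zero_dvd r k hk _ h1
  obtain ⟨q, hq⟩ := h2
  rw [coeff_smul]
  simp only [Finsupp.smul_apply, Finsupp.mapRange_apply]
  rw [hq, Nat.mul_div_cancel_left q (Fact.out : r.Prime).pos]
  rw [nsmul_eq_mul, ← Nat.cast_mul, ← hq, ZMod.natCast_zmod_val]

theorem char_smul (r k : ℕ) (x : MonoidAlgebra (ZMod (r ^ k)) H) : r ^ k • x = 0 := by
  rw [nsmul_eq_mul]
  have : ((r ^ k : ℕ) : MonoidAlgebra (ZMod (r ^ k)) H) = 0 := by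
    rw [MonoidAlgebra.natCast_def, ZMod.natCast_self]
    simp
  rw [this, zero_mul]

theorem red_ne_zero_dvd (r k : ℕ) [Fact r.Prime] (hk : k ≠ 0)
    (e : MonoidAlgebra (ZMod (r ^ k)) H) (he : red (H := H) r k hk e ≠ 0) (m : ℤ)
    (hm : m • e = 0) : ((r ^ k : ℕ) : ℤ) ∣ m := by
  have hne : NeZero (r ^ k) := ⟨pow_ne_zero _ (Fact.out : r.Prime).ne_zero⟩
  have : ∃ g, (red (H := H) r k hk e).coeff g ≠ 0 := by
    by_contra hcon
    push Not at hcon
    apply he
    ext g
    simpa using hcon g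
  obtain ⟨g, hg⟩ := this
  set c := e.coeff g with hc
  have hcg : ZMod.castHom (dvd_pow_self r hk) (ZMod r) c ≠ 0 := by
    simpa [red, coeff_mapRingHom] using hg
  have hnd : ¬ r ∣ c.val := by
    intro hd
    apply hcg
    rw [ZMod.castHom_apply, ← ZMod.natCast_val, ZMod.natCast_eq_zero_iff]
    exact hd
  have hcop : Nat.Coprime c.val (r ^ k) :=
    Nat.Coprime.pow_right k ((Nat.Prime.coprime_iff_not_dvd (Fact.out : r.Prime)).mpr hnd).symm
  have hunit : IsUnit c := by
    have := (ZMod.isUnit_iff_coprime c.val (r ^ k)).mpr hcop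
    rwa [ZMod.natCast_zmod_val] at this
  have hmc : (m : ZMod (r ^ k)) * c = 0 := by
    have h1 : (m • e).coeff g = m • (e.coeff g) := by
      rw [coeff_smul]; rfl
    rw [hm] at h1
    rw [← zsmul_eq_mul, ← h1]
    rfl
  have hm0 : (m : ZMod (r ^ k)) = 0 := (hunit.mul_left_eq_zero).mp hmc
  exact (ZMod.intCast_zmod_eq_zero_iff_dvd m (r ^ k)).mp hm0

end ZModRed

section Idem

variable {H : Type*} [Group H] [Finite H]

/-- Maschke: a nonzero module with free action in characteristic `r` prime to `|H|` gives a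
nonzero idempotent `e` of the group algebra with `N_h * x * e = 0`. -/
theorem exists_idem (r : ℕ) [Fact r.Prime] (hr : ¬ r ∣ Nat.card H)
    {U : Type*} [AddCommGroup U] [Module (ZMod r) U] [Nontrivial U]
    (ρ : Representation (ZMod r) H U) (hfree : ∀ h : H, h ≠ 1 → ∀ u : U, ρ h u = u → u = 0) :
    ∃ e : MonoidAlgebra (ZMod r) H, e * e = e ∧ e ≠ 0 ∧
      ∀ h : H, h ≠ 1 → ∀ x : MonoidAlgebra (ZMod r) H, normElt (ZMod r) h * x * e = 0 := by
  classical
  haveI : NeZero ((Nat.card H : ℕ) : ZMod r) :=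
    ⟨by rw [Ne, ZMod.natCast_eq_zero_iff]; exact hr⟩
  set Φ := ρ.asAlgebraHom with hΦ
  have hN : ∀ h : H, h ≠ 1 → Φ (normElt (ZMod r) h) = 0 := by
    intro h hh
    apply LinearMap.ext
    intro u
    have h1 := congrArg Φ (of_mul_normElt (ZMod r) h)
    rw [map_mul, hΦ, Representation.asAlgebraHom_of] at h1
    have h2 : ρ h ((ρ.asAlgebraHom (normElt (ZMod r) h)) u) = (ρ.asAlgebraHom (normElt (ZMod r) h)) u :=
      congrArg (fun T => T u) h1
    exact hfree h hh _ h2
  let I : Ideal (MonoidAlgebra (ZMod r) H) := RingHom.ker Φ.toRingHom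
  have hI : ∀ x, x ∈ I ↔ Φ x = 0 := fun x => RingHom.mem_ker
  obtain ⟨q, hq⟩ := MonoidAlgebra.Submodule.exists_isCompl (k := ZMod r) (G := H) I
  have h1 : (1 : MonoidAlgebra (ZMod r) H) ∈ I ⊔ q := by
    rw [hq.sup_eq_top]; trivial
  obtain ⟨j, hj, e, he, hje⟩ := Submodule.mem_sup.mp h1
  have hej : e * j ∈ I := by
    rw [hI, map_mul, (hI j).mp hj, mul_zero]
  have hee : e * e ∈ q := by
    have := Submodule.smul_mem q e he
    rwa [smul_eq_mul] at this
  have hsub : e - e * e = e * j := by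
    have : e = e * (j + e) := by rw [hje, mul_one]
    rw [mul_add] at this
    nth_rewrite 1 [this]
    abel
  have hz : e - e * e = 0 := by
    apply Submodule.disjoint_def.mp hq.disjoint
    · rw [hsub]; exact hej
    · exact Submodule.sub_mem q he hee
  refine ⟨e, (sub_eq_zero.mp hz).symm, ?_, ?_⟩
  · intro he0
    rw [he0, add_zero] at hje
    rw [hje, hI, map_one] at hj
    obtain ⟨u, hu⟩ := exists_ne (0 : U)
    apply hu
    have := congrArg (fun T : Module.End (ZMod r) U => T u) hj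
    simpa using this
  · intro h hh x
    apply Submodule.disjoint_def.mp hq.disjoint
    · rw [hI, map_mul, map_mul, hN h hh, zero_mul, zero_mul]
    · have := Submodule.smul_mem q (normElt (ZMod r) h * x) he
      rwa [smul_eq_mul] at this

/-- Lifting the idempotent of `exists_idem` modulo `r ^ k`. -/
theorem exists_lift_idem (r : ℕ) [Fact r.Prime] (hr : ¬ r ∣ Nat.card H)
    (e : MonoidAlgebra (ZMod r) H) (he : e * e = e)
    (hN : ∀ h : H, h ≠ 1 → ∀ x : MonoidAlgebra (ZMod r) H, normElt (ZMod r) h * x * e = 0)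
    (k : ℕ) (hk : k ≠ 0) :
    ∃ e' : MonoidAlgebra (ZMod (r ^ k)) H, e' * e' = e' ∧ red r k hk e' = e ∧
      ∀ h : H, h ≠ 1 → ∀ z : MonoidAlgebra (ZMod (r ^ k)) H,
        normElt (ZMod (r ^ k)) h * z * e' = 0 := by
  have hsurj : Function.Surjective (red (H := H) r k hk) :=
    mapRingHom_surjective _ (ZMod.castHom_surjective _)
  have hnil : ∀ x ∈ RingHom.ker (red (H := H) r k hk), IsNilpotent x := by
    intro x hx
    obtain ⟨y, rfl⟩ := red_ker r k hk x (RingHom.mem_ker.mp hx)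
    refine ⟨k, ?_⟩
    rw [smul_pow, char_smul]
  obtain ⟨e', he', hee'⟩ := exists_isIdempotentElem_eq_of_ker_isNilpotent (red (H := H) r k hk) hnil e
    (hsurj e) he
  refine ⟨e', he'.eq, hee', ?_⟩
  intro h hh z
  have hcop : Nat.Coprime (orderOf h) r := by
    have h1 : ¬ r ∣ orderOf h := fun hd => hr (hd.trans (orderOf_dvd_natCard h))
    exact ((Nat.Prime.coprime_iff_not_dvd (Fact.out : r.Prime)).mpr h1).symm
  refine lift_norm_zero (red (H := H) r k hk) r k (orderOf h) hcop (red_ker r k hk) (char_smul r k)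
    e' (normElt _ h) he'.eq (normElt_mul_self _ h) ?_ z
  intro z
  rw [map_mul, map_mul, hee']
  have : red (H := H) r k hk (normElt (ZMod (r ^ k)) h) = normElt (ZMod r) h := map_normElt _ h
  rw [this]
  exact hN h hh _

end Idem


section Main

universe u

variable {H : Type u} [Group H]

/-- The left ideal of `ℤ[H]` generated by the elements `N_h * g`, `h ≠ 1`. -/
noncomputable def normIdeal (H : Type u) [Group H] : Ideal (MonoidAlgebra ℤ H) :=
  Ideal.span {x | ∃ h g : H, h ≠ 1 ∧ x = normElt ℤ h * MonoidAlgebra.of ℤ H g}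

theorem normElt_mul_mem (h : H) (hh : h ≠ 1) (y : MonoidAlgebra ℤ H) :
    normElt ℤ h * y ∈ normIdeal H := by
  induction y using MonoidAlgebra.induction_on with
  | of g => exact Ideal.subset_span ⟨h, g, hh, rfl⟩
  | add x y hx hy => rw [mul_add]; exact Ideal.add_mem _ hx hy
  | smul c x hx =>
    rw [mul_smul_comm]
    exact Submodule.smul_of_tower_mem _ c hx

theorem map_mul_idem_eq_zero {R : Type*} [Ring R] (e' : MonoidAlgebra R H)
    (hV : ∀ h : H, h ≠ 1 → ∀ z : MonoidAlgebra R H, normElt R h * z * e' = 0)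
    (j : MonoidAlgebra ℤ H) (hj : j ∈ normIdeal H) :
    mapRingHom H (Int.castRingHom R) j * e' = 0 := by
  unfold normIdeal at hj
  induction hj using Submodule.span_induction with
  | mem x hx =>
    obtain ⟨h, g, hh, rfl⟩ := hx
    rw [map_mul, map_normElt, map_of]
    exact hV h hh _
  | zero => simp
  | add x y _ _ hx hy => rw [map_add, add_mul, hx, hy, add_zero]
  | smul a x _ hx => rw [smul_eq_mul, map_mul, mul_assoc, hx, mul_zero]

variable [Finite H]

theorem exists_int_mem (s : ℕ)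
    (h1 : (1 : MonoidAlgebra ℤ H) ∈ normIdeal H ⊔ Ideal.span {(s : MonoidAlgebra ℤ H)}) :
    ∃ m : ℤ, (s : ℤ) ∣ m - 1 ∧ (m : MonoidAlgebra ℤ H) ∈ normIdeal H := by
  set L := normIdeal H with hL
  obtain ⟨j, hj, t, ht, hjt⟩ := Submodule.mem_sup.mp h1
  obtain ⟨x, rfl⟩ := Ideal.mem_span_singleton'.mp ht
  let π : MonoidAlgebra ℤ H →ₗ[ℤ] (MonoidAlgebra ℤ H ⧸ L) := (L.mkQ).restrictScalars ℤ
  have hπ : Function.Surjective π := L.mkQ_surjective
  haveI : Module.Finite ℤ (MonoidAlgebra ℤ H ⧸ L) := Module.Finite.of_surjective π hπ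
  have hin : (⊤ : Submodule ℤ (MonoidAlgebra ℤ H ⧸ L)) ≤
      (Ideal.span {(s : ℤ)}) • (⊤ : Submodule ℤ (MonoidAlgebra ℤ H ⧸ L)) := by
    intro y _
    obtain ⟨y, rfl⟩ := hπ y
    have h2 : y = y * j + (s : ℤ) • (y * x) := by
      have : y = y * (j + x * (s : MonoidAlgebra ℤ H)) := by rw [hjt, mul_one]
      rw [mul_add, ← mul_assoc] at this
      nth_rewrite 1 [this]
      congr 1
      rw [natCast_zsmul, nsmul_eq_mul, Nat.cast_comm]
    have h3 : π y = (s : ℤ) • π (y * x) := by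
      nth_rewrite 1 [h2]
      rw [map_add, map_smul]
      have : π (y * j) = 0 := by
        show L.mkQ (y * j) = 0
        rw [Submodule.mkQ_apply, Submodule.Quotient.mk_eq_zero]
        exact Ideal.mul_mem_left _ _ hj
      rw [this, zero_add]
    rw [h3]
    exact Submodule.smul_mem_smul (Ideal.subset_span rfl) trivial
  obtain ⟨m, hm1, hm2⟩ := Submodule.exists_sub_one_mem_and_smul_eq_zero_of_fg_of_le_smul
    (Ideal.span {(s : ℤ)}) (⊤ : Submodule ℤ (MonoidAlgebra ℤ H ⧸ L)) Module.Finite.fg_top hin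
  refine ⟨m, Ideal.mem_span_singleton.mp hm1, ?_⟩
  have h4 := hm2 (π 1) trivial
  rw [← map_smul] at h4
  have h5 : L.mkQ (m • (1 : MonoidAlgebra ℤ H)) = 0 := h4
  rw [Submodule.mkQ_apply, Submodule.Quotient.mk_eq_zero, zsmul_one] at h5
  exact h5


theorem pow_smul_fixed' {S M : Type*} [Ring S] [AddCommGroup M] [Module S M] (t : S) (x : M)
    (hx : t • x = x) (i : ℕ) : t ^ i • x = x := by
  induction i with
  | zero => simp
  | succ i ih => rw [pow_succ, mul_smul, hx, ih]

theorem normElt_smul_fixed {M : Type*} [AddCommGroup M] [Module (MonoidAlgebra ℤ H) M] (h : H)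
    (x : M) (hx : MonoidAlgebra.of ℤ H h • x = x) : normElt ℤ h • x = orderOf h • x := by
  unfold normElt
  rw [Finset.sum_smul, Finset.sum_congr rfl (fun i _ => pow_smul_fixed' _ x hx i)]
  simp

theorem one_notMem_sup (r : ℕ) [Fact r.Prime] (hr : ¬ r ∣ Nat.card H)
    {U : Type*} [AddCommGroup U] [Module (ZMod r) U] [Nontrivial U]
    (ρ : Representation (ZMod r) H U) (hfree : ∀ h : H, h ≠ 1 → ∀ u : U, ρ h u = u → u = 0)
    (s : ℕ) (hs : s.Prime) :
    (1 : MonoidAlgebra ℤ H) ∉ normIdeal H ⊔ Ideal.span {(s : MonoidAlgebra ℤ H)} := by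
  intro h1
  obtain ⟨m, hm1, hm2⟩ := exists_int_mem s h1
  have hm0 : m ≠ 0 := by
    rintro rfl
    have : (s : ℤ) ∣ 1 := by
      have := (dvd_neg (a := (s : ℤ)) (b := (0 : ℤ) - 1)).mpr hm1
      simpa using this
    have := Int.natCast_dvd_natCast.mp (by simpa using this : (s : ℤ) ∣ ((1 : ℕ) : ℤ))
    exact hs.one_lt.ne' (Nat.dvd_one.mp this)
  set k := m.natAbs with hk
  have hk0 : k ≠ 0 := Int.natAbs_ne_zero.mpr hm0
  obtain ⟨e, he, he0, hN⟩ := exists_idem r hr ρ hfree
  obtain ⟨e', he', hee', hV⟩ := exists_lift_idem r hr e he hN k hk0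
  have h2 := map_mul_idem_eq_zero e' hV _ hm2
  rw [map_intCast, ← zsmul_eq_mul] at h2
  have h3 := red_ne_zero_dvd r k hk0 e' (by rw [hee']; exact he0) m h2
  have h4 : r ^ k ∣ k := by
    have := Int.natAbs_dvd_natAbs.mpr h3
    simpa using this
  have h5 : r ^ k ≤ k := Nat.le_of_dvd (Nat.pos_of_ne_zero hk0) h4
  have h6 : k < r ^ k := Nat.lt_pow_self (Fact.out : r.Prime).one_lt
  omega

/-- **Change of characteristic for free actions.** If `H` acts freely on a nonzero module in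
characteristic `r` (prime to `|H|`), then for every prime `s` not dividing `|H|` it acts freely
on a nontrivial finite abelian group of exponent `s`. -/
theorem exists_free_char (r : ℕ) [Fact r.Prime] (hr : ¬ r ∣ Nat.card H)
    {U : Type*} [AddCommGroup U] [Module (ZMod r) U] [Nontrivial U]
    (ρ : Representation (ZMod r) H U) (hfree : ∀ h : H, h ≠ 1 → ∀ u : U, ρ h u = u → u = 0)
    (s : ℕ) (hs : s.Prime) (hsH : ¬ s ∣ Nat.card H) :
    ∃ (M : Type u) (_ : AddCommGroup M) (_ : DistribMulAction H M), Finite M ∧ Nontrivial M ∧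
      (∀ x : M, s • x = 0) ∧ ∀ h : H, ∀ x : M, h • x = x → h = 1 ∨ x = 0 := by
  have h1 := one_notMem_sup r hr ρ hfree s hs
  set I : Ideal (MonoidAlgebra ℤ H) := normIdeal H ⊔ Ideal.span {(s : MonoidAlgebra ℤ H)} with hI
  have hIne : I ≠ ⊤ := (Ideal.ne_top_iff_one I).mpr h1
  have hsx : ∀ x : MonoidAlgebra ℤ H ⧸ I, s • x = 0 := by
    intro x
    obtain ⟨y, rfl⟩ := Submodule.Quotient.mk_surjective I x
    rw [← Submodule.Quotient.mk_smul, Submodule.Quotient.mk_eq_zero, nsmul_eq_mul, Nat.cast_comm]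
    exact Ideal.mul_mem_left _ _ (Submodule.mem_sup_right (Ideal.subset_span rfl))
  let π : MonoidAlgebra ℤ H →ₗ[ℤ] (MonoidAlgebra ℤ H ⧸ I) := (I.mkQ).restrictScalars ℤ
  have hπ : Function.Surjective π := I.mkQ_surjective
  haveI : Module.Finite ℤ (MonoidAlgebra ℤ H ⧸ I) := Module.Finite.of_surjective π hπ
  have htors : Module.IsTorsion ℤ (MonoidAlgebra ℤ H ⧸ I) := by
    intro x
    refine ⟨⟨(s : ℤ), mem_nonZeroDivisors_of_ne_zero (by exact_mod_cast hs.ne_zero)⟩, ?_⟩
    show (s : ℤ) • x = 0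
    rw [natCast_zsmul]
    exact hsx x
  refine ⟨MonoidAlgebra ℤ H ⧸ I, inferInstance,
    DistribMulAction.compHom (MonoidAlgebra ℤ H ⧸ I) (MonoidAlgebra.of ℤ H),
    Module.finite_of_fg_torsion _ htors,
    Submodule.Quotient.nontrivial_iff.mpr hIne, hsx, ?_⟩
  intro h x hx
  by_cases hh : h = 1
  · exact Or.inl hh
  right
  have hx' : MonoidAlgebra.of ℤ H h • x = x := hx
  have h2 : normElt ℤ h • x = orderOf h • x := normElt_smul_fixed h x hx'
  have h3 : normElt ℤ h • x = 0 := by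
    obtain ⟨y, rfl⟩ := Submodule.Quotient.mk_surjective I x
    rw [← Submodule.Quotient.mk_smul, Submodule.Quotient.mk_eq_zero, smul_eq_mul]
    exact Submodule.mem_sup_left (normElt_mul_mem h hh y)
  rw [h3] at h2
  have hcop : Nat.Coprime (orderOf h) s := by
    have h1 : ¬ s ∣ orderOf h := fun hd => hsH (hd.trans (orderOf_dvd_natCard h))
    exact ((Nat.Prime.coprime_iff_not_dvd hs).mpr h1).symm
  have hc' : IsCoprime ((orderOf h : ℕ) : ℤ) ((s : ℕ) : ℤ) := Nat.isCoprime_iff_coprime.mpr hcop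
  obtain ⟨a, b, hab⟩ := hc'
  have h4 : x = (a * ((orderOf h : ℕ) : ℤ) + b * ((s : ℕ) : ℤ)) • x := by
    rw [hab, one_smul]
  rw [h4, add_smul, mul_smul, mul_smul, natCast_zsmul, natCast_zsmul, ← h2, hsx]
  simp

end Main

end Cfsg.Agent.Lib.Helper97.FreeAct
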