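import Mathlib
import Cfsg.Agent.Lib.Helper97.FreeAct2
import Cfsg.Agent.S0042
import Cfsg.Agent.S0034
import Cfsg.Agent.Lib.Helper71.Frobenius

set_option autoImplicit false

namespace Cfsg.Agent.Lib.Helper97.FreeAct

universe u

section MulForm

variable {H : Type u} [Group H]

/-- The representation on `Additive X` attached to an action by automorphisms on a commutative
group of exponent `r`. -/
noncomputable def repOfMulAut (r : ℕ) {X : Type*} [CommGroup X] [Module (ZMod r) (Additive X)]
    (φ : H →* MulAut X) : Representation (ZMod r) H (Additive X) where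
  toFun := fun h => (AddMonoidHom.toZModLinearMap r (MonoidHom.toAdditive (φ h).toMonoidHom) :
        Additive X →ₗ[ZMod r] Additive X)
  map_one' := by
    apply LinearMap.ext
    intro x
    simp [Module.End.one_apply]
  map_mul' := by
    intro a b
    apply LinearMap.ext
    intro x
    simp [Module.End.mul_apply]

theorem repOfMulAut_apply (r : ℕ) {X : Type*} [CommGroup X] [Module (ZMod r) (Additive X)]
    (φ : H →* MulAut X) (h : H) (x : Additive X) :
    repOfMulAut r φ h x = Additive.ofMul (φ h x.toMul) := rfl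

variable [Finite H]

/-- Multiplicative input form of `exists_free_char`. -/
theorem exists_free_char_of_mulAut (r : ℕ) [Fact r.Prime] (hr : ¬ r ∣ Nat.card H)
    {X : Type*} [CommGroup X] [Nontrivial X] (hexp : ∀ x : X, x ^ r = 1)
    (φ : H →* MulAut X) (hfree : ∀ h : H, ∀ x : X, φ h x = x → h = 1 ∨ x = 1)
    (s : ℕ) (hs : s.Prime) (hsH : ¬ s ∣ Nat.card H) :
    ∃ (M : Type u) (_ : AddCommGroup M) (_ : DistribMulAction H M), Finite M ∧ Nontrivial M ∧
      (∀ x : M, s • x = 0) ∧ ∀ h : H, ∀ x : M, h • x = x → h = 1 ∨ x = 0 := by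
  have hexp' : ∀ x : Additive X, r • x = 0 := by
    intro x
    have := hexp x.toMul
    apply Additive.toMul.injective
    simpa using this
  let _ : Module (ZMod r) (Additive X) := AddCommGroup.zmodModule hexp'
  refine exists_free_char r hr (repOfMulAut r φ) ?_ s hs hsH
  intro h hh x hx
  rw [repOfMulAut_apply] at hx
  have h1 : φ h x.toMul = x.toMul := by
    have := congrArg Additive.toMul hx
    simpa using this
  rcases hfree h _ h1 with h2 | h2
  · exact absurd h2 hh
  · apply Additive.toMul.injective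
    simpa using h2

end MulForm


section Frob

open Pointwise

variable {L : Type u} [Group L] [Finite L]

/-- The elements of `N` central in `N` and of order dividing `r`. -/
def centralTorsion (N : Subgroup L) (r : ℕ) : Subgroup L where
  carrier := {x | x ∈ N ∧ (∀ y ∈ N, y * x = x * y) ∧ x ^ r = 1}
  one_mem' := ⟨N.one_mem, fun y _ => by simp, one_pow r⟩
  mul_mem' := by
    rintro a b ⟨ha, hac, har⟩ ⟨hb, hbc, hbr⟩
    refine ⟨N.mul_mem ha hb, ?_, ?_⟩
    · intro y hy
      rw [← mul_assoc, hac y hy, mul_assoc, hbc y hy, mul_assoc]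
    · have hcomm : Commute a b := (hbc a ha)
      rw [hcomm.mul_pow, har, hbr, one_mul]
  inv_mem' := by
    rintro a ⟨ha, hac, har⟩
    refine ⟨N.inv_mem ha, ?_, by rw [inv_pow, har, inv_one]⟩
    intro y hy
    have := hac y hy
    calc y * a⁻¹ = a⁻¹ * (a * y) * a⁻¹ := by group
      _ = a⁻¹ * (y * a) * a⁻¹ := by rw [this]
      _ = a⁻¹ * y := by group

theorem mem_centralTorsion (N : Subgroup L) (r : ℕ) (x : L) :
    x ∈ centralTorsion N r ↔ x ∈ N ∧ (∀ y ∈ N, y * x = x * y) ∧ x ^ r = 1 := Iff.rfl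

instance centralTorsion_normal (N : Subgroup L) [hN : N.Normal] (r : ℕ) :
    (centralTorsion N r).Normal := by
  constructor
  rintro a ⟨ha, hac, har⟩ g
  refine ⟨hN.conj_mem a ha g, ?_, ?_⟩
  · intro y hy
    have hy' : g⁻¹ * y * g ∈ N := by
      have := hN.conj_mem y hy g⁻¹
      simpa using this
    have := hac _ hy'
    calc y * (g * a * g⁻¹) = g * ((g⁻¹ * y * g) * a) * g⁻¹ := by group
      _ = g * (a * (g⁻¹ * y * g)) * g⁻¹ := by rw [this]
      _ = g * a * g⁻¹ * y := by group
  · rw [conj_pow, har]; group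

theorem centralTorsion_comm (N : Subgroup L) (r : ℕ) (a b : centralTorsion N r) : a * b = b * a := by
  apply Subtype.ext
  have := (b.2.2.1) a.1 a.2.1
  simpa using this

/-- In a Frobenius group, a nonidentity element of the kernel is centralized by no nonidentity
element of the complement. -/
theorem frob_free (C : Subgroup L) (hC : Cfsg.IsFrobeniusComplement C) (N : Subgroup L)
    (hNk : (N : Set L) = Cfsg.frobeniusKernel C) (c : L) (hc : c ∈ C) (x : L) (hxN : x ∈ N)
    (hx1 : x ≠ 1) (h1 : c * x * c⁻¹ = x) : c = 1 := by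
  obtain ⟨hCbot, hCtop, hfrob⟩ := hC
  have hxK : x ∈ Cfsg.frobeniusKernel C := by rw [← hNk]; exact hxN
  have hxnC : x ∉ C := by
    rcases hxK with h | h
    · exact absurd h hx1
    · have := h 1
      simpa using this
  have h2 : c ∈ C ⊓ (MulAut.conj x • C) := by
    refine Subgroup.mem_inf.mpr ⟨hc, ?_⟩
    rw [Subgroup.mem_pointwise_smul_iff_inv_smul_mem]
    have : (MulAut.conj x)⁻¹ • c = x⁻¹ * c * x := by
      simp [MulAut.smul_def]
    rw [this]
    have h3 : x⁻¹ * c * x = c := by
      calc x⁻¹ * c * x = x⁻¹ * (c * x * c⁻¹) * c := by group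
        _ = c := by rw [h1]; group
    rw [h3]; exact hc
  rw [hfrob _ hxnC, Subgroup.mem_bot] at h2
  exact h2

/-- The Frobenius kernel `N` and a prime `r` not dividing the order of the complement such that
the `r`-torsion of the centre of `N` is nontrivial. -/
theorem exists_centralTorsion (C : Subgroup L) (hC : Cfsg.IsFrobeniusComplement C) :
    ∃ (N : Subgroup L) (r : ℕ), N.Normal ∧ (N : Set L) = Cfsg.frobeniusKernel C ∧ r.Prime ∧
      ¬ r ∣ Nat.card C ∧ centralTorsion N r ≠ ⊥ := by
  obtain ⟨N, hNk, hNn, hNnil⟩ := Cfsg.Agent.S0042.result C hC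
  obtain ⟨N', hNk', _, hNc'⟩ := Cfsg.Agent.S0035.result C hC
  have hNN' : N' = N := SetLike.coe_injective (hNk'.trans hNk.symm)
  rw [hNN'] at hNc'
  obtain ⟨hCbot, hCtop, hfrob⟩ := hC
  have hcard : Nat.card N * Nat.card C = Nat.card L := hNc'.card_mul_card
  -- N is nontrivial
  have hNbot : N ≠ ⊥ := by
    intro h
    rw [h, Subgroup.card_bot, one_mul] at hcard
    exact hCtop ((Subgroup.card_eq_iff_eq_top (H := C)).mp hcard)
  have : Nontrivial ↥N := (Subgroup.nontrivial_iff_ne_bot N).mpr hNbot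
  -- coprimality
  have hidx : Nat.card N = C.index := by
    have h1 := C.index_mul_card
    have hCpos : 0 < Nat.card C := Nat.card_pos
    exact Nat.eq_of_mul_eq_mul_right hCpos (hcard.trans h1.symm)
  have hcop : Nat.Coprime (Nat.card N) (Nat.card C) := by
    have h2 := (Cfsg.Agent.S0034.result C ⟨hCbot, hCtop, hfrob⟩).2
    rw [hidx]
    have h3 : C.index ≡ 1 [MOD Nat.card C] := h2
    have := Nat.ModEq.gcd_eq h3
    rw [Nat.Coprime, this]
    simp
  -- centre of N
  have hZ : Subgroup.center ↥N ≠ ⊥ := Group.IsNilpotent.center_ne_bot ↥N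
  have hZcard : Nat.card (Subgroup.center ↥N) ≠ 1 := fun h => hZ (Subgroup.card_eq_one.mp h)
  obtain ⟨r, hr, hrd⟩ := Nat.exists_prime_and_dvd hZcard
  have : Fact r.Prime := ⟨hr⟩
  obtain ⟨z, hz⟩ := exists_prime_orderOf_dvd_card' (G := Subgroup.center ↥N) r hrd
  have hz1 : ((z : ↥N) : L) ≠ 1 := by
    intro h
    have : z = 1 := by
      apply Subtype.ext; apply Subtype.ext; simpa using h
    rw [this, orderOf_one] at hz
    exact hr.one_lt.ne hz
  have hzU : ((z : ↥N) : L) ∈ centralTorsion N r := by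
    refine ⟨(z : ↥N).2, ?_, ?_⟩
    · intro y hy
      have := Subgroup.mem_center_iff.mp z.2 ⟨y, hy⟩
      exact congrArg Subtype.val this
    · have : z ^ r = 1 := by rw [← hz]; exact pow_orderOf_eq_one z
      have := congrArg (fun w : Subgroup.center ↥N => ((w : ↥N) : L)) this
      simpa using this
  have hrN : r ∣ Nat.card N := by
    have h1 : orderOf z ∣ Nat.card (Subgroup.center ↥N) := orderOf_dvd_natCard z
    rw [hz] at h1
    exact h1.trans (Subgroup.card_subgroup_dvd_card _)
  have hrC : ¬ r ∣ Nat.card C := by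
    intro h
    have := Nat.dvd_gcd hrN h
    rw [hcop] at this
    exact hr.one_lt.ne' (Nat.dvd_one.mp this)
  refine ⟨N, r, hNn, hNk, hr, hrC, ?_⟩
  intro h
  have := hzU
  rw [h, Subgroup.mem_bot] at this
  exact hz1 this

theorem exists_mulAut_of_frobenius (C : Subgroup L) (hC : Cfsg.IsFrobeniusComplement C) :
    ∃ (r : ℕ) (_ : r.Prime) (X : Type u) (_ : CommGroup X) (_ : Nontrivial X)
      (φ : ↥C →* MulAut X), ¬ r ∣ Nat.card C ∧ (∀ x : X, x ^ r = 1) ∧
        ∀ (c : ↥C) (x : X), φ c x = x → c = 1 ∨ x = 1 := by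
  obtain ⟨N, r, hNn, hNk, hr, hrC, hU⟩ := exists_centralTorsion C hC
  let U := centralTorsion N r
  let _ : CommGroup ↥U := { (inferInstance : Group ↥U) with mul_comm := centralTorsion_comm N r }
  have : Nontrivial ↥U := (Subgroup.nontrivial_iff_ne_bot U).mpr hU
  refine ⟨r, hr, ↥U, inferInstance, inferInstance,
    (MulAut.conjNormal (H := U)).comp C.subtype, hrC, ?_, ?_⟩
  · intro x
    apply Subtype.ext
    simpa using x.2.2.2
  · intro c x hx
    by_cases hx1 : x = 1
    · exact Or.inr hx1
    left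
    have hxL : (x : L) ≠ 1 := fun h => hx1 (Subtype.ext h)
    have h1 : (c : L) * x * (c : L)⁻¹ = x := by
      have := congrArg Subtype.val hx
      simpa using this
    exact Subtype.ext (frob_free C hC N hNk c c.2 x x.2.1 hxL h1)

end Frob

section Hom

variable {A B : Type*} [Group A] [Group B] {MA MB : Type*} [AddCommGroup MA] [AddCommGroup MB]
  [DistribMulAction A MA] [DistribMulAction B MB]

/-- The action of `A × B` on `MB →+ MA`: `(a, b) • f = a ∘ f ∘ b⁻¹`. -/
@[reducible] noncomputable def homAction : DistribMulAction (A × B) (MB →+ MA) where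
  smul g f := (DistribSMul.toAddMonoidHom MA g.1).comp
    (f.comp (DistribSMul.toAddMonoidHom MB g.2⁻¹))
  one_smul f := by
    ext x
    show (1 : A × B).1 • f ((1 : A × B).2⁻¹ • x) = f x
    simp
  mul_smul g g' f := by
    ext x
    show (g * g').1 • f ((g * g').2⁻¹ • x) = g.1 • (g'.1 • f (g'.2⁻¹ • (g.2⁻¹ • x)))
    simp [mul_smul]
  smul_zero g := by
    ext x
    show g.1 • (0 : MB →+ MA) (g.2⁻¹ • x) = 0
    simp
  smul_add g f f' := by
    ext x
    show g.1 • (f + f') (g.2⁻¹ • x) = g.1 • f (g.2⁻¹ • x) + g.1 • f' (g.2⁻¹ • x)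
    simp

theorem homAction_apply (g : A × B) (f : MB →+ MA) (x : MB) :
    (homAction.smul g f : MB →+ MA) x = g.1 • f (g.2⁻¹ • x) := rfl

theorem homAction_free [Finite A] [Finite B] [Finite MB]
    (hcop : Nat.Coprime (Nat.card A) (Nat.card B))
    (hA : ∀ a : A, ∀ x : MA, a • x = x → a = 1 ∨ x = 0)
    (hB : ∀ b : B, ∀ x : MB, b • x = x → b = 1 ∨ x = 0)
    (g : A × B) (f : MB →+ MA) (hgf : homAction.smul g f = f) : g = 1 ∨ f = 0 := by
  let _ := homAction (A := A) (B := B) (MA := MA) (MB := MB)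
  have hgf' : g • f = f := hgf
  by_cases hg : g = 1
  · exact Or.inl hg
  right
  -- all powers of g fix f
  have hpow : ∀ n : ℕ, g ^ n • f = f := by
    intro n
    induction n with
    | zero => simp
    | succ n ih => rw [pow_succ, mul_smul, hgf', ih]
  by_cases ha : g.1 = 1
  · -- g = (1, b), b ≠ 1
    have hb : g.2 ≠ 1 := by
      intro hb
      exact hg (Prod.ext ha hb)
    have hfix : ∀ x : MB, f (g.2⁻¹ • x) = f x := by
      intro x
      have := congrArg (fun φ : MB →+ MA => φ x) hgf
      simp only [homAction_apply, ha, one_smul] at this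
      exact this
    let T : MB →+ MB := DistribSMul.toAddMonoidHom MB g.2⁻¹ - AddMonoidHom.id MB
    have hTinj : Function.Injective T := by
      rw [injective_iff_map_eq_zero]
      intro x hx
      have hx' : g.2⁻¹ • x = x := by
        have : g.2⁻¹ • x - x = 0 := hx
        exact sub_eq_zero.mp this
      rcases hB _ x hx' with h | h
      · exact absurd (inv_eq_one.mp h) hb
      · exact h
    have hTsurj : Function.Surjective T := Finite.injective_iff_surjective.mp hTinj
    ext y
    obtain ⟨x, rfl⟩ := hTsurj y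
    show f (g.2⁻¹ • x - x) = 0
    rw [map_sub, hfix, sub_self]
  · -- a ≠ 1: use g ^ |B| = (a ^ |B|, 1)
    set n := Nat.card B with hn
    have h2 : (g ^ n).2 = 1 := by
      rw [Prod.pow_snd, hn]; exact pow_card_eq_one'
    have h1 : (g ^ n).1 ≠ 1 := by
      rw [Prod.pow_fst]
      intro h
      have hd1 : orderOf g.1 ∣ n := orderOf_dvd_of_pow_eq_one h
      have hd2 : orderOf g.1 ∣ Nat.card A := orderOf_dvd_natCard _
      have := Nat.dvd_gcd hd2 hd1
      rw [hcop] at this
      exact ha (orderOf_eq_one_iff.mp (Nat.dvd_one.mp this))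
    ext x
    have := congrArg (fun φ : MB →+ MA => φ x) (hpow n)
    have h3 : (g ^ n).1 • f x = f x := by
      have h4 : (g ^ n • f) x = (g ^ n).1 • f ((g ^ n).2⁻¹ • x) := rfl
      rw [h2, inv_one, one_smul] at h4
      rw [← h4]; exact this
    rcases hA _ _ h3 with h | h
    · exact absurd h h1
    · exact h

theorem hom_nontrivial_aux (s : ℕ) [Fact s.Prime] [Nontrivial MA] [Nontrivial MB]
    [Module (ZMod s) MA] [Module (ZMod s) MB] : Nontrivial (MB →+ MA) := by
  obtain ⟨b₀, hb₀⟩ := exists_ne (0 : MB)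
  obtain ⟨a₀, ha₀⟩ := exists_ne (0 : MA)
  obtain ⟨φ, hφ⟩ := Module.Projective.exists_dual_ne_zero (V := MB) (ZMod s) hb₀
  let ψ : MB →+ MA := ((LinearMap.toSpanSingleton (ZMod s) MA a₀).comp φ).toAddMonoidHom
  refine ⟨ψ, 0, ?_⟩
  intro h
  have := congrArg (fun f : MB →+ MA => f b₀) h
  have h2 : φ b₀ • a₀ = 0 := this
  rcases smul_eq_zero.mp h2 with h3 | h3
  · exact hφ h3
  · exact ha₀ h3

theorem hom_nontrivial (s : ℕ) [Fact s.Prime] [Nontrivial MA] [Nontrivial MB]
    (hsA : ∀ x : MA, s • x = 0) (hsB : ∀ x : MB, s • x = 0) : Nontrivial (MB →+ MA) :=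
  @hom_nontrivial_aux MA MB _ _ s _ _ _ (AddCommGroup.zmodModule hsA) (AddCommGroup.zmodModule hsB)

end Hom


section Final

open Pointwise

theorem exists_free_module_of_frobenius {L : Type u} [Group L] [Finite L] (C : Subgroup L)
    (hC : Cfsg.IsFrobeniusComplement C) (s : ℕ) (hs : s.Prime) (hsC : ¬ s ∣ Nat.card C) :
    ∃ (M : Type u) (_ : AddCommGroup M) (_ : DistribMulAction ↥C M), Finite M ∧ Nontrivial M ∧
      (∀ x : M, s • x = 0) ∧ ∀ h : ↥C, ∀ x : M, h • x = x → h = 1 ∨ x = 0 := by
  obtain ⟨r, hr, X, _, _, φ, hrC, hexp, hfree⟩ := exists_mulAut_of_frobenius C hC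
  have : Fact r.Prime := ⟨hr⟩
  exact exists_free_char_of_mulAut r hrC hexp φ hfree s hs hsC

universe v

/-- Frobenius complements of coprime orders: their direct product is a Frobenius complement. -/
theorem prod_frobenius {LA : Type u} {LB : Type v} [Group LA] [Finite LA] [Group LB] [Finite LB]
    (CA : Subgroup LA) (CB : Subgroup LB) (hA : Cfsg.IsFrobeniusComplement CA)
    (hB : Cfsg.IsFrobeniusComplement CB) (hcop : Nat.Coprime (Nat.card CA) (Nat.card CB)) :
    ∃ (L : Type) (_ : Group L) (_ : Finite L) (C : Subgroup L),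
      Cfsg.IsFrobeniusComplement C ∧ Nonempty ((↥CA × ↥CB) ≃* C) := by
  obtain ⟨s, hs1, hs⟩ := Nat.exists_infinite_primes (Nat.card CA * Nat.card CB + 1)
  have hApos : 0 < Nat.card CA := Nat.card_pos
  have hBpos : 0 < Nat.card CB := Nat.card_pos
  have hsA : ¬ s ∣ Nat.card CA := by
    intro h
    have := Nat.le_of_dvd hApos h
    nlinarith
  have hsB : ¬ s ∣ Nat.card CB := by
    intro h
    have := Nat.le_of_dvd hBpos h
    nlinarith
  obtain ⟨MA, _, _, hfinA, hntA, hexpA, hfreeA⟩ := exists_free_module_of_frobenius CA hA s hs hsA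
  obtain ⟨MB, _, _, hfinB, hntB, hexpB, hfreeB⟩ := exists_free_module_of_frobenius CB hB s hs hsB
  have : Fact s.Prime := ⟨hs⟩
  have hnt : Nontrivial (MB →+ MA) := hom_nontrivial s hexpA hexpB
  have hfin : Finite (MB →+ MA) := Finite.of_injective (fun f : MB →+ MA => (f : MB → MA))
    DFunLike.coe_injective
  have hntH : Nontrivial (↥CA × ↥CB) := by
    have : Nontrivial ↥CA := (Subgroup.nontrivial_iff_ne_bot CA).mpr hA.1
    infer_instance
  let _ := homAction (A := ↥CA) (B := ↥CB) (MA := MA) (MB := MB)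
  refine Cfsg.Agent.Lib.Helper71.exists_frobenius_of_free_distribMulAction
    (H := ↥CA × ↥CB) (V := MB →+ MA) ?_
  intro g f hgf
  exact homAction_free hcop hfreeA hfreeB g f hgf

end Final

end Cfsg.Agent.Lib.Helper97.FreeAct
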