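import Mathlib
import Cfsg.Agent.Lib.Helper97.FreeAct3

set_option autoImplicit false

namespace Cfsg.Agent.Lib.Helper97.FreeAct

open Finset MonoidAlgebra

section IntMem

universe u

variable {H : Type u} [Group H] [Finite H]

/-- No nonzero integer lies in the norm ideal, if `H` acts freely on a nonzero module in
characteristic `r` prime to `|H|`. -/
theorem int_mem_normIdeal (r : ℕ) [Fact r.Prime] (hr : ¬ r ∣ Nat.card H)
    {U : Type*} [AddCommGroup U] [Module (ZMod r) U] [Nontrivial U]
    (ρ : Representation (ZMod r) H U) (hfree : ∀ h : H, h ≠ 1 → ∀ u : U, ρ h u = u → u = 0)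
    (m : ℤ) (hm : (m : MonoidAlgebra ℤ H) ∈ normIdeal H) : m = 0 := by
  by_contra hm0
  set k := m.natAbs with hk
  have hk0 : k ≠ 0 := Int.natAbs_ne_zero.mpr hm0
  obtain ⟨e, he, he0, hN⟩ := exists_idem r hr ρ hfree
  obtain ⟨e', he', hee', hV⟩ := exists_lift_idem r hr e he hN k hk0
  have h2 := map_mul_idem_eq_zero e' hV _ hm
  rw [map_intCast, ← zsmul_eq_mul] at h2
  have h3 := red_ne_zero_dvd r k hk0 e' (by rw [hee']; exact he0) m h2
  have h4 : r ^ k ∣ k := by
    have := Int.natAbs_dvd_natAbs.mpr h3
    simpa using this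
  have h5 : r ^ k ≤ k := Nat.le_of_dvd (Nat.pos_of_ne_zero hk0) h4
  have h6 : k < r ^ k := Nat.lt_pow_self (Fact.out : r.Prime).one_lt
  omega

/-- Multiplicative input form. -/
theorem int_mem_normIdeal_of_mulAut (r : ℕ) [Fact r.Prime] (hr : ¬ r ∣ Nat.card H)
    {X : Type*} [CommGroup X] [Nontrivial X] (hexp : ∀ x : X, x ^ r = 1)
    (φ : H →* MulAut X) (hfree : ∀ h : H, ∀ x : X, φ h x = x → h = 1 ∨ x = 1)
    (m : ℤ) (hm : (m : MonoidAlgebra ℤ H) ∈ normIdeal H) : m = 0 := by
  have hexp' : ∀ x : Additive X, r • x = 0 := by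
    intro x
    have := hexp x.toMul
    apply Additive.toMul.injective
    simpa using this
  let _ : Module (ZMod r) (Additive X) := AddCommGroup.zmodModule hexp'
  refine int_mem_normIdeal r hr (repOfMulAut r φ) ?_ m hm
  intro h hh x hx
  rw [repOfMulAut_apply] at hx
  have h1 : φ h x.toMul = x.toMul := by
    have := congrArg Additive.toMul hx
    simpa using this
  rcases hfree h _ h1 with h2 | h2
  · exact absurd h2 hh
  · apply Additive.toMul.injective
    simpa using h2

end IntMem

section Rat

universe u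

variable {H : Type u} [Group H]

theorem mapRingHom_injective' {R R' : Type*} [Ring R] [Ring R'] (f : R →+* R')
    (hf : Function.Injective f) : Function.Injective (mapRingHom H f) := by
  intro x y hxy
  ext g
  apply hf
  have := congrArg (fun z => z.coeff g) hxy
  simpa [coeff_mapRingHom] using this

theorem map_int_smul {R' : Type*} [Ring R'] (c : ℤ) (x : MonoidAlgebra ℤ H) :
    mapRingHom H (Int.castRingHom R') (c • x) = (c : R') • mapRingHom H (Int.castRingHom R') x := by
  rw [Int.cast_smul_eq_zsmul]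
  exact map_zsmul _ c x

/-- The `ℚ`-span of the image of the norm ideal in `ℚ[H]`. -/
noncomputable def normSpanQ (H : Type u) [Group H] : Submodule ℚ (MonoidAlgebra ℚ H) :=
  Submodule.span ℚ (mapRingHom H (Int.castRingHom ℚ) '' (normIdeal H : Set (MonoidAlgebra ℤ H)))

theorem clear_denom (x : MonoidAlgebra ℚ H) (hx : x ∈ normSpanQ H) :
    ∃ m : ℤ, m ≠ 0 ∧ ∃ y ∈ normIdeal H,
      mapRingHom H (Int.castRingHom ℚ) y = (m : ℚ) • x := by
  unfold normSpanQ at hx
  induction hx using Submodule.span_induction with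
  | mem x hx =>
    obtain ⟨y, hy, rfl⟩ := hx
    exact ⟨1, one_ne_zero, y, hy, by simp⟩
  | zero => exact ⟨1, one_ne_zero, 0, Submodule.zero_mem _, by simp⟩
  | add x1 x2 _ _ h1 h2 =>
    obtain ⟨m1, hm1, y1, hy1, e1⟩ := h1
    obtain ⟨m2, hm2, y2, hy2, e2⟩ := h2
    refine ⟨m1 * m2, mul_ne_zero hm1 hm2, m2 • y1 + m1 • y2, ?_, ?_⟩
    · exact Submodule.add_mem _ (Submodule.smul_of_tower_mem _ m2 hy1)
        (Submodule.smul_of_tower_mem _ m1 hy2)
    · rw [map_add, map_int_smul, map_int_smul, e1, e2, smul_add, smul_smul, smul_smul]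
      push_cast
      rw [mul_comm (m2 : ℚ) (m1 : ℚ)]
  | smul c x _ h =>
    obtain ⟨m, hm, y, hy, e⟩ := h
    refine ⟨c.den * m, ?_, c.num • y, Submodule.smul_of_tower_mem _ _ hy, ?_⟩
    · exact mul_ne_zero (by exact_mod_cast c.den_ne_zero) hm
    · rw [map_int_smul, e, smul_smul, smul_smul]
      congr 1
      push_cast
      have := Rat.mul_den_eq_num c
      rw [← this]
      ring

theorem one_notMem_normSpanQ
    (hint : ∀ m : ℤ, (m : MonoidAlgebra ℤ H) ∈ normIdeal H → m = 0) :
    (1 : MonoidAlgebra ℚ H) ∉ normSpanQ H := by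
  intro h1
  obtain ⟨m, hm, y, hy, e⟩ := clear_denom 1 h1
  have : y = (m : MonoidAlgebra ℤ H) := by
    apply mapRingHom_injective' (Int.castRingHom ℚ) (RingHom.injective_int _)
    rw [e, map_intCast, Int.cast_smul_eq_zsmul, zsmul_one]
  rw [this] at hy
  exact hm (hint m hy)

theorem exists_functional
    (hint : ∀ m : ℤ, (m : MonoidAlgebra ℤ H) ∈ normIdeal H → m = 0) :
    ∃ f : MonoidAlgebra ℚ H →ₗ[ℚ] ℚ, f 1 ≠ 0 ∧
      ∀ y ∈ normIdeal H, f (mapRingHom H (Int.castRingHom ℚ) y) = 0 := by
  obtain ⟨f, hf1, hf2⟩ := Submodule.exists_dual_map_eq_bot_of_notMem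
    (one_notMem_normSpanQ hint) inferInstance
  refine ⟨f, hf1, fun y hy => ?_⟩
  have : f (mapRingHom H (Int.castRingHom ℚ) y) ∈ (normSpanQ H).map f :=
    Submodule.mem_map_of_mem (Submodule.subset_span ⟨y, hy, rfl⟩)
  rw [hf2] at this
  exact (Submodule.mem_bot _).mp this

end Rat

section FieldK

universe u

variable {H : Type u} [Group H] (K : Type*) [Field K] [CharZero K]

/-- Extension of a rational functional on `ℚ[H]` to a `K`-linear functional on `K[H]`. -/
noncomputable def extFunctional (f : MonoidAlgebra ℚ H →ₗ[ℚ] ℚ) : MonoidAlgebra K H →ₗ[K] K :=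
  (MonoidAlgebra.basis H K).constr ℕ (fun g => algebraMap ℚ K (f (MonoidAlgebra.of ℚ H g)))

theorem extFunctional_map (f : MonoidAlgebra ℚ H →ₗ[ℚ] ℚ) (y : MonoidAlgebra ℤ H) :
    extFunctional K f (mapRingHom H (Int.castRingHom K) y) =
      algebraMap ℚ K (f (mapRingHom H (Int.castRingHom ℚ) y)) := by
  induction y using MonoidAlgebra.induction_on with
  | of g =>
    rw [map_of, map_of]
    unfold extFunctional
    rw [MonoidAlgebra.of_apply, ← MonoidAlgebra.basis_apply, Module.Basis.constr_basis]
  | add x y hx hy => simp only [map_add, hx, hy]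
  | smul c x hx =>
    rw [map_int_smul, map_int_smul, map_smul, hx, map_smul, smul_eq_mul, smul_eq_mul, map_mul]
    simp

theorem extFunctional_mul_map (f : MonoidAlgebra ℚ H →ₗ[ℚ] ℚ)
    (hf : ∀ y ∈ normIdeal H, f (mapRingHom H (Int.castRingHom ℚ) y) = 0)
    (a : MonoidAlgebra K H) (y : MonoidAlgebra ℤ H) (hy : y ∈ normIdeal H) :
    extFunctional K f (a * mapRingHom H (Int.castRingHom K) y) = 0 := by
  induction a using MonoidAlgebra.induction_on with
  | of g =>
    rw [← map_of (Int.castRingHom K) g, ← map_mul, extFunctional_map,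
      hf _ (Ideal.mul_mem_left _ _ hy), map_zero]
  | add a b ha hb => rw [add_mul, map_add, ha, hb, add_zero]
  | smul c a ha => rw [smul_mul_assoc, map_smul, ha, smul_zero]

/-- The left ideal of `K[H]` generated by the image of the norm ideal. -/
noncomputable def normIdealK (H : Type u) [Group H] (K : Type*) [Field K] :
    Ideal (MonoidAlgebra K H) :=
  Ideal.span (mapRingHom H (Int.castRingHom K) '' (normIdeal H : Set (MonoidAlgebra ℤ H)))

theorem extFunctional_mul_mem (f : MonoidAlgebra ℚ H →ₗ[ℚ] ℚ)
    (hf : ∀ y ∈ normIdeal H, f (mapRingHom H (Int.castRingHom ℚ) y) = 0)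
    (x : MonoidAlgebra K H) (hx : x ∈ normIdealK H K) :
    ∀ a : MonoidAlgebra K H, extFunctional K f (a * x) = 0 := by
  unfold normIdealK at hx
  induction hx using Submodule.span_induction with
  | mem x hx =>
    obtain ⟨y, hy, rfl⟩ := hx
    intro a
    exact extFunctional_mul_map K f hf a y hy
  | zero => intro a; simp
  | add x y _ _ hx hy => intro a; rw [mul_add, map_add, hx, hy, add_zero]
  | smul b x _ hx => intro a; rw [smul_eq_mul, ← mul_assoc]; exact hx _

theorem one_notMem_normIdealK
    (hint : ∀ m : ℤ, (m : MonoidAlgebra ℤ H) ∈ normIdeal H → m = 0) :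
    (1 : MonoidAlgebra K H) ∉ normIdealK H K := by
  obtain ⟨f, hf1, hf2⟩ := exists_functional hint
  intro h1
  have h3 := extFunctional_mul_mem K f hf2 1 h1 1
  rw [mul_one] at h3
  have h2 := extFunctional_map K f 1
  rw [map_one (mapRingHom H (Int.castRingHom K)),
    map_one (mapRingHom H (Int.castRingHom ℚ))] at h2
  rw [h2] at h3
  exact hf1 ((map_eq_zero_iff _ (algebraMap ℚ K).injective).mp h3)

omit [CharZero K] in
theorem normEltK_mul_mem (h : H) (hh : h ≠ 1) (y : MonoidAlgebra K H) :
    normElt K h * y ∈ normIdealK H K := by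
  induction y using MonoidAlgebra.induction_on with
  | of g =>
    apply Ideal.subset_span
    refine ⟨normElt ℤ h * MonoidAlgebra.of ℤ H g, normElt_mul_mem h hh _, ?_⟩
    rw [map_mul, map_normElt, map_of]
  | add x y hx hy => rw [mul_add]; exact Ideal.add_mem _ hx hy
  | smul c x hx => rw [mul_smul_comm]; exact Submodule.smul_of_tower_mem _ c hx

end FieldK

section Main

universe u

variable {H : Type u} [Group H] [Finite H]

omit [Finite H] in
theorem normEltK_smul_fixed {K : Type*} [Field K] {M : Type*} [AddCommGroup M]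
    [Module (MonoidAlgebra K H) M] (h : H)
    (x : M) (hx : MonoidAlgebra.of K H h • x = x) : normElt K h • x = orderOf h • x := by
  unfold normElt
  rw [Finset.sum_smul, Finset.sum_congr rfl (fun i _ => pow_smul_fixed' _ x hx i)]
  simp

/-- If no nonzero integer lies in the norm ideal of `ℤ[H]`, then `H` has a faithful irreducible
fixed-point-free matrix representation over any field of characteristic zero. -/
theorem exists_fpf_irrep (hint : ∀ m : ℤ, (m : MonoidAlgebra ℤ H) ∈ normIdeal H → m = 0)
    (K : Type*) [Field K] [CharZero K] :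
    ∃ (n : ℕ) (ρ : H →* GL (Fin n) K), 0 < n ∧ Function.Injective ρ ∧
      (∀ W : Submodule K (Fin n → K),
        (∀ g : H, ∀ w ∈ W, ((ρ g : GL (Fin n) K) : Matrix (Fin n) (Fin n) K).mulVec w ∈ W) →
          W = ⊥ ∨ W = ⊤) ∧
      ∀ g : H, g ≠ 1 → ∀ v : Fin n → K,
        ((ρ g : GL (Fin n) K) : Matrix (Fin n) (Fin n) K).mulVec v = v → v = 0 := by
  classical
  have hne : normIdealK H K ≠ ⊤ := (Ideal.ne_top_iff_one _).mpr (one_notMem_normIdealK K hint)
  obtain ⟨J, hJmax, hJle⟩ := Ideal.exists_le_maximal _ hne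
  have hsimple : IsSimpleModule (MonoidAlgebra K H) (MonoidAlgebra K H ⧸ J) :=
    isSimpleModule_iff_isCoatom.mpr (Ideal.isMaximal_def.mp hJmax)
  have : Nontrivial (MonoidAlgebra K H ⧸ J) := IsSimpleModule.nontrivial (MonoidAlgebra K H) _
  have hfin : Module.Finite K (MonoidAlgebra K H ⧸ J) :=
    Module.Finite.of_surjective ((J.mkQ).restrictScalars K) J.mkQ_surjective
  let T : H →* (MonoidAlgebra K H ⧸ J) →ₗ[K] (MonoidAlgebra K H ⧸ J) :=
    { toFun := fun h =>
        { toFun := fun v => MonoidAlgebra.of K H h • v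
          map_add' := smul_add _
          map_smul' := fun c v => smul_comm _ _ _ }
      map_one' := LinearMap.ext fun v => by
        show MonoidAlgebra.of K H 1 • v = v
        rw [map_one, one_smul]
      map_mul' := fun a c => LinearMap.ext fun v => by
        show MonoidAlgebra.of K H (a * c) • v =
          MonoidAlgebra.of K H a • (MonoidAlgebra.of K H c • v)
        rw [map_mul, mul_smul] }
  have hT : ∀ h v, T h v = MonoidAlgebra.of K H h • v := fun _ _ => rfl
  set n := Module.finrank K (MonoidAlgebra K H ⧸ J) with hn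
  let b : Module.Basis (Fin n) K (MonoidAlgebra K H ⧸ J) := Module.finBasis K _
  let ρM : H →* Matrix (Fin n) (Fin n) K :=
    { toFun := fun h => LinearMap.toMatrix b b (T h)
      map_one' := by rw [map_one]; exact LinearMap.toMatrix_one b
      map_mul' := fun a c => by rw [map_mul]; exact LinearMap.toMatrix_mul b _ _ }
  let ρ : H →* GL (Fin n) K := ρM.toHomUnits
  have hρ : ∀ (h : H) (v : Fin n → K),
      ((ρ h : GL (Fin n) K) : Matrix (Fin n) (Fin n) K).mulVec v =
        b.equivFun (T h (b.equivFun.symm v)) := by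
    intro h v
    have h1 := LinearMap.toMatrix_mulVec_repr b b (T h) (b.equivFun.symm v)
    have h2 : (b.repr (b.equivFun.symm v) : Fin n → K) = v := by
      rw [← Module.Basis.equivFun_apply, LinearEquiv.apply_symm_apply]
    rw [h2] at h1
    rw [Module.Basis.equivFun_apply, ← h1]
    rfl
  have hfpf : ∀ g : H, g ≠ 1 → ∀ w : MonoidAlgebra K H ⧸ J,
      MonoidAlgebra.of K H g • w = w → w = 0 := by
    intro g hg w hw
    have h2 := normEltK_smul_fixed g w hw
    have h3 : normElt K g • w = 0 := by
      obtain ⟨y, rfl⟩ := Submodule.Quotient.mk_surjective J w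
      rw [← Submodule.Quotient.mk_smul, Submodule.Quotient.mk_eq_zero, smul_eq_mul]
      exact hJle (normEltK_mul_mem K g hg y)
    rw [h3] at h2
    have h4 : (orderOf g : K) • w = 0 := by rw [Nat.cast_smul_eq_nsmul]; exact h2.symm
    rcases smul_eq_zero.mp h4 with h5 | h5
    · exact absurd h5 (Nat.cast_ne_zero.mpr (orderOf_pos g).ne')
    · exact h5
  have hfpf' : ∀ g : H, g ≠ 1 → ∀ v : Fin n → K,
      ((ρ g : GL (Fin n) K) : Matrix (Fin n) (Fin n) K).mulVec v = v → v = 0 := by
    intro g hg v hv
    rw [hρ] at hv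
    have h1 : T g (b.equivFun.symm v) = b.equivFun.symm v := by
      apply b.equivFun.injective
      rw [hv, LinearEquiv.apply_symm_apply]
    have h2 := hfpf g hg _ h1
    have h3 := congrArg b.equivFun h2
    rwa [LinearEquiv.apply_symm_apply, map_zero] at h3
  have hnpos : 0 < n := Module.finrank_pos
  refine ⟨n, ρ, hnpos, ?_, ?_, hfpf'⟩
  · rw [injective_iff_map_eq_one]
    intro g hg
    by_contra hg1
    have hv : (fun _ => 1 : Fin n → K) ≠ 0 := fun h => one_ne_zero (congrFun h ⟨0, hnpos⟩)
    apply hv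
    apply hfpf' g hg1
    rw [hg]
    simp
  · intro W hW
    let W' : Submodule (MonoidAlgebra K H) (MonoidAlgebra K H ⧸ J) :=
      { carrier := {v | b.equivFun v ∈ W}
        add_mem' := fun {x y} hx hy => by
          show b.equivFun (x + y) ∈ W
          rw [map_add]
          exact W.add_mem hx hy
        zero_mem' := by
          show b.equivFun 0 ∈ W
          rw [map_zero]
          exact W.zero_mem
        smul_mem' := by
          intro a v hv
          show b.equivFun (a • v) ∈ W
          induction a using MonoidAlgebra.induction_on with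
          | of g =>
            have h1 := hW g _ hv
            rw [hρ, LinearEquiv.symm_apply_apply] at h1
            exact h1
          | add x y hx hy =>
            rw [add_smul, map_add]
            exact W.add_mem hx hy
          | smul c x hx =>
            rw [smul_assoc, map_smul]
            exact W.smul_mem c hx }
    rcases eq_bot_or_eq_top W' with h | h
    · left
      rw [Submodule.eq_bot_iff]
      intro w hw
      have h1 : b.equivFun.symm w ∈ W' := by
        show b.equivFun (b.equivFun.symm w) ∈ W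
        rwa [LinearEquiv.apply_symm_apply]
      rw [h, Submodule.mem_bot] at h1
      have h3 := congrArg b.equivFun h1
      rwa [LinearEquiv.apply_symm_apply, map_zero] at h3
    · right
      rw [Submodule.eq_top_iff']
      intro w
      have h1 : b.equivFun.symm w ∈ W' := by rw [h]; trivial
      have h2 : b.equivFun (b.equivFun.symm w) ∈ W := h1
      rwa [LinearEquiv.apply_symm_apply] at h2

end Main

end Cfsg.Agent.Lib.Helper97.FreeAct
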