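import Mathlib
import Cfsg.Agent.S0035
import Cfsg.Agent.S0039
import Cfsg.Agent.S0040
import Cfsg.Agent.S0068
import Cfsg.Agent.Lib.Helper97.FrobNS3

/-!
# Non-solvable Frobenius complements, part 4: Frobenius complements satisfy the hypotheses

The fourth hypothesis (perfect subgroups are `SL(2,5)`) is Zassenhaus' theorem, taken here as
the hypothesis `Stmt690`.
-/

set_option autoImplicit false
set_option linter.unusedSectionVars false

namespace Cfsg.Agent.Lib.Helper97.FrobNS

open Subgroup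

/-- The statement of Zassenhaus' theorem on perfect fixed-point-free automorphism groups. -/
def Stmt690 : Prop :=
  ∀ {K : Type} [Group K] [Finite K] (G : Subgroup (MulAut K)),
    (∀ φ ∈ G, φ ≠ 1 → ∀ k : K, φ k = k → k = 1) → commutator G = ⊤ → G ≠ ⊥ →
    Nonempty (G ≃* SL25)

theorem commutator_eq_top_of_equiv {A B : Type*} [Group A] [Group B] (f : A ≃* B)
    (h : commutator A = ⊤) : commutator B = ⊤ := by
  rw [commutator_def] at h ⊢
  have h1 : (⊤ : Subgroup B) = (⊤ : Subgroup A).map f.toMonoidHom :=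
    (Subgroup.map_top_of_surjective f.toMonoidHom f.surjective).symm
  rw [h1, ← Subgroup.map_commutator, h]

variable {G : Type*} [Group G] [Finite G] {𝔏 : Type} [Group 𝔏] [Finite 𝔏]
  (N H : Subgroup 𝔏) [N.Normal]

section

variable (hc : IsComplement' N H) (hN : N ≠ ⊥)
  (hfpf : ∀ h ∈ H, h ≠ 1 → N ⊓ centralizer {h} = ⊥) (e : G ≃* H)

include hc hN hfpf e

theorem inv_unique_of_frob (s t : G) (hs : orderOf s = 2) (ht : orderOf t = 2) : s = t := by
  have hos : ∀ x : G, orderOf ((e x : H) : 𝔏) = orderOf x := by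
    intro x
    rw [Subgroup.orderOf_coe]
    exact orderOf_injective e.toMonoidHom e.injective x
  have heven : 2 ∣ Nat.card H := by
    have := Subgroup.orderOf_dvd_natCard H (e s).2
    rwa [hos, hs] at this
  obtain ⟨⟨s₀, -, -, huniq, -⟩, -⟩ := Cfsg.Agent.S0068.result N H hc hN hfpf heven
  have h1 := huniq _ (e s).2 (by rw [hos, hs])
  have h2 := huniq _ (e t).2 (by rw [hos, ht])
  apply e.injective
  apply Subtype.ext
  rw [h1, h2]

theorem sylow_cyclic_of_frob (p : ℕ) (hp : p.Prime) (hp2 : p ≠ 2) (P : Subgroup G)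
    (hP : IsPGroup p P) : IsCyclic P := by
  have : Fact p.Prime := ⟨hp⟩
  set P₁ : Subgroup H := P.map e.toMonoidHom with hP₁
  have hP₁p : IsPGroup p P₁ := hP.map _
  obtain ⟨Q, hQ⟩ := hP₁p.exists_le_sylow
  have hQc : IsCyclic Q := by
    rcases Cfsg.Agent.S0040.result N H hc hN hfpf p Q with h | ⟨n, ⟨f⟩⟩
    · exact h
    · exfalso
      have h1 : Nat.card Q = 4 * 2 ^ n := by
        rw [Nat.card_congr f.toEquiv]
        have : NeZero (2 ^ n) := ⟨by positivity⟩
        rw [Nat.card_eq_fintype_card]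
        exact QuaternionGroup.card
      obtain ⟨k, hk⟩ := Q.isPGroup'.exists_card_eq
      have h2 : p ^ k = 2 ^ (n + 2) := by
        rw [← hk, h1]; ring
      have hk0 : k ≠ 0 := by
        rintro rfl
        have : 1 < 2 ^ (n + 2) := Nat.one_lt_two_pow (by omega)
        rw [pow_zero] at h2
        omega
      have h3 : p ∣ 2 ^ (n + 2) := by
        rw [← h2]; exact dvd_pow_self p hk0
      exact hp2 ((Nat.prime_dvd_prime_iff_eq hp Nat.prime_two).mp (hp.dvd_of_dvd_pow h3))
  have h1 : IsCyclic (P₁.subgroupOf (Q : Subgroup H)) := inferInstance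
  have h2 : IsCyclic P₁ :=
    isCyclic_of_surjective (Subgroup.subgroupOfEquivOfLe hQ).toMonoidHom
      (Subgroup.subgroupOfEquivOfLe hQ).surjective
  exact isCyclic_of_surjective (P.equivMapOfInjective e.toMonoidHom e.injective).symm.toMonoidHom
    (P.equivMapOfInjective e.toMonoidHom e.injective).symm.surjective

theorem prime_comm_of_frob (p : ℕ) (hp : p.Prime) (a b : G) (hab : a * b = b * a)
    (ha : orderOf a = p) (hb : orderOf b = p) : b ∈ zpowers a := by
  classical
  by_cases hp2 : p = 2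
  · subst hp2
    rw [inv_unique_of_frob N H hc hN hfpf e b a hb ha]
    exact Subgroup.mem_zpowers a
  set A : Subgroup G := closure {a, b} with hA
  have hcommS : ∀ x ∈ ({a, b} : Set G), ∀ y ∈ ({a, b} : Set G), x * y = y * x := by
    rintro x (rfl | rfl) y (rfl | rfl)
    · rfl
    · exact hab
    · exact hab.symm
    · rfl
  have hAcomm : IsMulCommutative A := Subgroup.isMulCommutative_closure hcommS
  have hcommA : ∀ x ∈ A, ∀ y ∈ A, x * y = y * x := fun x hx y hy =>
    congrArg Subtype.val (hAcomm.is_comm.comm (⟨x, hx⟩ : A) ⟨y, hy⟩)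
  have hpow : ∀ x ∈ A, x ^ p = 1 := by
    intro x hx
    induction hx using Subgroup.closure_induction with
    | mem x hx =>
      rcases hx with rfl | rfl
      · rw [← ha]; exact pow_orderOf_eq_one _
      · rw [← hb]; exact pow_orderOf_eq_one _
    | one => exact one_pow p
    | mul x y hx hy ihx ihy =>
      have : Commute x y := hcommA x hx y hy
      rw [this.mul_pow, ihx, ihy, one_mul]
    | inv x hx ih => rw [inv_pow, ih, inv_one]
  have hApg : IsPGroup p A := by
    intro x
    refine ⟨1, ?_⟩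
    apply Subtype.ext
    rw [pow_one]
    exact hpow x x.2
  have hAcyc : IsCyclic A := sylow_cyclic_of_frob N H hc hN hfpf e p hp hp2 A hApg
  have hfinA : Fintype A := Fintype.ofFinite A
  have hle : Nat.card A ≤ p := by
    have h1 := IsCyclic.card_pow_eq_one_le (α := A) hp.pos
    have h2 : (Finset.univ.filter (fun x : A => x ^ p = 1)) = Finset.univ := by
      apply Finset.filter_true_of_mem
      intro x _
      apply Subtype.ext
      exact hpow x x.2
    rw [h2, Finset.card_univ, ← Nat.card_eq_fintype_card] at h1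
    exact h1
  have haA : a ∈ A := Subgroup.subset_closure (by simp)
  have hbA : b ∈ A := Subgroup.subset_closure (by simp)
  have hza : zpowers a ≤ A := Subgroup.zpowers_le.mpr haA
  have heq : zpowers a = A := by
    apply Subgroup.eq_of_le_of_card_ge hza
    rw [Nat.card_zpowers, ha]
    exact hle
  rw [heq]
  exact hbA

theorem perfect_of_frob (h690 : Stmt690) (U : Subgroup G) (hU : ⁅U, U⁆ = U) (hU1 : U ≠ ⊥) :
    Nonempty (U ≃* SL25) := by
  have hperfU : commutator U = ⊤ := by
    apply Subgroup.map_injective U.subtype_injective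
    rw [Subgroup.map_subtype_commutator, hU, ← MonoidHom.range_eq_map, Subgroup.range_subtype]
  let ι : U →* 𝔏 := H.subtype.comp (e.toMonoidHom.comp U.subtype)
  have hιinj : Function.Injective ι :=
    H.subtype_injective.comp (e.injective.comp U.subtype_injective)
  have hιH : ∀ u : U, ι u ∈ H := fun u => (e (u : G)).2
  let θ : U →* MulAut N := (MulAut.conjNormal (H := N)).comp ι
  have hθ : ∀ (u : U) (k : N), ((θ u k : N) : 𝔏) = ι u * k * (ι u)⁻¹ := fun u k =>
    MulAut.conjNormal_apply (ι u) k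
  -- fixed points
  have hfix : ∀ (u : U) (k : N), θ u k = k → u ≠ 1 → k = 1 := by
    intro u k hk hu
    have hne : ι u ≠ 1 := fun h => hu (hιinj (by rw [h, map_one]))
    have h1 : ι u * k * (ι u)⁻¹ = k := by rw [← hθ, hk]
    have hmem : (k : 𝔏) ∈ N ⊓ centralizer {ι u} := by
      refine Subgroup.mem_inf.mpr ⟨k.2, ?_⟩
      rw [Subgroup.mem_centralizer_iff]
      intro y hy
      rw [Set.mem_singleton_iff.mp hy]
      calc ι u * k = ι u * k * (ι u)⁻¹ * ι u := by group
        _ = k * ι u := by rw [h1]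
    rw [hfpf (ι u) (hιH u) hne, Subgroup.mem_bot] at hmem
    exact Subtype.ext hmem
  obtain ⟨k₀, hk₀⟩ := Subgroup.ne_bot_iff_exists_ne_one.mp hN
  have hθinj : Function.Injective θ := by
    rw [injective_iff_map_eq_one]
    intro u hu
    by_contra hu1
    exact hk₀ (hfix u k₀ (by rw [hu]; rfl) hu1)
  let f : U ≃* θ.range := MonoidHom.ofInjective hθinj
  have hfpf' : ∀ φ ∈ θ.range, φ ≠ 1 → ∀ k : N, φ k = k → k = 1 := by
    rintro φ ⟨u, rfl⟩ hφ k hk
    exact hfix u k hk (fun h => hφ (by rw [h, map_one]))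
  have hperf' : commutator θ.range = ⊤ := commutator_eq_top_of_equiv f hperfU
  have hne' : θ.range ≠ ⊥ := by
    intro h
    apply hU1
    rw [eq_bot_iff]
    intro u hu
    rw [Subgroup.mem_bot]
    have h1 : θ ⟨u, hu⟩ ∈ θ.range := ⟨_, rfl⟩
    rw [h, Subgroup.mem_bot] at h1
    have h2 : (⟨u, hu⟩ : U) = 1 := hθinj (by rw [h1, map_one])
    exact congrArg Subtype.val h2
  obtain ⟨g⟩ := h690 θ.range hfpf' hperf' hne'
  exact ⟨f.trans g⟩

theorem hyp_of_frob (h690 : Stmt690) : Hyp G :=
  { inv_unique := inv_unique_of_frob N H hc hN hfpf e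
    prime_comm := prime_comm_of_frob N H hc hN hfpf e
    sylow_cyclic := sylow_cyclic_of_frob N H hc hN hfpf e
    perfect := perfect_of_frob N H hc hN hfpf e h690 }

end

/-- S3359 from Zassenhaus' theorem S0690. -/
theorem s3359_of_s0690 (h690 : Stmt690) {G : Type*} [Group G] [Finite G]
    (hns : ¬ Group.IsSolvable G)
    (hFC : ∃ (L : Type) (_ : Group L) (_ : Finite L) (H : Subgroup L),
      Cfsg.IsFrobeniusComplement H ∧ Nonempty (G ≃* H)) :
    ∃ G₀ : Subgroup G, G₀.Normal ∧ (G₀.index = 1 ∨ G₀.index = 2) ∧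
      ∃ S M : Subgroup G, S ⊔ M = G₀ ∧ S ⊓ M = ⊥ ∧ (∀ s ∈ S, ∀ x ∈ M, s * x = x * s) ∧
        Nonempty (S ≃* Matrix.SpecialLinearGroup (Fin 2) (ZMod 5)) ∧
        (∀ (p : ℕ) [Fact p.Prime] (P : Sylow p M), IsCyclic P) ∧ (Nat.card M).Coprime 30 := by
  obtain ⟨𝔏, _, _, H, hH, ⟨e⟩⟩ := hFC
  obtain ⟨N, -, hNn, hc⟩ := Cfsg.Agent.S0035.result H hH
  have hN : N ≠ ⊥ := by
    intro h
    have h1 := hc.card_mul_card
    rw [h, Subgroup.card_bot, one_mul] at h1
    exact hH.2.1 ((Subgroup.card_eq_iff_eq_top H).mp h1)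
  have hfpf := (Cfsg.Agent.S0039.result N H hc hN hH.1).mp hH
  exact (hyp_of_frob N H hc hN hfpf e h690).main hns

end Cfsg.Agent.Lib.Helper97.FrobNS
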