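import Cfsg.Agent.Lib.Helper43.FwDefs

/-! # Fw hive (S3211, helper43): leaf FW-CONJ, core form (helper97)

Every involution `s ≠ j` of `C = C_G(j)` is `C`-conjugate to `t₀`, given FW-INVY (involutions of `C` lie in `Y`) and the
first four items of FW-T0 as hypotheses. -/

set_option autoImplicit false

namespace Cfsg.Agent.Lib.Helper43.Fw

variable {G : Type*} [Group G] {L₁ L₂ : Subgroup G} {j n : G}

theorem fwconj_orderOf_two {s : G} (hss : s * s = 1) (hs1 : s ≠ 1) : orderOf s = 2 := by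
  apply orderOf_eq_prime
  · rw [pow_two]; exact hss
  · exact hs1

/-- FW-CONJ with FW-INVY and FW-T0 as hypotheses -/
theorem conj_t0_core (h : Setup L₁ L₂ j n) (x₁ : G)
    (hinvY : ∀ y ∈ Subgroup.centralizer ({j} : Set G), y * y = 1 → y ∈ L₁ ⊔ L₂)
    (hT1 : t0 n x₁ ∈ L₁ ⊔ L₂) (hT2 : t0 n x₁ * t0 n x₁ = 1) (hT3 : t0 n x₁ ≠ 1) (hT4 : t0 n x₁ ≠ j)
    (s : G) (hs : s ∈ Subgroup.centralizer ({j} : Set G)) (hss : s * s = 1) (hs1 : s ≠ 1) (hsj : s ≠ j) :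
    ∃ c ∈ Subgroup.centralizer ({j} : Set G), c * s * c⁻¹ = t0 n x₁ := by
  obtain ⟨x, -, -, -, hall⟩ := h.invY
  have hsY : s ∈ L₁ ⊔ L₂ := hinvY s hs hss
  rcases hall s hsY (fwconj_orderOf_two hss hs1) with hj | ⟨g, hgY, hg⟩
  · exact absurd hj hsj
  rcases hall (t0 n x₁) hT1 (fwconj_orderOf_two hT2 hT3) with hj | ⟨g', hg'Y, hg'⟩
  · exact absurd hj hT4
  refine ⟨g' * g⁻¹, h.le (mul_mem hg'Y (inv_mem hgY)), ?_⟩
  rw [← hg, ← hg']
  group

end Cfsg.Agent.Lib.Helper43.Fw
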