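import Cfsg.Agent.Lib.Helper37.GtDefs

/-! GT-HDIAG-a leaf of the Gt hive (S2734): the images of `h_s(t)`, `s = 0, 1, 2, 3`, are diagonal. -/

set_option autoImplicit false
set_option linter.unusedSectionVars false
set_option linter.unusedVariables false

namespace Cfsg.Agent.Lib.Helper37.Gt

open Matrix Module QuadraticMap
open Cfsg.Agent.Lib.Helper8 Cfsg.Agent.Lib.Helper13 Cfsg.Agent.Lib.Helper37 Cfsg.Agent.Lib.Helper37.D4O8

variable {F : Type*} [Field F]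

theorem hdiaga_neg0 : Cfsg.Lie.chevG2.neg 0 = 11 := by decide
theorem hdiaga_neg1 : Cfsg.Lie.chevG2.neg 1 = 10 := by decide
theorem hdiaga_neg2 : Cfsg.Lie.chevG2.neg 2 = 9 := by decide
theorem hdiaga_neg3 : Cfsg.Lie.chevG2.neg 3 = 8 := by decide

set_option maxHeartbeats 1000000 in
theorem hdiaga_0 (t : F) (ht : t ≠ 0) (x : I8 → F) :
    act (Q8 F) (wprodY (Cfsg.Lie.chevG2.hWord 0 t)) x =
      mk8 (t⁻¹ * ca1 x) (t⁻¹ * ca2 x) (1 * ca3 x) (ca4 x)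
        ((t⁻¹)⁻¹ * cb1 x) ((t⁻¹)⁻¹ * cb2 x) ((1 : F)⁻¹ * cb3 x) (cb4 x) := by
  unfold wprodY Cfsg.Lie.ChevalleyDatum.hWord Cfsg.Lie.ChevalleyDatum.nWord
  rw [hdiaga_neg0]
  simp only [List.map_cons, List.map_nil, List.prod_cons, List.prod_nil, mul_one, List.cons_append,
    List.nil_append]
  simp only [Yn_0, Yn_11]
  simp only [act_mul]
  simp only [act_X0, act_X23]
  apply ext8 <;> simp <;> field_simp <;> ring

set_option maxHeartbeats 1000000 in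
theorem hdiaga_1 (t : F) (ht : t ≠ 0) (x : I8 → F) :
    act (Q8 F) (wprodY (Cfsg.Lie.chevG2.hWord 1 t)) x =
      mk8 (t⁻¹ * ca1 x) (1 * ca2 x) (t⁻¹ * ca3 x) (ca4 x)
        ((t⁻¹)⁻¹ * cb1 x) ((1 : F)⁻¹ * cb2 x) ((t⁻¹)⁻¹ * cb3 x) (cb4 x) := by
  unfold wprodY Cfsg.Lie.ChevalleyDatum.hWord Cfsg.Lie.ChevalleyDatum.nWord
  rw [hdiaga_neg1]
  simp only [List.map_cons, List.map_nil, List.prod_cons, List.prod_nil, mul_one, List.cons_append,
    List.nil_append]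
  simp only [Yn_1, Yn_10]
  simp only [act_mul]
  simp only [act_X1, act_X22]
  apply ext8 <;> simp <;> field_simp <;> ring

set_option maxHeartbeats 1000000 in
theorem hdiaga_2 (t : F) (ht : t ≠ 0) (x : I8 → F) :
    act (Q8 F) (wprodY (Cfsg.Lie.chevG2.hWord 2 t)) x =
      mk8 (t⁻¹ * t⁻¹ * ca1 x) (t⁻¹ * ca2 x) (t⁻¹ * ca3 x) (ca4 x)
        ((t⁻¹ * t⁻¹)⁻¹ * cb1 x) ((t⁻¹)⁻¹ * cb2 x) ((t⁻¹)⁻¹ * cb3 x) (cb4 x) := by
  unfold wprodY Cfsg.Lie.ChevalleyDatum.hWord Cfsg.Lie.ChevalleyDatum.nWord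
  rw [hdiaga_neg2]
  simp only [List.map_cons, List.map_nil, List.prod_cons, List.prod_nil, mul_one, List.cons_append,
    List.nil_append]
  simp only [Yn_2, Yn_9]
  simp only [act_mul]
  simp only [act_X2, act_X6, act_X3, act_X17, act_X20, act_X21]
  apply ext8 <;> simp <;> field_simp <;> ring

set_option maxHeartbeats 1000000 in
theorem hdiaga_3 (t : F) (ht : t ≠ 0) (x : I8 → F) :
    act (Q8 F) (wprodY (Cfsg.Lie.chevG2.hWord 3 t)) x =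
      mk8 (t⁻¹ * ca1 x) (t⁻¹ * t⁻¹ * ca2 x) (t * ca3 x) (ca4 x)
        ((t⁻¹)⁻¹ * cb1 x) ((t⁻¹ * t⁻¹)⁻¹ * cb2 x) (t⁻¹ * cb3 x) (cb4 x) := by
  unfold wprodY Cfsg.Lie.ChevalleyDatum.hWord Cfsg.Lie.ChevalleyDatum.nWord
  rw [hdiaga_neg3]
  simp only [List.map_cons, List.map_nil, List.prod_cons, List.prod_nil, mul_one, List.cons_append,
    List.nil_append]
  simp only [Yn_3, Yn_8]
  simp only [act_mul]
  simp only [act_X4, act_X7, act_X8, act_X15, act_X19, act_X16]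
  apply ext8 <;> simp <;> field_simp <;> ring

theorem act_HY_a (s : Fin 12) (hs : s.val < 4) (t : F) (ht : t ≠ 0) (x : I8 → F) :
    act (Q8 F) (wprodY (Cfsg.Lie.chevG2.hWord (s : ℕ) t)) x =
      mk8 (hb1 s t * ca1 x) (hb2 s t * ca2 x) (hb3 s t * ca3 x) (ca4 x)
        ((hb1 s t)⁻¹ * cb1 x) ((hb2 s t)⁻¹ * cb2 x) ((hb3 s t)⁻¹ * cb3 x) (cb4 x) := by
  obtain ⟨s, hs12⟩ := s
  simp only at hs
  interval_cases s
  · exact hdiaga_0 t ht x
  · exact hdiaga_1 t ht x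
  · exact hdiaga_2 t ht x
  · exact hdiaga_3 t ht x

end Cfsg.Agent.Lib.Helper37.Gt
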