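import Cfsg.Agent.Lib.Helper6.Ls.Defs
import Cfsg.Agent.Lib.Helper13.UnitaryConfig
import Cfsg.Agent.Lib.Helper13.UnitaryLift
import Cfsg.Prelude.Def_Classical
import Cfsg.Agent.Lib.Helper8.LsCEMAT
import Cfsg.Agent.Lib.Helper95.LsCZG
import Cfsg.Agent.Lib.Helper99.SURoot5

set_option autoImplicit false

/-! # `Ls` hive (S2334 + S2335), backup of leaf C-HEIS (helper97): the Heisenberg data -/

namespace Cfsg.Agent.Lib.Helper6.Ls

open Module Cfsg.Agent.Lib.Helper99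

section concrete

variable {F : Type*} [Field F] [Fintype F] {q : ℕ}

theorem heisb_Eelt_congr {n : ℕ} (e : Fin n → F) {w w' : Fin n → F} {c c' : F} (hw : w = w')
    (hc : c = c') : Eelt q e w c = Eelt q e w' c' := by
  rw [hw, hc]

/-- `E(0,0) = 1` -/
theorem heisb_Eelt_one (hF : Fintype.card F = q ^ 2) {n : ℕ} (e : Fin n → F)
    (hee : Cfsg.hermForm n F q e e = 0) : Eelt q e 0 0 = 1 := by
  rw [Eelt_zero_eq_utv hF e hee, Helper13.utv_zero e hee]

/-- the inverse of `E(w,c)` -/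
theorem heisb_Eelt_inv (hF : Fintype.card F = q ^ 2) {n : ℕ} (e w : Fin n → F)
    (hee : Cfsg.hermForm n F q e e = 0) (hwe : Cfsg.hermForm n F q w e = 0) (c : F) :
    (Eelt q e w c)⁻¹ = Eelt q e (-w) (-c - Cfsg.hermForm n F q w w) := by
  have hnwe : Cfsg.hermForm n F q (-w) e = 0 := by rw [hermForm_neg_left, hwe, neg_zero]
  apply inv_eq_of_mul_eq_one_right
  rw [Eelt_mul hF e w (-w) hee hwe hnwe, hermForm_neg_left, ← heisb_Eelt_one hF e hee]
  exact heisb_Eelt_congr e (add_neg_cancel w) (by ring)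

/-- `E(w,c) E(w,c')⁻¹` is the root element with parameter `c - c'` -/
theorem heisb_mul_inv (hF : Fintype.card F = q ^ 2) {n : ℕ} (e w : Fin n → F)
    (hee : Cfsg.hermForm n F q e e = 0) (hwe : Cfsg.hermForm n F q w e = 0) (c c' : F) :
    Eelt q e w c * (Eelt q e w c')⁻¹ = utv q e (c - c') := by
  have hnwe : Cfsg.hermForm n F q (-w) e = 0 := by rw [hermForm_neg_left, hwe, neg_zero]
  rw [heisb_Eelt_inv hF e w hee hwe, Eelt_mul hF e w (-w) hee hwe hnwe, hermForm_neg_left,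
    ← Eelt_zero_eq_utv hF e hee]
  exact heisb_Eelt_congr e (add_neg_cancel w) (by ring)

/-- conjugation of `E(w,c)` by `E(v,d)` -/
theorem heisb_conj (hF : Fintype.card F = q ^ 2) {n : ℕ} (e v w : Fin n → F)
    (hee : Cfsg.hermForm n F q e e = 0) (hve : Cfsg.hermForm n F q v e = 0)
    (hwe : Cfsg.hermForm n F q w e = 0) (d c : F) :
    (Eelt q e v d)⁻¹ * Eelt q e w c * Eelt q e v d =
      Eelt q e w (c + Cfsg.hermForm n F q w v - Cfsg.hermForm n F q v w) := by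
  have hnve : Cfsg.hermForm n F q (-v) e = 0 := by rw [hermForm_neg_left, hve, neg_zero]
  have hsum : Cfsg.hermForm n F q (-v + w) e = 0 := by
    rw [Helper13.hermForm_add_left, hnve, hwe, add_zero]
  rw [heisb_Eelt_inv hF e v hee hve, Eelt_mul hF e (-v) w hee hnve hwe,
    Eelt_mul hF e (-v + w) v hee hsum hve]
  apply heisb_Eelt_congr e
  · abel
  · rw [hermForm_neg_right hF, Helper13.hermForm_add_right hF, hermForm_neg_right hF]
    ring

/-- rational vectors supported off the first two coordinates -/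
def heisbLam (q m : ℕ) (F : Type*) [Field F] : Set (Fin (m + 2) → F) :=
  {w | w 0 = 0 ∧ w 1 = 0 ∧ ∀ k, (w k) ^ q = w k}

theorem heisb_herm_e (hq : q ≠ 0) {m : ℕ} (e : Fin (m + 2) → F)
    (hsupp : ∀ k : Fin (m + 2), k ≠ 0 → k ≠ 1 → e k = 0) {w : Fin (m + 2) → F}
    (hw : w ∈ heisbLam q m F) : Cfsg.hermForm (m + 2) F q w e = 0 := by
  unfold Cfsg.hermForm
  apply Finset.sum_eq_zero
  intro k _
  by_cases h0 : k = 0
  · rw [h0, hw.1, zero_mul]
  by_cases h1 : k = 1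
  · rw [h1, hw.2.1, zero_mul]
  rw [hsupp k h0 h1, zero_pow hq, mul_zero]

theorem heisb_herm_symm {m : ℕ} {w w' : Fin (m + 2) → F} (hw : w ∈ heisbLam q m F)
    (hw' : w' ∈ heisbLam q m F) :
    Cfsg.hermForm (m + 2) F q w w' = Cfsg.hermForm (m + 2) F q w' w := by
  unfold Cfsg.hermForm
  apply Finset.sum_congr rfl
  intro k _
  rw [hw.2.2 k, hw'.2.2 k, mul_comm]

theorem heisb_zero_mem (hq : q ≠ 0) {m : ℕ} : (0 : Fin (m + 2) → F) ∈ heisbLam q m F :=
  ⟨rfl, rfl, fun k => by rw [Pi.zero_apply, zero_pow hq]⟩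

theorem heisb_add_mem (hF : Fintype.card F = q ^ 2) {m : ℕ} {w w' : Fin (m + 2) → F}
    (hw : w ∈ heisbLam q m F) (hw' : w' ∈ heisbLam q m F) : w + w' ∈ heisbLam q m F :=
  ⟨by rw [Pi.add_apply, hw.1, hw'.1, add_zero], by rw [Pi.add_apply, hw.2.1, hw'.2.1, add_zero],
    fun k => by rw [Pi.add_apply, frob_add hF, hw.2.2, hw'.2.2]⟩

theorem heisb_neg_mem (hF : Fintype.card F = q ^ 2) {m : ℕ} {w : Fin (m + 2) → F}
    (hw : w ∈ heisbLam q m F) : -w ∈ heisbLam q m F :=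
  ⟨by rw [Pi.neg_apply, hw.1, neg_zero], by rw [Pi.neg_apply, hw.2.1, neg_zero],
    fun k => by rw [Pi.neg_apply, frob_neg hF, hw.2.2]⟩

theorem heisb_pad2_zero {m : ℕ} (v : Fin m → F) : pad2 v 0 = 0 := rfl

theorem heisb_pad2_one {m : ℕ} (v : Fin m → F) : pad2 v 1 = 0 := by
  rw [← Fin.succ_zero_eq_one]
  rfl

theorem heisb_pad2_succ {m : ℕ} (v : Fin m → F) (k : Fin m) : pad2 v k.succ.succ = v k := rfl

theorem heisb_pad2_mem (hq : q ≠ 0) {m : ℕ} (v : Fin m → F) (hv : ∀ k, (v k) ^ q = v k) :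
    pad2 v ∈ heisbLam q m F := by
  refine ⟨heisb_pad2_zero v, heisb_pad2_one v, fun k => ?_⟩
  refine Fin.cases ?_ (fun k' => ?_) k
  · rw [heisb_pad2_zero, zero_pow hq]
  refine Fin.cases ?_ (fun k'' => ?_) k'
  · rw [Fin.succ_zero_eq_one, heisb_pad2_one, zero_pow hq]
  · rw [heisb_pad2_succ, hv]

theorem heisb_herm_pad2 {m : ℕ} (u v : Fin m → F) :
    Cfsg.hermForm (m + 2) F q (pad2 u) (pad2 v) = ∑ l, u l * (v l) ^ q := by
  unfold Cfsg.hermForm
  rw [Fin.sum_univ_succ, Fin.sum_univ_succ, heisb_pad2_zero, Fin.succ_zero_eq_one, heisb_pad2_one,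
    zero_mul, zero_mul, zero_add, zero_add]
  apply Finset.sum_congr rfl
  intro l _
  rw [heisb_pad2_succ, heisb_pad2_succ]

/-- a solution of `c + c^q + h(v,v) = 0` -/
theorem heisb_exists_c (hF : Fintype.card F = q ^ 2) {n : ℕ} (v : Fin n → F) :
    ∃ c : F, c + c ^ q + Cfsg.hermForm n F q v v = 0 := by
  obtain ⟨c, hc⟩ := exists_trace_eq' hF (-Cfsg.hermForm n F q v v)
    (by rw [frob_neg hF, hermForm_self_pow hF])
  exact ⟨c, by rw [hc, neg_add_cancel]⟩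

noncomputable def heisbC (hF : Fintype.card F = q ^ 2) {n : ℕ} (v : Fin n → F) : F :=
  Classical.choose (heisb_exists_c hF v)

theorem heisbC_spec (hF : Fintype.card F = q ^ 2) {n : ℕ} (v : Fin n → F) :
    heisbC hF v + (heisbC hF v) ^ q + Cfsg.hermForm n F q v v = 0 :=
  Classical.choose_spec (heisb_exists_c hF v)

/-- the abelian group `Q1` -/
def heisbQ1 (hF : Fintype.card F = q ^ 2) {m : ℕ} (e : Fin (m + 2) → F)
    (hee : Cfsg.hermForm (m + 2) F q e e = 0)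
    (hsupp : ∀ k : Fin (m + 2), k ≠ 0 → k ≠ 1 → e k = 0) : Subgroup (SUg F (m + 2) q) where
  carrier := {g | ∃ w ∈ heisbLam q m F, ∃ c : F,
    c + c ^ q + Cfsg.hermForm (m + 2) F q w w = 0 ∧ (g : GL (Fin (m + 2)) F) = Eelt q e w c}
  mul_mem' := by
    rintro a b ⟨w, hw, c, hc, ha⟩ ⟨w', hw', c', hc', hb⟩
    have hq0 : q ≠ 0 := by have := q_ge_two hF; omega
    have hwe := heisb_herm_e hq0 e hsupp hw
    have hw'e := heisb_herm_e hq0 e hsupp hw'
    refine ⟨w + w', heisb_add_mem hF hw hw', c + c' - Cfsg.hermForm (m + 2) F q w' w, ?_, ?_⟩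
    · rw [frob_sub hF, frob_add hF, Helper13.hermForm_conj hF, Helper13.hermForm_add_left,
        Helper13.hermForm_add_right hF, Helper13.hermForm_add_right hF]
      linear_combination hc + hc'
    · rw [Subgroup.coe_mul, ha, hb, Eelt_mul hF e w w' hee hwe hw'e]
  one_mem' := by
    have hq0 : q ≠ 0 := by have := q_ge_two hF; omega
    refine ⟨0, heisb_zero_mem hq0, 0, ?_, ?_⟩
    · rw [hermForm_zero_left, zero_pow hq0, add_zero, add_zero]
    · rw [heisb_Eelt_one hF e hee]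
      rfl
  inv_mem' := by
    rintro a ⟨w, hw, c, hc, ha⟩
    have hq0 : q ≠ 0 := by have := q_ge_two hF; omega
    have hwe := heisb_herm_e hq0 e hsupp hw
    refine ⟨-w, heisb_neg_mem hF hw, -c - Cfsg.hermForm (m + 2) F q w w, ?_, ?_⟩
    · rw [frob_sub hF, frob_neg hF, hermForm_self_pow hF, hermForm_neg_left, hermForm_neg_right hF]
      linear_combination (-1 : F) * hc
    · rw [Subgroup.coe_inv, ha, heisb_Eelt_inv hF e w hee hwe]

/-- auxiliary: the scalar for the separating element -/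
theorem heisb_exists_s (hF : Fintype.card F = q ^ 2) (θ : F) (hθ : θ ^ q ≠ θ) (c0 : F)
    (hc0 : c0 + c0 ^ q = 0) (d : F) (hd : d ≠ 0) (hdq : d ^ q = d) :
    ∃ s : F, s ^ q = s ∧ (θ ^ q - θ) * (s * d) = c0 := by
  have hθ' : θ ^ q - θ ≠ 0 := sub_ne_zero.mpr hθ
  have hc0q : c0 ^ q = -c0 := by linear_combination hc0
  refine ⟨c0 / (θ ^ q - θ) / d, ?_, ?_⟩
  · rw [div_pow, div_pow, frob_sub hF, Helper13.pow_q_pow_q hF, hc0q, hdq, neg_div, ← div_neg,
      neg_sub]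
  · field_simp

/-- the whole C-HEIS statement (backup copy of `exists_heis_data`) -/
theorem heisb_main (hF : Fintype.card F = q ^ 2) (m : ℕ) (hm : 1 ≤ m) (e f : Fin (m + 2) → F)
    (hee : Cfsg.hermForm (m + 2) F q e e = 0) (hff : Cfsg.hermForm (m + 2) F q f f = 0)
    (hef : Cfsg.hermForm (m + 2) F q e f = 1)
    (hsupp : ∀ k : Fin (m + 2), k ≠ 0 → k ≠ 1 → e k = 0 ∧ f k = 0) :
    ∃ (Q1 : Subgroup (SUg F (m + 2) q)) (ι : Type) (_ : Fintype ι) (y : ι → SUg F (m + 2) q),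
      Zgrp e ≤ Q1 ∧ (∀ a ∈ Q1, ∀ b ∈ Q1, a * b = b * a) ∧ Fintype.card ι = q ^ m ∧
      (∀ i, ∀ z ∈ (Zgrp e : Subgroup (SUg F (m + 2) q)), y i * z = z * y i) ∧
      (∀ i, ∀ a ∈ Q1, (y i)⁻¹ * a * y i * a⁻¹ ∈ (Zgrp e : Subgroup (SUg F (m + 2) q))) ∧
      (∀ i j, i ≠ j → ∀ z ∈ (Zgrp e : Subgroup (SUg F (m + 2) q)),
        ∃ a ∈ Q1, (y i)⁻¹ * a * y i * ((y j)⁻¹ * a * y j)⁻¹ = z) := by
  classical
  have hq0 : q ≠ 0 := by have := q_ge_two hF; omega
  have hsuppe : ∀ k : Fin (m + 2), k ≠ 0 → k ≠ 1 → e k = 0 := fun k h0 h1 => (hsupp k h0 h1).1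
  obtain ⟨θ, hθ⟩ := exists_pow_q_ne hF
  have hcardK : Nat.card {x : F // x ^ q = x} = q := SURoot.card_fixed hF
  obtain ⟨φ⟩ : Nonempty (Fin q ≃ {x : F // x ^ q = x}) := ⟨(Finite.equivFinOfCardEq hcardK).symm⟩
  obtain ⟨wv, hwvdef⟩ : ∃ wv : (Fin m → Fin q) → (Fin (m + 2) → F),
      ∀ i, wv i = pad2 (fun k => ((φ (i k) : F))) := ⟨_, fun _ => rfl⟩
  have hwv : ∀ i, wv i ∈ heisbLam q m F := fun i => by
    rw [hwvdef]
    exact heisb_pad2_mem hq0 _ (fun k => (φ (i k)).2)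
  have hwve : ∀ i, Cfsg.hermForm (m + 2) F q (θ • wv i) e = 0 := fun i => by
    rw [Helper13.hermForm_smul_left, heisb_herm_e hq0 e hsuppe (hwv i), mul_zero]
  obtain ⟨y, hy⟩ : ∃ y : (Fin m → Fin q) → SUg F (m + 2) q,
      ∀ i, (y i : GL (Fin (m + 2)) F) = Eelt q e (θ • wv i) (heisbC hF (θ • wv i)) :=
    ⟨fun i => ⟨Eelt q e (θ • wv i) (heisbC hF (θ • wv i)),
      Eelt_mem_suGL hF e _ hee (hwve i) _ (heisbC_spec hF _)⟩, fun _ => rfl⟩
  -- the key formula
  have hkey : ∀ (i : Fin m → Fin q) (w : Fin (m + 2) → F) (_ : w ∈ heisbLam q m F) (c : F),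
      ((y i : GL (Fin (m + 2)) F))⁻¹ * Eelt q e w c * (y i : GL (Fin (m + 2)) F) =
        Eelt q e w (c + (θ ^ q - θ) * Cfsg.hermForm (m + 2) F q w (wv i)) := by
    intro i w hw c
    rw [hy, heisb_conj hF e _ w hee (hwve i) (heisb_herm_e hq0 e hsuppe hw)]
    apply heisb_Eelt_congr e rfl
    rw [Helper13.hermForm_smul_right, Helper13.hermForm_smul_left, heisb_herm_symm (hwv i) hw]
    ring
  refine ⟨heisbQ1 hF e hee hsuppe, Fin m → Fin q, inferInstance, y, ?_, ?_, ?_, ?_, ?_, ?_⟩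
  · -- `Zgrp e ≤ Q1`
    intro z hz
    obtain ⟨c0, hc0, hzc⟩ := (mem_Zgrp_iff hF e hee z).mp hz
    refine ⟨0, heisb_zero_mem hq0, c0, ?_, ?_⟩
    · rw [hermForm_zero_left, add_zero, hc0]
    · rw [hzc, Eelt_zero_eq_utv hF e hee]
  · -- abelian
    rintro a ⟨w, hw, c, hc, ha⟩ b ⟨w', hw', c', hc', hb⟩
    apply Subtype.ext
    rw [Subgroup.coe_mul, Subgroup.coe_mul, ha, hb,
      Eelt_mul hF e w w' hee (heisb_herm_e hq0 e hsuppe hw) (heisb_herm_e hq0 e hsuppe hw'),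
      Eelt_mul hF e w' w hee (heisb_herm_e hq0 e hsuppe hw') (heisb_herm_e hq0 e hsuppe hw)]
    apply heisb_Eelt_congr e (add_comm w w')
    rw [heisb_herm_symm hw hw']
    ring
  · -- card
    simp
  · -- `y i` commutes with `Zgrp e`
    intro i z hz
    obtain ⟨c0, hc0, hzc⟩ := (mem_Zgrp_iff hF e hee z).mp hz
    apply Subtype.ext
    rw [Subgroup.coe_mul, Subgroup.coe_mul, hzc, ← Eelt_zero_eq_utv hF e hee, hy,
      Eelt_mul hF e _ 0 hee (hwve i) (hermForm_zero_left e),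
      Eelt_mul hF e 0 _ hee (hermForm_zero_left e) (hwve i)]
    apply heisb_Eelt_congr e (by rw [add_zero, zero_add])
    rw [hermForm_zero_left, hermForm_zero_right hF]
    ring
  · -- commutators land in `Zgrp e`
    rintro i a ⟨w, hw, c, hc, ha⟩
    rw [mem_Zgrp_iff hF e hee]
    have hwe := heisb_herm_e hq0 e hsuppe hw
    refine ⟨(θ ^ q - θ) * Cfsg.hermForm (m + 2) F q w (wv i), ?_, ?_⟩
    · rw [mul_pow, frob_sub hF, Helper13.pow_q_pow_q hF, Helper13.hermForm_conj hF,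
        heisb_herm_symm (hwv i) hw]
      ring
    · rw [Subgroup.coe_mul, Subgroup.coe_mul, Subgroup.coe_mul, Subgroup.coe_inv,
        Subgroup.coe_inv, ha, hkey i w hw c, heisb_mul_inv hF e w hee hwe]
      congr 1
      ring
  · -- separation
    intro i j hij z hz
    obtain ⟨c0, hc0, hzc⟩ := (mem_Zgrp_iff hF e hee z).mp hz
    obtain ⟨k, hk⟩ : ∃ k, i k ≠ j k := by
      by_contra hcon
      push Not at hcon
      exact hij (funext hcon)
    have hd : (φ (i k) : F) - (φ (j k) : F) ≠ 0 := by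
      intro h0
      apply hk
      apply φ.injective
      exact Subtype.ext (sub_eq_zero.mp h0)
    have hdq : ((φ (i k) : F) - (φ (j k) : F)) ^ q = (φ (i k) : F) - (φ (j k) : F) := by
      rw [frob_sub hF, (φ (i k)).2, (φ (j k)).2]
    obtain ⟨s, hsq, hs⟩ := heisb_exists_s hF θ hθ c0 hc0 _ hd hdq
    have hu : ∀ l, ((Pi.single k s : Fin m → F) l) ^ q = (Pi.single k s : Fin m → F) l := by
      intro l
      by_cases hl : l = k
      · rw [hl, Pi.single_eq_same, hsq]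
      · rw [Pi.single_eq_of_ne hl, zero_pow hq0]
    have hw : pad2 (Pi.single k s : Fin m → F) ∈ heisbLam q m F := heisb_pad2_mem hq0 _ hu
    have hwe := heisb_herm_e hq0 e hsuppe hw
    have hinner : ∀ i' : Fin m → Fin q,
        Cfsg.hermForm (m + 2) F q (pad2 (Pi.single k s : Fin m → F)) (wv i') =
          s * (φ (i' k) : F) := by
      intro i'
      rw [hwvdef, heisb_herm_pad2, Finset.sum_eq_single k]
      · rw [Pi.single_eq_same, (φ (i' k)).2]
      · intro l _ hl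
        rw [Pi.single_eq_of_ne hl, zero_mul]
      · intro h
        exact absurd (Finset.mem_univ k) h
    obtain ⟨a, haQ, hacoe⟩ : ∃ a : SUg F (m + 2) q, a ∈ heisbQ1 hF e hee hsuppe ∧
        (a : GL (Fin (m + 2)) F) = Eelt q e (pad2 (Pi.single k s : Fin m → F))
          (heisbC hF (pad2 (Pi.single k s : Fin m → F))) :=
      ⟨⟨_, Eelt_mem_suGL hF e _ hee hwe _ (heisbC_spec hF _)⟩,
        ⟨_, hw, _, heisbC_spec hF _, rfl⟩, rfl⟩
    refine ⟨a, haQ, ?_⟩
    apply Subtype.ext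
    rw [hzc]
    simp only [Subgroup.coe_mul, Subgroup.coe_inv]
    rw [hacoe, hkey i _ hw, hkey j _ hw, heisb_mul_inv hF e _ hee hwe, hinner i, hinner j]
    congr 1
    linear_combination hs

end concrete

end Cfsg.Agent.Lib.Helper6.Ls
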