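import Mathlib
import Cfsg.Prelude.Def_PLocal
import Cfsg.Agent.Lib.Helper24.Omega1

/-!
# Regular `p`-groups -- helper97

`Reg p m G` : the level-`m` regularity identity `(ab)^(p^m) = a^(p^m) b^(p^m) c` with `c` a product
of `p^m`-th powers of elements of `⟨a,b⟩'`.

* `lemmaA` : under `Reg p m G`, every element of `powerClosure p m H` is a `p^m`-th power of an
  element of `H`.
* `lemmaB` : under `Reg p m G`, `(y^q)⁻¹ w⁻¹ y^q w ∈ ℧_m(H')` for `y, w ∈ H`.
* `comm_powerClosure_le` : `⁅℧_m(H), ℧_m(H)⁆ ≤ ℧_m(H')`.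
* `reg_succ` : `Reg p 1 G → Reg p n G → Reg p (n+1) G`.
-/

set_option autoImplicit false
set_option linter.style.haveILetI false

namespace Cfsg.Agent.Lib.Helper97.Regular

open scoped commutatorElement

variable {G : Type*} [Group G]

/-- level-`m` regularity identity -/
def Reg (p m : ℕ) (G : Type*) [Group G] : Prop :=
  ∀ a b : G, ∃ c ∈ Cfsg.powerClosure p m
      ⁅Subgroup.closure ({a, b} : Set G), Subgroup.closure ({a, b} : Set G)⁆,
    (a * b) ^ (p ^ m) = a ^ (p ^ m) * b ^ (p ^ m) * c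

theorem powerClosure_mono (p m : ℕ) {H K : Subgroup G} (h : H ≤ K) :
    Cfsg.powerClosure p m H ≤ Cfsg.powerClosure p m K := by
  unfold Cfsg.powerClosure
  apply Subgroup.closure_mono
  rintro y ⟨x, hx, rfl⟩
  exact ⟨x, h hx, rfl⟩

theorem pow_mem_powerClosure (p m : ℕ) {H : Subgroup G} {x : G} (hx : x ∈ H) :
    x ^ (p ^ m) ∈ Cfsg.powerClosure p m H :=
  Subgroup.subset_closure ⟨x, hx, rfl⟩

/-- a nontrivial subgroup of a finite `p`-group strictly contains its derived subgroup -/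
theorem comm_self_ne [Finite G] {p : ℕ} [Fact p.Prime] (hG : IsPGroup p G) (L : Subgroup G)
    (hL : L ≠ ⊥) : ⁅L, L⁆ ≠ L := by
  intro h
  have hlcs : ∀ n, L ≤ Subgroup.lowerCentralSeries (⊤ : Subgroup G) n := by
    intro n
    induction n with
    | zero => rw [Subgroup.lowerCentralSeries_zero]; exact le_top
    | succ n ih =>
      rw [Subgroup.lowerCentralSeries_succ]
      calc L = ⁅L, L⁆ := h.symm
        _ ≤ ⁅Subgroup.lowerCentralSeries (⊤ : Subgroup G) n, (⊤ : Subgroup G)⁆ :=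
            Subgroup.commutator_mono ih le_top
  haveI : Group.IsNilpotent G := hG.isNilpotent
  obtain ⟨n, hn⟩ := Subgroup.nilpotent_iff_lowerCentralSeries.mp (inferInstance : Group.IsNilpotent G)
  apply hL
  rw [eq_bot_iff, ← hn]; exact hlcs n

/-- a subgroup of a finite `p`-group generated by `u` and an element of its derived subgroup is
abelian -/
theorem comm_of_closure_pair [Finite G] {p : ℕ} [Fact p.Prime] (hG : IsPGroup p G)
    (H : Subgroup G) (u e : G) (hu : u ∈ H) (he : e ∈ ⁅H, H⁆)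
    (hcl : Subgroup.closure ({u, e} : Set G) = H) : ∀ a ∈ H, ∀ b ∈ H, a * b = b * a := by
  have heH : e ∈ H := H.commutator_le_self he
  obtain ⟨u', hu'⟩ : ∃ u' : H, u' = ⟨u, hu⟩ := ⟨_, rfl⟩
  obtain ⟨e', he'⟩ : ∃ e' : H, e' = ⟨e, heH⟩ := ⟨_, rfl⟩
  have h1 : commutator H ≤ frattini H :=
    Cfsg.Agent.Lib.Helper24.commutator_le_frattini_of_isPGroup (hG.to_subgroup H)
  have he'c : e' ∈ commutator H := by
    rw [← Subgroup.map_subtype_commutator H] at he
    obtain ⟨y, hy, hye⟩ := he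
    have : y = e' := by rw [he']; exact Subtype.ext hye
    rw [← this]; exact hy
  have hcl' : Subgroup.closure ({u', e'} : Set H) = ⊤ := by
    apply Subgroup.map_injective H.subtype_injective
    rw [MonoidHom.map_closure, ← MonoidHom.range_eq_map, Subgroup.range_subtype, Set.image_pair,
      hu', he']
    exact hcl
  have h2 : Subgroup.zpowers u' ⊔ frattini H = ⊤ := by
    rw [eq_top_iff, ← hcl', Subgroup.closure_le]
    intro x hx
    rcases hx with hx | hx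
    · rw [hx]
      exact (le_sup_left : Subgroup.zpowers u' ≤ Subgroup.zpowers u' ⊔ frattini H)
        (Subgroup.mem_zpowers u')
    · rw [Set.mem_singleton_iff] at hx
      rw [hx]
      exact (le_sup_right : frattini H ≤ Subgroup.zpowers u' ⊔ frattini H) (h1 he'c)
  have h3 := frattini_nongenerating h2
  intro a ha b hb
  have ha' : (⟨a, ha⟩ : H) ∈ Subgroup.zpowers u' := h3 ▸ Subgroup.mem_top _
  have hb' : (⟨b, hb⟩ : H) ∈ Subgroup.zpowers u' := h3 ▸ Subgroup.mem_top _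
  obtain ⟨i, hi⟩ := ha'
  obtain ⟨j, hj⟩ := hb'
  have h4 : (⟨a, ha⟩ : H) * ⟨b, hb⟩ = ⟨b, hb⟩ * ⟨a, ha⟩ := by
    rw [← hi, ← hj]
    exact ((Commute.refl u').zpow_zpow i j).eq
  exact congrArg Subtype.val h4

/-- **Lemma A**: under level-`m` regularity the `p^m`-th powers of the elements of a subgroup form
a subgroup. -/
theorem lemmaA [Finite G] {p : ℕ} [Fact p.Prime] (hG : IsPGroup p G) (m : ℕ) (hreg : Reg p m G) :
    ∀ n : ℕ, ∀ H : Subgroup G, Nat.card H = n → ∀ g ∈ Cfsg.powerClosure p m H,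
      ∃ x ∈ H, g = x ^ (p ^ m) := by
  intro n
  induction n using Nat.strong_induction_on with
  | _ n ih =>
  intro H hn
  have hmul : ∀ x ∈ H, ∀ y ∈ H, ∃ t ∈ H, x ^ (p ^ m) * y ^ (p ^ m) = t ^ (p ^ m) := by
    intro x hx y hy
    obtain ⟨c, hc, hxy⟩ := hreg x y
    obtain ⟨L, hL⟩ : ∃ L : Subgroup G, L = Subgroup.closure ({x, y} : Set G) := ⟨_, rfl⟩
    rw [← hL] at hc
    have hLH : L ≤ H := by
      rw [hL, Subgroup.closure_le]
      intro z hz
      rcases hz with hz | hz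
      · rw [hz]; exact hx
      · rw [Set.mem_singleton_iff] at hz; rw [hz]; exact hy
    by_cases hL1 : L = ⊥
    · have hx1 : x = 1 := by
        have : x ∈ L := by rw [hL]; exact Subgroup.subset_closure (by simp)
        rw [hL1] at this; exact Subgroup.mem_bot.mp this
      have hy1 : y = 1 := by
        have : y ∈ L := by rw [hL]; exact Subgroup.subset_closure (by simp)
        rw [hL1] at this; exact Subgroup.mem_bot.mp this
      exact ⟨1, one_mem H, by rw [hx1, hy1]; simp⟩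
    have hL'L : ⁅L, L⁆ ≤ L := L.commutator_le_self
    have hL'ne : ⁅L, L⁆ ≠ L := comm_self_ne hG L hL1
    have hcardL' : Nat.card (⁅L, L⁆ : Subgroup G) < n := by
      rw [← hn]
      apply lt_of_lt_of_le _ (Subgroup.card_le_of_le hLH)
      apply lt_of_le_of_ne (Subgroup.card_le_of_le hL'L)
      intro h
      exact hL'ne (Subgroup.eq_of_le_of_card_ge hL'L (le_of_eq h.symm))
    obtain ⟨e, heL', hce⟩ := ih _ hcardL' ⁅L, L⁆ rfl c⁻¹ (inv_mem hc)
    have h1 : x ^ (p ^ m) * y ^ (p ^ m) = (x * y) ^ (p ^ m) * e ^ (p ^ m) := by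
      rw [← hce, hxy]; group
    obtain ⟨K, hK⟩ : ∃ K : Subgroup G, K = Subgroup.closure ({x * y, e} : Set G) := ⟨_, rfl⟩
    have heH : e ∈ H := hLH (hL'L heL')
    have hKH : K ≤ H := by
      rw [hK, Subgroup.closure_le]
      intro z hz
      rcases hz with hz | hz
      · rw [hz]; exact mul_mem hx hy
      · rw [Set.mem_singleton_iff] at hz; rw [hz]; exact heH
    by_cases hKeq : K = H
    · have hcomm := comm_of_closure_pair hG H (x * y) e (mul_mem hx hy)
        (Subgroup.commutator_mono hLH hLH heL') (hK ▸ hKeq)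
      have h2 : Commute (x * y) e := hcomm _ (mul_mem hx hy) _ heH
      exact ⟨x * y * e, mul_mem (mul_mem hx hy) heH, by rw [h1, h2.mul_pow]⟩
    · have hcardK : Nat.card K < n := by
        rw [← hn]
        apply lt_of_le_of_ne (Subgroup.card_le_of_le hKH)
        intro h
        exact hKeq (Subgroup.eq_of_le_of_card_ge hKH (le_of_eq h.symm))
      have h2 : (x * y) ^ (p ^ m) * e ^ (p ^ m) ∈ Cfsg.powerClosure p m K := by
        apply mul_mem
        · apply pow_mem_powerClosure; rw [hK]; exact Subgroup.subset_closure (by simp)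
        · apply pow_mem_powerClosure; rw [hK]; exact Subgroup.subset_closure (by simp)
      obtain ⟨t, htK, ht⟩ := ih _ hcardK K rfl _ h2
      exact ⟨t, hKH htK, by rw [h1, ht]⟩
  intro g hg
  unfold Cfsg.powerClosure at hg
  induction hg using Subgroup.closure_induction with
  | mem y hy =>
    obtain ⟨x, hx, rfl⟩ := hy
    exact ⟨x, hx, rfl⟩
  | one => exact ⟨1, one_mem H, by simp⟩
  | mul a b _ _ iha ihb =>
    obtain ⟨x, hx, rfl⟩ := iha
    obtain ⟨y, hy, rfl⟩ := ihb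
    obtain ⟨t, ht, h⟩ := hmul x hx y hy
    exact ⟨t, ht, h⟩
  | inv a _ iha =>
    obtain ⟨x, hx, rfl⟩ := iha
    exact ⟨x⁻¹, inv_mem hx, by rw [inv_pow]⟩

/-- **Lemma B** -/
theorem lemmaB {p : ℕ} (m : ℕ) (hreg : Reg p m G) (H : Subgroup G) (y w : G) (hy : y ∈ H)
    (hw : w ∈ H) :
    (y ^ (p ^ m))⁻¹ * w⁻¹ * y ^ (p ^ m) * w ∈ Cfsg.powerClosure p m ⁅H, H⁆ := by
  obtain ⟨k, hk⟩ : ∃ k : G, k = ⁅y⁻¹, w⁻¹⁆ := ⟨_, rfl⟩
  have hkH : k ∈ ⁅H, H⁆ := by
    rw [hk]; exact Subgroup.commutator_mem_commutator (inv_mem hy) (inv_mem hw)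
  obtain ⟨c, hc, hyk⟩ := hreg y k
  have hcl : Subgroup.closure ({y, k} : Set G) ≤ H := by
    rw [Subgroup.closure_le]
    intro z hz
    rcases hz with hz | hz
    · rw [hz]; exact hy
    · rw [Set.mem_singleton_iff] at hz; rw [hz]; exact H.commutator_le_self hkH
  have hc' : c ∈ Cfsg.powerClosure p m ⁅H, H⁆ :=
    powerClosure_mono p m (Subgroup.commutator_mono hcl hcl) hc
  have h1 : y * k = w⁻¹ * y * w := by rw [hk, commutatorElement_def]; group
  have h2 : (w⁻¹ * y * w) ^ (p ^ m) = w⁻¹ * y ^ (p ^ m) * w := by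
    have := conj_pow (a := w⁻¹) (b := y) (i := p ^ m)
    rw [inv_inv] at this
    exact this
  rw [h1, h2] at hyk
  have h3 : (y ^ (p ^ m))⁻¹ * w⁻¹ * y ^ (p ^ m) * w = k ^ (p ^ m) * c := by
    have : (y ^ (p ^ m))⁻¹ * w⁻¹ * y ^ (p ^ m) * w = (y ^ (p ^ m))⁻¹ * (w⁻¹ * y ^ (p ^ m) * w) := by
      group
    rw [this, hyk]; group
  rw [h3]
  exact mul_mem (pow_mem_powerClosure p m hkH) hc'

theorem comm_powerClosure_le [Finite G] {p : ℕ} [Fact p.Prime] (hG : IsPGroup p G) (m : ℕ)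
    (hreg : Reg p m G) (H : Subgroup G) :
    ⁅Cfsg.powerClosure p m H, Cfsg.powerClosure p m H⁆ ≤ Cfsg.powerClosure p m ⁅H, H⁆ := by
  rw [Subgroup.commutator_le]
  intro a ha b hb
  obtain ⟨x, hx, rfl⟩ := lemmaA hG m hreg _ H rfl a ha
  obtain ⟨y, hy, rfl⟩ := lemmaA hG m hreg _ H rfl b hb
  have h1 := lemmaB m hreg H x⁻¹ ((y ^ (p ^ m))⁻¹) (inv_mem hx) (inv_mem (pow_mem hy _))
  have h2 : ((x⁻¹) ^ (p ^ m))⁻¹ * ((y ^ (p ^ m))⁻¹)⁻¹ * (x⁻¹) ^ (p ^ m) * (y ^ (p ^ m))⁻¹ =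
      ⁅x ^ (p ^ m), y ^ (p ^ m)⁆ := by
    rw [commutatorElement_def, inv_pow, inv_inv, inv_inv]
  rw [h2] at h1
  exact h1

/-- `℧₁` of the derived subgroup of a subgroup of `℧_n(L)` lies in `℧_{n+1}(L')`. -/
theorem aux_le [Finite G] {p : ℕ} [Fact p.Prime] (hG : IsPGroup p G) (n : ℕ)
    (hregn : Reg p n G) (L M : Subgroup G) (hM : M ≤ Cfsg.powerClosure p n L) :
    Cfsg.powerClosure p 1 ⁅M, M⁆ ≤ Cfsg.powerClosure p (n + 1) ⁅L, L⁆ := by
  have h1 : ⁅M, M⁆ ≤ Cfsg.powerClosure p n ⁅L, L⁆ :=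
    (Subgroup.commutator_mono hM hM).trans (comm_powerClosure_le hG n hregn L)
  unfold Cfsg.powerClosure
  rw [Subgroup.closure_le]
  rintro y ⟨t, ht, rfl⟩
  obtain ⟨s, hs, rfl⟩ := lemmaA hG n hregn _ ⁅L, L⁆ rfl t (h1 ht)
  apply Subgroup.subset_closure
  refine ⟨s, hs, ?_⟩
  rw [← pow_mul, pow_one, pow_succ]

theorem reg_succ [Finite G] {p : ℕ} [Fact p.Prime] (hG : IsPGroup p G) (n : ℕ)
    (hreg1 : Reg p 1 G) (hregn : Reg p n G) : Reg p (n + 1) G := by
  intro a b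
  obtain ⟨L, hL⟩ : ∃ L : Subgroup G, L = Subgroup.closure ({a, b} : Set G) := ⟨_, rfl⟩
  rw [← hL]
  have haL : a ∈ L := by rw [hL]; exact Subgroup.subset_closure (by simp)
  have hbL : b ∈ L := by rw [hL]; exact Subgroup.subset_closure (by simp)
  obtain ⟨c, hc, hab⟩ := hregn a b
  rw [← hL] at hc
  obtain ⟨z, hzL', rfl⟩ := lemmaA hG n hregn _ ⁅L, L⁆ rfl c hc
  have hzL : z ∈ L := L.commutator_le_self hzL'
  obtain ⟨u, hu⟩ : ∃ u : G, u = a ^ (p ^ n) := ⟨_, rfl⟩
  obtain ⟨v, hv⟩ : ∃ v : G, v = b ^ (p ^ n) := ⟨_, rfl⟩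
  obtain ⟨w, hw⟩ : ∃ w : G, w = z ^ (p ^ n) := ⟨_, rfl⟩
  rw [← hu, ← hv, ← hw] at hab
  have huL : u ∈ Cfsg.powerClosure p n L := by rw [hu]; exact pow_mem_powerClosure p n haL
  have hvL : v ∈ Cfsg.powerClosure p n L := by rw [hv]; exact pow_mem_powerClosure p n hbL
  have hwL : w ∈ Cfsg.powerClosure p n L := by rw [hw]; exact pow_mem_powerClosure p n hzL
  obtain ⟨d₂, hd₂, huv⟩ := hreg1 u v
  obtain ⟨d₁, hd₁, huvw⟩ := hreg1 (u * v) w
  rw [pow_one] at huv huvw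
  have hM₂ : Subgroup.closure ({u, v} : Set G) ≤ Cfsg.powerClosure p n L := by
    rw [Subgroup.closure_le]
    intro x hx
    rcases hx with hx | hx
    · rw [hx]; exact huL
    · rw [Set.mem_singleton_iff] at hx; rw [hx]; exact hvL
  have hM₁ : Subgroup.closure ({u * v, w} : Set G) ≤ Cfsg.powerClosure p n L := by
    rw [Subgroup.closure_le]
    intro x hx
    rcases hx with hx | hx
    · rw [hx]; exact mul_mem huL hvL
    · rw [Set.mem_singleton_iff] at hx; rw [hx]; exact hwL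
  have hd₂' := aux_le hG n hregn L _ hM₂ hd₂
  have hd₁' := aux_le hG n hregn L _ hM₁ hd₁
  have hwp : w ^ p ∈ Cfsg.powerClosure p (n + 1) ⁅L, L⁆ := by
    rw [hw, ← pow_mul, ← pow_succ]
    exact pow_mem_powerClosure p (n + 1) hzL'
  refine ⟨d₂ * w ^ p * d₁, mul_mem (mul_mem hd₂' hwp) hd₁', ?_⟩
  calc (a * b) ^ (p ^ (n + 1)) = ((a * b) ^ (p ^ n)) ^ p := by rw [← pow_mul, ← pow_succ]
    _ = (u * v * w) ^ p := by rw [hab]
    _ = (u * v) ^ p * w ^ p * d₁ := huvw
    _ = u ^ p * v ^ p * d₂ * w ^ p * d₁ := by rw [huv]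
    _ = a ^ (p ^ (n + 1)) * b ^ (p ^ (n + 1)) * (d₂ * w ^ p * d₁) := by
        rw [hu, hv, ← pow_mul, ← pow_mul, ← pow_succ]
        simp only [mul_assoc]

/-- level-1 regularity implies regularity at all levels -/
theorem reg_all [Finite G] {p : ℕ} [Fact p.Prime] (hG : IsPGroup p G) (hreg1 : Reg p 1 G) :
    ∀ n, Reg p n G := by
  intro n
  induction n with
  | zero =>
    intro a b
    refine ⟨1, one_mem _, ?_⟩
    simp
  | succ n ih => exact reg_succ hG n hreg1 ih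

end Cfsg.Agent.Lib.Helper97.Regular
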