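import Cfsg.Agent.Lib.Helper66.S3Defs
import Cfsg.Agent.Lib.Helper66.S3.CL
import Cfsg.Agent.Lib.Helper66.S3.D1
import Cfsg.Agent.Lib.Helper66.S3.D1p
import Cfsg.Agent.Lib.Helper66.S3.D3
import Cfsg.Agent.Lib.Helper66.S3.D4

/-! # S3 hive (S4305, owner helper66): leaf C1A, core form (helper97)

`configC_moved_1a_false` with the leaves D5 (`iSup_comp`), D7 (`comp_trans`), D9 (`comp_stab`) and SL (`lemSL`) taken as
hypotheses `hD5 hD7 hD9 hSL` (verbatim statements, `cfg` fixed).  Route = `tools/helper66/S3Proof.md`: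
`Stab_H(C) = F` for every component, `x ∈ C_H(σ) \ F` by coprime lifting over `zpowers σ`; if `σ` fixes the components then
`σ` is fixed-point-free on every `W(C)` (D9), centralises `F` (SL) and then `H`, so `τ` is fixed-point-free on `H` and `H`
is commutative; otherwise two distinct involutions `t1 t2` give `x ^ 6 ∈ F`. -/

set_option autoImplicit false
set_option linter.unusedSectionVars false

namespace Cfsg.Agent.Lib.Helper66.S3

universe u

open scoped commutatorElement

/-! ### the six elements of `A3` -/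

theorem c1a_A3_cases (b : A3) :
    b = 1 ∨ b = sig ∨ b = sig * sig ∨ b = tau ∨ b = sig * tau ∨ b = sig * sig * tau := by
  revert b
  unfold sig tau
  decide

theorem c1a_sig3 : sig * sig * sig = 1 := by unfold sig; decide
theorem c1a_tau2 : tau * tau = 1 := by unfold tau; decide

theorem c1a_A3_sub (K : Submonoid A3) (hs : sig ∈ K) (ht : tau ∈ K) (b : A3) : b ∈ K := by
  rcases c1a_A3_cases b with rfl | rfl | rfl | rfl | rfl | rfl
  · exact K.one_mem
  · exact hs
  · exact K.mul_mem hs hs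
  · exact ht
  · exact K.mul_mem hs ht
  · exact K.mul_mem (K.mul_mem hs hs) ht

theorem c1a_conj_sig (a : A3) : sig * a = a * sig ∨ sig * a = a * (sig * sig) := by
  revert a
  unfold sig
  decide

theorem c1a_prod_invol_aux (t1 t2 : A3) :
    t1 = 1 ∨ t1 = sig ∨ t1 = sig * sig ∨ t2 = 1 ∨ t2 = sig ∨ t2 = sig * sig ∨ t1 = t2 ∨
      t1 * t2 = sig ∨ t1 * t2 = sig * sig := by
  revert t1 t2
  unfold sig
  decide

theorem c1a_prod_invol (t1 t2 : A3) (h1 : t1 ≠ 1) (h1' : t1 ≠ sig) (h1'' : t1 ≠ sig * sig)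
    (h2 : t2 ≠ 1) (h2' : t2 ≠ sig) (h2'' : t2 ≠ sig * sig) (hne : t1 ≠ t2) :
    t1 * t2 = sig ∨ t1 * t2 = sig * sig := by
  rcases c1a_prod_invol_aux t1 t2 with h | h | h | h | h | h | h | h | h
  · exact absurd h h1
  · exact absurd h h1'
  · exact absurd h h1''
  · exact absurd h h2
  · exact absurd h h2'
  · exact absurd h h2''
  · exact absurd h hne
  · exact Or.inl h
  · exact Or.inr h

theorem c1a_sig_eq : sig = (sig * sig) * (sig * sig) := by unfold sig; decide

theorem c1a_sigsig3 : (sig * sig) * (sig * sig) * (sig * sig) = 1 := by unfold sig; decide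

/-! ### `mapH`, `mapA` -/

section maps

variable {H : Type u} [Group H] [MulDistribMulAction A3 H]

theorem c1a_mem_mapH {h : H} {C : Subgroup H} {x : H} : x ∈ mapH h C ↔ ∃ c ∈ C, h * c * h⁻¹ = x := by
  unfold mapH
  rw [Subgroup.mem_map]
  rfl

theorem c1a_mem_mapA {a : A3} {C : Subgroup H} {x : H} : x ∈ mapA a C ↔ ∃ c ∈ C, a • c = x :=
  Iff.rfl

theorem c1a_mapH_one (C : Subgroup H) : mapH (1 : H) C = C := by
  ext x
  rw [c1a_mem_mapH]
  constructor
  · rintro ⟨c, hc, rfl⟩
    simpa using hc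
  · intro hx
    exact ⟨x, hx, by simp⟩

theorem c1a_mapH_mul (g h : H) (C : Subgroup H) : mapH (g * h) C = mapH g (mapH h C) := by
  ext x
  simp only [c1a_mem_mapH]
  constructor
  · rintro ⟨c, hc, rfl⟩
    exact ⟨h * c * h⁻¹, ⟨c, hc, rfl⟩, by group⟩
  · rintro ⟨y, ⟨c, hc, rfl⟩, rfl⟩
    exact ⟨c, hc, by group⟩

theorem c1a_mapA_one (C : Subgroup H) : mapA (1 : A3) C = C := by
  ext x
  rw [c1a_mem_mapA]
  constructor
  · rintro ⟨c, hc, rfl⟩
    simpa using hc
  · intro hx
    exact ⟨x, hx, by simp⟩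

theorem c1a_mapA_mul (a b : A3) (C : Subgroup H) : mapA (a * b) C = mapA a (mapA b C) := by
  ext x
  simp only [c1a_mem_mapA]
  constructor
  · rintro ⟨c, hc, rfl⟩
    exact ⟨b • c, ⟨c, hc, rfl⟩, by rw [mul_smul]⟩
  · rintro ⟨y, ⟨c, hc, rfl⟩, rfl⟩
    exact ⟨c, hc, by rw [mul_smul]⟩

theorem c1a_mapA_mapH (a : A3) (h : H) (C : Subgroup H) :
    mapA a (mapH h C) = mapH (a • h) (mapA a C) := by
  ext x
  simp only [c1a_mem_mapA, c1a_mem_mapH]
  constructor
  · rintro ⟨y, ⟨c, hc, rfl⟩, rfl⟩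
    exact ⟨a • c, ⟨c, hc, rfl⟩, by rw [smul_mul', smul_mul', smul_inv']⟩
  · rintro ⟨y, ⟨c, hc, rfl⟩, rfl⟩
    exact ⟨h * c * h⁻¹, ⟨c, hc, rfl⟩, by rw [smul_mul', smul_mul', smul_inv']⟩

theorem c1a_mapH_of_mem {F : Subgroup H} (hFc : ∀ x ∈ F, ∀ y ∈ F, x * y = y * x) {C : Subgroup H}
    (hCF : C ≤ F) {f : H} (hf : f ∈ F) : mapH f C = C := by
  ext x
  rw [c1a_mem_mapH]
  constructor
  · rintro ⟨c, hc, rfl⟩
    rw [hFc f hf c (hCF hc), mul_inv_cancel_right]
    exact hc
  · intro hx
    exact ⟨x, hx, by rw [hFc f hf x (hCF hx), mul_inv_cancel_right]⟩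

theorem c1a_mapH_inv_cancel (g : H) (C : Subgroup H) : mapH g (mapH g⁻¹ C) = C := by
  rw [← c1a_mapH_mul, mul_inv_cancel, c1a_mapH_one]

theorem c1a_pow_coprime (F : Subgroup H) (x : H) (m n : ℕ) (hmn : Nat.Coprime m n) (hm : x ^ m ∈ F)
    (hn : x ^ n ∈ F) : x ∈ F := by
  have h := Nat.gcd_eq_gcd_ab m n
  rw [hmn.gcd_eq_one] at h
  have hx : x = (x ^ m) ^ (Nat.gcdA m n) * (x ^ n) ^ (Nat.gcdB m n) := by
    rw [← zpow_natCast, ← zpow_natCast, ← zpow_mul, ← zpow_mul, ← zpow_add, ← h]
    simp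
  rw [hx]
  exact F.mul_mem (F.zpow_mem hm _) (F.zpow_mem hn _)

/-- an involutory fixed-point-free automorphism of a finite group forces commutativity -/
theorem c1a_fpf_invol_comm [Finite H] (t : A3) (htt : t * t = 1) (hfpf : ∀ h : H, t • h = h → h = 1)
    (x y : H) : x * y = y * x := by
  have htt' : ∀ h : H, t • t • h = h := fun h => by rw [← mul_smul, htt, one_smul]
  have hinj : Function.Injective (fun h : H => h⁻¹ * t • h) := by
    intro a b hab
    simp only at hab
    have h1 : t • (b * a⁻¹) = b * a⁻¹ := by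
      rw [smul_mul', smul_inv']
      have : t • b = b * (a⁻¹ * t • a) := by rw [hab]; group
      rw [this]; group
    have h2 := hfpf _ h1
    exact (mul_inv_eq_one.1 h2).symm
  have hsurj : Function.Surjective (fun h : H => h⁻¹ * t • h) := Finite.injective_iff_surjective.1 hinj
  have hinv : ∀ g : H, t • g = g⁻¹ := by
    intro g
    obtain ⟨h, rfl⟩ := hsurj g
    simp only
    rw [smul_mul', smul_inv', htt', mul_inv_rev, inv_inv]
  have h1 := hinv (x * y)
  rw [smul_mul', hinv x, hinv y, mul_inv_rev] at h1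
  have h2 : (x⁻¹ * y⁻¹)⁻¹ = (y⁻¹ * x⁻¹)⁻¹ := by rw [h1]
  simpa [mul_inv_rev] using h2.symm

end maps


section main

variable {H V : Type u} [Group H] [CommGroup V] [MulDistribMulAction A3 H]
  [MulDistribMulAction A3 V] [MulDistribMulAction H V] {p r : ℕ} {F : Subgroup H}

theorem c1a_om_mapH (cfg : Config H V p r F) (C : Subgroup H) (hC : comp (V := V) F C ≠ ⊥) (h : H) :
    comp (V := V) F (mapH h C) ≠ ⊥ := by
  intro hbot
  apply hC
  rw [Subgroup.eq_bot_iff_forall]
  intro v hv
  have h1 := comp_smulH cfg C h v hv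
  rw [hbot, Subgroup.mem_bot] at h1
  have : v = h⁻¹ • (h • v) := by rw [inv_smul_smul]
  rw [this, h1, smul_one]

theorem c1a_om_mapA (cfg : Config H V p r F) (C : Subgroup H) (hC : comp (V := V) F C ≠ ⊥) (a : A3) :
    comp (V := V) F (mapA a C) ≠ ⊥ := by
  intro hbot
  apply hC
  rw [Subgroup.eq_bot_iff_forall]
  intro v hv
  have h1 := comp_smulA cfg C a v hv
  rw [hbot, Subgroup.mem_bot] at h1
  have : v = a⁻¹ • (a • v) := by rw [inv_smul_smul]
  rw [this, h1, smul_one]

/-- the stabiliser in `A3` of the coset `h F` -/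
def c1a_cosetStab (F : Subgroup H) (hFA : ∀ a : A3, ∀ f ∈ F, a • f ∈ F) (h : H) : Subgroup A3 where
  carrier := {b | h⁻¹ * b • h ∈ F}
  one_mem' := by
    show h⁻¹ * (1 : A3) • h ∈ F
    rw [one_smul, inv_mul_cancel]
    exact F.one_mem
  mul_mem' := by
    intro a b ha hb
    show h⁻¹ * (a * b) • h ∈ F
    have e : h⁻¹ * (a * b) • h = (h⁻¹ * a • h) * a • (h⁻¹ * b • h) := by
      rw [mul_smul, smul_mul', smul_inv']
      group
    rw [e]
    exact F.mul_mem ha (hFA a _ hb)
  inv_mem' := by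
    intro b hb
    show h⁻¹ * b⁻¹ • h ∈ F
    have h1 : b⁻¹ • (h⁻¹ * b • h) ∈ F := hFA _ _ hb
    rw [smul_mul', smul_inv', inv_smul_smul] at h1
    have h2 := F.inv_mem h1
    rwa [mul_inv_rev, inv_inv] at h2

/-- elements fixing every component pointwise in all `C` act trivially -/
theorem c1a_inter (cfg : Config H V p r F) (hD5 : ⨆ C : Subgroup H, comp (V := V) F C = ⊤) (g : H)
    (hg : ∀ C : Subgroup H, comp (V := V) F C ≠ ⊥ → g ∈ C) : g = 1 := by
  apply cfg.faithful
  let Fix : Subgroup V :=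
    { carrier := {v | g • v = v}
      one_mem' := smul_one g
      mul_mem' := by
        intro a b ha hb
        show g • (a * b) = a * b
        rw [smul_mul', ha, hb]
      inv_mem' := by
        intro a ha
        show g • a⁻¹ = a⁻¹
        rw [smul_inv', ha] }
  have hle : (⨆ C : Subgroup H, comp (V := V) F C) ≤ Fix := by
    apply iSup_le
    intro C
    by_cases hC : comp (V := V) F C = ⊥
    · rw [hC]; exact bot_le
    · intro v hv
      exact comp_triv C g (hg C hC) v hv
  rw [hD5] at hle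
  intro v
  exact hle (Subgroup.mem_top v)


/-- C1A with D5, D7, D9, SL as hypotheses -/
theorem c1a_core (cfg : Config H V p r F)
    (hD5 : ⨆ C : Subgroup H, comp (V := V) F C = ⊤)
    (hD7 : ∀ C C' : Subgroup H, comp (V := V) F C ≠ ⊥ → comp (V := V) F C' ≠ ⊥ →
      ∃ (a : A3) (h : H), C' = mapA a (mapH h C))
    (hD9 : ∀ C : Subgroup H, comp (V := V) F C ≠ ⊥ → ∃ a : A3, a ≠ 1 ∧ mapA a C = C ∧
      ∀ v ∈ comp (V := V) F C, (∀ b : A3, mapA b C = C → b • v = v) → v = 1)
    (hSL : ∀ C : Subgroup H, comp (V := V) F C ≠ ⊥ → mapA sig C = C →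
      (∀ v ∈ comp (V := V) F C, sig • v = v → v = 1) → ∀ f ∈ F, f⁻¹ * sig • f ∈ C)
    (hmov : ∃ (h : H) (C : Subgroup H), comp (V := V) F C ≠ ⊥ ∧ mapH h C ≠ C)
    (hs : ∀ h : H, h⁻¹ * sig • h ∈ F) : False := by
  have hfinH : Finite H := cfg.hyp.finH
  have hFfix : ∀ f ∈ F, ∀ C : Subgroup H, comp (V := V) F C ≠ ⊥ → mapH f C = C :=
    fun f hf C hC => c1a_mapH_of_mem cfg.Fcomm (comp_le C hC) hf
  have hcop6 : (Nat.card ↥F).Coprime 6 :=
    Nat.Coprime.coprime_dvd_left (Subgroup.card_subgroup_dvd_card F) cfg.hyp.copH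
  have hcardA : Nat.card A3 = 6 := by
    rw [Nat.card_eq_fintype_card, Fintype.card_perm]
    rfl
  -- Step 2: `τ` has no fixed coset, so inverts `H/F`
  have hcos : ∀ h : H, h⁻¹ * tau • h ∈ F → ∀ b : A3, h⁻¹ * b • h ∈ F := by
    intro h ht b
    exact c1a_A3_sub (c1a_cosetStab F cfg.FA h).toSubmonoid (hs h) ht b
  have htfix : ∀ h : H, h⁻¹ * tau • h ∈ F → h ∈ F := by
    intro h ht
    obtain ⟨n, hnF, hfixed⟩ := coprime_lift (B := A3) F cfg.Fcomm (by rw [hcardA]; exact hcop6)
      cfg.FA h (hcos h ht)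
    have h1 : h * n = 1 := cfg.hyp.fpfH _ hfixed
    have h2 : h = n⁻¹ := eq_inv_of_mul_eq_one_left h1
    rw [h2]
    exact F.inv_mem hnF
  have htinv : ∀ h : H, h * tau • h ∈ F := by
    intro h
    apply htfix
    have hττ : tau • tau • h = h := by rw [← mul_smul, c1a_tau2, one_smul]
    rw [smul_mul', hττ, mul_inv_rev]
    have e : (tau • h)⁻¹ * h⁻¹ * (tau • h * h) = ⁅(tau • h)⁻¹, h⁻¹⁆ := by
      rw [commutatorElement_def]; group
    rw [e]
    apply cfg.quot_comm
    rw [commutator_def]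
    exact Subgroup.commutator_mem_commutator (Subgroup.mem_top _) (Subgroup.mem_top _)
  have hMdich : ∀ M : Subgroup H, F ≤ M → M = F ∨ M = ⊤ := by
    intro M hFM
    apply cfg.quot_irr M hFM
    intro a
    let K : Submonoid A3 :=
      { carrier := {b | ∀ m ∈ M, b • m ∈ M}
        one_mem' := by
          intro m hm
          rw [one_smul]; exact hm
        mul_mem' := by
          intro a b ha hb m hm
          rw [mul_smul]
          exact ha _ (hb m hm) }
    have hsK : sig ∈ K := by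
      intro m hm
      have e : sig • m = m * (m⁻¹ * sig • m) := by group
      rw [e]
      exact M.mul_mem hm (hFM (hs m))
    have htK : tau ∈ K := by
      intro m hm
      have e : tau • m = m⁻¹ * (m * tau • m) := by group
      rw [e]
      exact M.mul_mem (M.inv_mem hm) (hFM (htinv m))
    exact c1a_A3_sub K hsK htK a
  -- Step 3: a `σ`-fixed element outside `F`
  obtain ⟨x, hxF, hxs⟩ : ∃ x : H, x ∉ F ∧ sig • x = x := by
    obtain ⟨h0, hh0⟩ : ∃ h0 : H, h0 ∉ F := by
      by_contra hall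
      push Not at hall
      exact cfg.Fne ((Subgroup.eq_top_iff' F).2 hall)
    have hord : orderOf sig = 3 := by
      apply orderOf_eq_prime
      · rw [pow_succ, pow_succ, pow_one]; exact c1a_sig3
      · unfold sig; decide
    have hcard3 : Nat.card ↥(Subgroup.zpowers sig) = 3 := by rw [Nat.card_zpowers, hord]
    have hcop3 : (Nat.card ↥F).Coprime (Nat.card ↥(Subgroup.zpowers sig)) := by
      rw [hcard3]
      exact Nat.Coprime.coprime_dvd_right (by norm_num : 3 ∣ 6) hcop6
    have hcosσ : ∀ b : ↥(Subgroup.zpowers sig), h0⁻¹ * b • h0 ∈ F := by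
      intro b
      have hb : (b : A3) ∈ c1a_cosetStab F cfg.FA h0 :=
        (Subgroup.zpowers_le.2 (show sig ∈ c1a_cosetStab F cfg.FA h0 from hs h0)) b.2
      exact hb
    obtain ⟨n, hnF, hfixed⟩ := coprime_lift (B := ↥(Subgroup.zpowers sig)) F cfg.Fcomm hcop3
      (fun b n hn => cfg.FA (b : A3) n hn) h0 hcosσ
    refine ⟨h0 * n, fun hmem => hh0 ?_, hfixed ⟨sig, Subgroup.mem_zpowers sig⟩⟩
    have := F.mul_mem hmem (F.inv_mem hnF)
    rwa [mul_inv_cancel_right] at this
  -- Step 4: stabilisers in `H` of components are `F`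
  have hstab : ∀ C : Subgroup H, comp (V := V) F C ≠ ⊥ → ∀ h : H, mapH h C = C → h ∈ F := by
    intro C hC h hh
    let M : Subgroup H :=
      { carrier := {g | mapH g C = C}
        one_mem' := c1a_mapH_one C
        mul_mem' := by
          intro a b ha hb
          show mapH (a * b) C = C
          rw [c1a_mapH_mul, hb, ha]
        inv_mem' := by
          intro a ha
          show mapH a⁻¹ C = C
          have : mapH a⁻¹ (mapH a C) = C := by
            rw [← c1a_mapH_mul, inv_mul_cancel, c1a_mapH_one]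
          rwa [ha] at this }
    have hFM : F ≤ M := fun f hf => hFfix f hf C hC
    rcases hMdich M hFM with hM | hM
    · rw [← hM]; exact hh
    · exfalso
      have hall : ∀ g' : H, mapH g' C = C := fun g' => by
        have : g' ∈ M := by rw [hM]; exact Subgroup.mem_top g'
        exact this
      obtain ⟨g0, C0, hC0, hne⟩ := hmov
      obtain ⟨a, g, hC0eq⟩ := hD7 C C0 hC hC0
      apply hne
      have e1 : C0 = mapA a C := by rw [hC0eq, hall g]
      have e2 : mapH g0 (mapA a C) = mapA a (mapH (a⁻¹ • g0) C) := by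
        rw [c1a_mapA_mapH, smul_inv_smul]
      rw [e1, e2, hall]
  -- powers of `x`
  have hxr : x ^ r ∈ F := cfg.quot_exp x
  have hpowF : ∀ k : ℕ, Nat.Coprime k r → x ^ k ∈ F → False := fun k hk hxk =>
    hxF (c1a_pow_coprime F x k r hk hxk hxr)
  have hr6 : Nat.Coprime 6 r := by
    have hxo : (orderOf x).Coprime 6 :=
      Nat.Coprime.coprime_dvd_left (orderOf_dvd_natCard x) cfg.hyp.copH
    rw [Nat.coprime_comm, Nat.Prime.coprime_iff_not_dvd cfg.rprime]
    intro hdvd
    have hco : Nat.Coprime (orderOf x) r :=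
      (Nat.Coprime.coprime_dvd_right hdvd hxo)
    apply hxF
    exact c1a_pow_coprime F x (orderOf x) r hco (by rw [pow_orderOf_eq_one]; exact F.one_mem) hxr
  have hr2 : Nat.Coprime 2 r := Nat.Coprime.coprime_dvd_left (by norm_num : 2 ∣ 6) hr6
  -- involutions invert `H/F`
  have hInv : ∀ b : A3, b ≠ 1 → b ≠ sig → b ≠ sig * sig → ∀ h : H, h * b • h ∈ F := by
    intro b h1 h2 h3 h
    have hmain : ∀ a : A3, a ∈ c1a_cosetStab F cfg.FA (tau • h) → h * (a * tau) • h ∈ F := by
      intro a ha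
      have e : h * (a * tau) • h = (h * tau • h) * ((tau • h)⁻¹ * a • (tau • h)) := by
        rw [mul_smul]; group
      rw [e]
      exact F.mul_mem (htinv h) ha
    have hσ : sig ∈ c1a_cosetStab F cfg.FA (tau • h) := hs _
    rcases c1a_A3_cases b with rfl | rfl | rfl | rfl | rfl | rfl
    · exact absurd rfl h1
    · exact absurd rfl h2
    · exact absurd rfl h3
    · exact htinv h
    · exact hmain sig hσ
    · exact hmain (sig * sig) (Subgroup.mul_mem _ hσ hσ)
  -- Step 5: the `σ`-fixed components are all or nothing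
  have hsigH : ∀ C : Subgroup H, comp (V := V) F C ≠ ⊥ → mapA sig C = C →
      ∀ g : H, mapA sig (mapH g C) = mapH g C := by
    intro C hC hσC g
    rw [c1a_mapA_mapH, hσC]
    have e : sig • g = g * (g⁻¹ * sig • g) := by group
    rw [e, c1a_mapH_mul, hFfix _ (hs g) C hC]
  have hsigA : ∀ C : Subgroup H, mapA sig C = C → ∀ a : A3, mapA sig (mapA a C) = mapA a C := by
    intro C hσC a
    have hσσC : mapA (sig * sig) C = C := by rw [c1a_mapA_mul, hσC, hσC]
    rcases c1a_conj_sig a with h | h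
    · rw [← c1a_mapA_mul, h, c1a_mapA_mul, hσC]
    · rw [← c1a_mapA_mul, h, c1a_mapA_mul, hσσC]
  have hsigAll : (∃ C : Subgroup H, comp (V := V) F C ≠ ⊥ ∧ mapA sig C = C) →
      ∀ C : Subgroup H, comp (V := V) F C ≠ ⊥ → mapA sig C = C := by
    rintro ⟨C, hC, hσC⟩ C' hC'
    obtain ⟨a, g, rfl⟩ := hD7 C C' hC hC'
    exact hsigA _ (hsigH C hC hσC g) a
  -- fixed-point-freeness from a small stabiliser
  have hfpf_of_stab : ∀ C : Subgroup H, comp (V := V) F C ≠ ⊥ →
      (∀ b : A3, mapA b C = C → b = 1 ∨ b = sig ∨ b = sig * sig) →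
      ∀ v ∈ comp (V := V) F C, sig • v = v → v = 1 := by
    intro C hC hst v hv hσv
    obtain ⟨a, -, -, hD9⟩ := hD9 C hC
    apply hD9 v hv
    intro b hb
    rcases hst b hb with rfl | rfl | rfl
    · exact one_smul _ v
    · exact hσv
    · rw [mul_smul, hσv, hσv]
  obtain ⟨g0, C0, hC0, hne0⟩ := hmov
  by_cases hcase : mapA sig C0 = C0
  · -- ALL
    have hall := hsigAll ⟨C0, hC0, hcase⟩
    have hfpfW : ∀ C : Subgroup H, comp (V := V) F C ≠ ⊥ →
        ∀ v ∈ comp (V := V) F C, sig • v = v → v = 1 := by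
      intro C hC v hv hσv
      by_cases hst : ∀ b : A3, mapA b C = C → b = 1 ∨ b = sig ∨ b = sig * sig
      · exact hfpf_of_stab C hC hst v hv hσv
      · push Not at hst
        obtain ⟨b0, hb0C, hb01, hb02, hb03⟩ := hst
        -- every element of `A3` stabilises `C`
        have hτC : mapA tau C = C := by
          have hσC := hall C hC
          have hσσC : mapA (sig * sig) C = C := by rw [c1a_mapA_mul, hσC, hσC]
          rcases c1a_A3_cases b0 with rfl | rfl | rfl | rfl | rfl | rfl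
          · exact absurd rfl hb01
          · exact absurd rfl hb02
          · exact absurd rfl hb03
          · exact hb0C
          · rw [c1a_mapA_mul] at hb0C
            have h1 : mapA (sig * sig) (mapA sig (mapA tau C)) = mapA (sig * sig) C := by rw [hb0C]
            rw [← c1a_mapA_mul, c1a_sig3, c1a_mapA_one, hσσC] at h1
            exact h1
          · rw [c1a_mapA_mul] at hb0C
            have h1 : mapA sig (mapA (sig * sig) (mapA tau C)) = mapA sig C := by rw [hb0C]
            rw [← c1a_mapA_mul, ← mul_assoc, c1a_sig3, c1a_mapA_one, hσC] at h1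
            exact h1
        have hAC : ∀ b : A3, mapA b C = C := by
          intro b
          let K : Submonoid A3 :=
            { carrier := {b | mapA b C = C}
              one_mem' := c1a_mapA_one C
              mul_mem' := by
                intro a b ha hb
                show mapA (a * b) C = C
                rw [c1a_mapA_mul, hb, ha] }
          exact c1a_A3_sub K (hall C hC) hτC b
        -- the component `x C`
        have hC' : comp (V := V) F (mapH x C) ≠ ⊥ := c1a_om_mapH cfg C hC x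
        have hst' : ∀ b : A3, mapA b (mapH x C) = mapH x C → b = 1 ∨ b = sig ∨ b = sig * sig := by
          intro b hb
          by_contra hnot
          push Not at hnot
          obtain ⟨hb1, hb2, hb3⟩ := hnot
          have hbx : x * b • x ∈ F := hInv b hb1 hb2 hb3 x
          rw [c1a_mapA_mapH, hAC b] at hb
          have e : b • x = x⁻¹ * (x * b • x) := by group
          rw [e, c1a_mapH_mul, hFfix _ hbx C hC] at hb
          -- mapH x⁻¹ C = mapH x C
          have h2 : mapH (x * x) C = C := by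
            rw [c1a_mapH_mul, ← hb, c1a_mapH_inv_cancel]
          have h3 := hstab C hC _ h2
          apply hpowF 2 hr2
          rw [pow_two]; exact h3
        have hfp' := hfpf_of_stab (mapH x C) hC' hst'
        have hxv : x • v ∈ comp (V := V) F (mapH x C) := comp_smulH cfg C x v hv
        have hσxv : sig • (x • v) = x • v := by
          rw [cfg.hyp.compat, hxs, hσv]
        have h1 := hfp' (x • v) hxv hσxv
        have : v = x⁻¹ • (x • v) := by rw [inv_smul_smul]
        rw [this, h1, smul_one]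
    -- `σ` centralises `F`
    have hσF : ∀ f ∈ F, sig • f = f := by
      intro f hf
      have h1 : f⁻¹ * sig • f = 1 := by
        apply c1a_inter cfg hD5
        intro C hC
        exact hSL C hC (hall C hC) (hfpfW C hC) f hf
      have := eq_of_inv_mul_eq_one h1
      exact this.symm
    -- `σ` centralises `H`
    have hσH : ∀ h : H, sig • h = h := by
      let K : Subgroup H :=
        { carrier := {h | sig • h = h}
          one_mem' := smul_one sig
          mul_mem' := by
            intro a b ha hb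
            show sig • (a * b) = a * b
            rw [smul_mul', ha, hb]
          inv_mem' := by
            intro a ha
            show sig • a⁻¹ = a⁻¹
            rw [smul_inv', ha] }
      have hFK : F ≤ K := fun f hf => hσF f hf
      rcases hMdich K hFK with hK | hK
      · exfalso
        apply hxF
        rw [← hK]
        exact hxs
      · intro h
        have : h ∈ K := by rw [hK]; exact Subgroup.mem_top h
        exact this
    -- `τ` is fixed-point-free on `H`, so `H` is commutative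
    have hτfpf : ∀ h : H, tau • h = h → h = 1 := by
      intro h hτh
      apply cfg.hyp.fpfH
      intro a
      let K : Submonoid A3 :=
        { carrier := {b | b • h = h}
          one_mem' := one_smul _ h
          mul_mem' := by
            intro a b ha hb
            show (a * b) • h = h
            rw [mul_smul, hb, ha] }
      exact c1a_A3_sub K (hσH h) hτh a
    obtain ⟨y1, y2, hy⟩ := cfg.nonab
    exact hy (c1a_fpf_invol_comm tau c1a_tau2 hτfpf y1 y2)
  · -- NOTHING
    have hnone : ∀ C : Subgroup H, comp (V := V) F C ≠ ⊥ → mapA sig C ≠ C := by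
      intro C hC hσC
      exact hcase (hsigAll ⟨C, hC, hσC⟩ C0 hC0)
    have hnotσσ : ∀ C : Subgroup H, comp (V := V) F C ≠ ⊥ → mapA (sig * sig) C ≠ C := by
      intro C hC h
      apply hnone C hC
      have : mapA ((sig * sig) * (sig * sig)) C = C := by rw [c1a_mapA_mul, h, h]
      rwa [← c1a_sig_eq] at this
    obtain ⟨t1, ht11, ht1C, -⟩ := hD9 C0 hC0
    have ht12 : t1 ≠ sig := fun h => hnone C0 hC0 (h ▸ ht1C)
    have ht13 : t1 ≠ sig * sig := fun h => hnotσσ C0 hC0 (h ▸ ht1C)
    have hC' : comp (V := V) F (mapH x C0) ≠ ⊥ := c1a_om_mapH cfg C0 hC0 x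
    obtain ⟨t2, ht21, ht2C, -⟩ := hD9 (mapH x C0) hC'
    have ht22 : t2 ≠ sig := fun h => hnone _ hC' (h ▸ ht2C)
    have ht23 : t2 ≠ sig * sig := fun h => hnotσσ _ hC' (h ▸ ht2C)
    -- `t2 C0 = x² C0`
    have ht2x : x * t2 • x ∈ F := hInv t2 ht21 ht22 ht23 x
    have hCt2 : comp (V := V) F (mapA t2 C0) ≠ ⊥ := c1a_om_mapA cfg C0 hC0 t2
    have hkey : mapA t2 C0 = mapH (x * x) C0 := by
      have h1 := ht2C
      rw [c1a_mapA_mapH] at h1
      have e : t2 • x = x⁻¹ * (x * t2 • x) := by group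
      rw [e, c1a_mapH_mul, hFfix _ ht2x _ hCt2] at h1
      -- h1 : mapH x⁻¹ (mapA t2 C0) = mapH x C0
      have h2 : mapH x (mapH x⁻¹ (mapA t2 C0)) = mapH x (mapH x C0) := by rw [h1]
      rw [c1a_mapH_inv_cancel, ← c1a_mapH_mul] at h2
      exact h2
    have hne12 : t1 ≠ t2 := by
      intro h
      rw [← h, ht1C] at hkey
      apply hpowF 2 hr2
      rw [pow_two]
      exact hstab C0 hC0 _ hkey.symm
    -- `s = t1 t2` has order 3 and fixes `x`
    have hs12 := c1a_prod_invol t1 t2 ht11 ht12 ht13 ht21 ht22 ht23 hne12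
    have hsx : (t1 * t2) • x = x := by
      rcases hs12 with h | h
      · rw [h]; exact hxs
      · rw [h, mul_smul, hxs, hxs]
    have hs3 : (t1 * t2) * (t1 * t2) * (t1 * t2) = 1 := by
      rcases hs12 with h | h
      · rw [h]; exact c1a_sig3
      · rw [h]; exact c1a_sigsig3
    -- `s C0 = y C0` with `y = x⁻¹ x⁻¹`
    have ht1x : x * t1 • x ∈ F := hInv t1 ht11 ht12 ht13 x
    have hsC : mapA (t1 * t2) C0 = mapH (x⁻¹ * x⁻¹) C0 := by
      rw [c1a_mapA_mul, hkey, c1a_mapA_mapH, ht1C]
      -- mapH (t1 • (x * x)) C0 = mapH (x⁻¹ * x⁻¹) C0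
      have e : t1 • (x * x) = (x⁻¹ * x⁻¹) * ((x * (x * t1 • x) * x⁻¹) * (x * t1 • x)) := by
        rw [smul_mul']; group
      have hmem : (x * (x * t1 • x) * x⁻¹) * (x * t1 • x) ∈ F :=
        F.mul_mem (cfg.Fnormal.conj_mem _ ht1x x) ht1x
      rw [e, c1a_mapH_mul, hFfix _ hmem C0 hC0]
    -- iterate
    have hsy : (t1 * t2) • (x⁻¹ * x⁻¹) = x⁻¹ * x⁻¹ := by
      rw [smul_mul', smul_inv', hsx]
    have hstep : ∀ z : H, (t1 * t2) • z = z →
        mapA (t1 * t2) (mapH z C0) = mapH (z * (x⁻¹ * x⁻¹)) C0 := by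
      intro z hz
      rw [c1a_mapA_mapH, hz, hsC, ← c1a_mapH_mul]
    have h1 : mapA ((t1 * t2) * (t1 * t2) * (t1 * t2)) C0 =
        mapH ((x⁻¹ * x⁻¹) * (x⁻¹ * x⁻¹) * (x⁻¹ * x⁻¹)) C0 := by
      rw [c1a_mapA_mul, c1a_mapA_mul, hsC, hstep _ hsy, hstep _ (by rw [smul_mul', hsy])]
    rw [hs3, c1a_mapA_one] at h1
    have h2 := hstab C0 hC0 _ h1.symm
    apply hpowF 6 hr6
    have e6 : x ^ 6 = ((x⁻¹ * x⁻¹) * (x⁻¹ * x⁻¹) * (x⁻¹ * x⁻¹))⁻¹ := by group
    rw [e6]
    exact F.inv_mem h2

end main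

end Cfsg.Agent.Lib.Helper66.S3
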