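import Mathlib
import Cfsg.Agent.Lib.Helper41.SpBNDefs
import Cfsg.Agent.Lib.Helper43.SpBN_WEYL
import Cfsg.Agent.Lib.Helper97.SpBN_GENcore

/-! # S2545 hive (helper41), LEAF GEN (helper97): `closure S ⊔ (B ⊓ N) = N` -/

set_option autoImplicit false

namespace Cfsg.Agent.Lib.Helper41.SpBN

open Matrix Cfsg Cfsg.Agent.Lib.Helper13

variable {F : Type*} [Field F] {m : ℕ}

/-- LEAF GEN -/
theorem closure_S_sup : Subgroup.closure (Ssp F m) ⊔ (Bsp F m ⊓ Nsp F m) = Nsp F m :=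
  gen_core weyl_gen

end Cfsg.Agent.Lib.Helper41.SpBN
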