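import Cfsg.Agent.Lib.Helper38.StnBruDefs
import Cfsg.Agent.Lib.Helper80.Stn_BASIC
import Cfsg.Agent.Lib.Helper95.Stn_WSYMM

/-! # Stn hive (S2401), sub-hive BRU (helper38), leaf BRU-R1 (helper97): the rank one identities.
`xx_eq_ww_lower` from (R1) alone; `xx_eq_ww_upper` from it and `ww_symm`. -/

set_option autoImplicit false

namespace Cfsg.Agent.Lib.Helper41.Stn

open Matrix

variable {K : Type*} [Field K] {n : ℕ}

theorem xx_eq_ww_lower (i j : Fin n) {t : K} (ht : t ≠ 0) :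
    xx j i t = xx i j t⁻¹ * ww i j (-t⁻¹) * xx i j t⁻¹ := by
  have hs : -(-t⁻¹)⁻¹ = t := by rw [inv_neg, inv_inv, neg_neg]
  unfold ww
  rw [hs, ← xx_inv i j t⁻¹]
  group

/-- core of `xx_eq_ww_upper`, from the statement of `ww_symm` -/
theorem brur1_upper_core
    (hsymm : ∀ {i j : Fin n}, i ≠ j → ∀ {t : K}, t ≠ 0 → ww j i t = ww i j (-t⁻¹))
    {i j : Fin n} (hij : i ≠ j) {u : K} (hu : u ≠ 0) :
    xx i j u = xx j i u⁻¹ * ww i j u * xx j i u⁻¹ := by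
  have h1 := xx_eq_ww_lower j i hu
  have h2 : ww j i (-u⁻¹) = ww i j u := by
    rw [hsymm hij (neg_ne_zero.mpr (inv_ne_zero hu)), inv_neg, inv_inv, neg_neg]
  rw [h2] at h1
  exact h1

theorem xx_eq_ww_upper (hn : 3 ≤ n) {i j : Fin n} (hij : i ≠ j) {u : K} (hu : u ≠ 0) :
    xx i j u = xx j i u⁻¹ * ww i j u * xx j i u⁻¹ :=
  brur1_upper_core (fun {_ _} hij {_} ht => ww_symm hn hij ht) hij hu

end Cfsg.Agent.Lib.Helper41.Stn
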