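import Cfsg.Agent.Lib.Helper97.StnBru_WUcore
import Cfsg.Agent.Lib.Helper95.Stn_WALL

/-! # Stn hive (S2401), sub-hive BRU (helper38), leaf BRU-WU (helper97): `ww_conj_Ua` -/

set_option autoImplicit false

namespace Cfsg.Agent.Lib.Helper41.Stn

open Matrix

variable {K : Type*} [Field K] {n : ℕ}

theorem ww_conj_Ua (hn : 3 ≤ n) {i j : Fin n} (hij : (i : ℕ) + 1 = j) {s : K} (hs : s ≠ 0)
    {y : St K n} (hy : y ∈ Ua K n i j) : ww i j s * y * (ww i j s)⁻¹ ∈ Ua K n i j := by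
  have hne : i ≠ j := by
    intro h
    rw [h] at hij
    omega
  exact bruwu_core hij (fun {_ _} hkl u => ww_conj_xx hn hne hs hkl u) hy

end Cfsg.Agent.Lib.Helper41.Stn
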