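import Cfsg.Agent.Lib.Helper38.StnBruDefs

/-! # Stn hive (S2401), sub-hive BRU (helper38), leaf BRU-WU (helper97): core of `ww_conj_Ua`,
with the statement of `ww_conj_xx` (for the given `i j s`) as a hypothesis. -/

set_option autoImplicit false

namespace Cfsg.Agent.Lib.Helper41.Stn

open Matrix

variable {K : Type*} [Field K] {n : ℕ}

theorem bruwu_swap_val (i j x : Fin n) :
    ((Equiv.swap i j x : Fin n) : ℕ) =
      if (x : ℕ) = (i : ℕ) then (j : ℕ) else if (x : ℕ) = (j : ℕ) then (i : ℕ) else (x : ℕ) := by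
  rw [Equiv.swap_apply_def]
  by_cases h1 : x = i
  · rw [if_pos h1, if_pos (congrArg Fin.val h1)]
  · have h1' : (x : ℕ) ≠ (i : ℕ) := fun h => h1 (Fin.ext h)
    rw [if_neg h1, if_neg h1']
    by_cases h2 : x = j
    · rw [if_pos h2, if_pos (congrArg Fin.val h2)]
    · have h2' : (x : ℕ) ≠ (j : ℕ) := fun h => h2 (Fin.ext h)
      rw [if_neg h2, if_neg h2']

theorem bruwu_swap_lt {i j k l : Fin n} (hij : (i : ℕ) + 1 = j) (hkl : k < l)
    (hne : (k, l) ≠ (i, j)) :
    Equiv.swap i j k < Equiv.swap i j l ∧ (Equiv.swap i j k, Equiv.swap i j l) ≠ (i, j) := by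
  have hne' : ¬ ((k : ℕ) = i ∧ (l : ℕ) = j) := fun h =>
    hne (by rw [Prod.mk.injEq]; exact ⟨Fin.ext h.1, Fin.ext h.2⟩)
  rw [Fin.lt_def] at hkl
  constructor
  · rw [Fin.lt_def, bruwu_swap_val, bruwu_swap_val]
    split_ifs <;> omega
  · intro h
    rw [Prod.mk.injEq] at h
    have h1 := congrArg Fin.val h.1
    have h2 := congrArg Fin.val h.2
    rw [bruwu_swap_val] at h1 h2
    split_ifs at h1 h2 <;> omega

/-- core of BRU-WU -/
theorem bruwu_core {i j : Fin n} (hij : (i : ℕ) + 1 = j) {s : K}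
    (hwx : ∀ {k l : Fin n}, k ≠ l → ∀ (u : K), ww i j s * xx k l u * (ww i j s)⁻¹ =
      xx (Equiv.swap i j k) (Equiv.swap i j l) (mu i j s k / mu i j s l * u))
    {y : St K n} (hy : y ∈ Ua K n i j) : ww i j s * y * (ww i j s)⁻¹ ∈ Ua K n i j := by
  unfold Ua at hy
  induction hy using Subgroup.closure_induction with
  | mem x hx =>
    obtain ⟨k, l, t, hkl, hne, rfl⟩ := hx
    rw [hwx hkl.ne]
    obtain ⟨h1, h2⟩ := bruwu_swap_lt hij hkl hne
    exact Subgroup.subset_closure ⟨_, _, _, h1, h2, rfl⟩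
  | one =>
    rw [mul_one, mul_inv_cancel]
    exact (Ua K n i j).one_mem
  | mul a b _ _ ha hb =>
    have h3 : ww i j s * (a * b) * (ww i j s)⁻¹ =
        (ww i j s * a * (ww i j s)⁻¹) * (ww i j s * b * (ww i j s)⁻¹) := by group
    rw [h3]
    exact (Ua K n i j).mul_mem ha hb
  | inv a _ ha =>
    have h3 : ww i j s * a⁻¹ * (ww i j s)⁻¹ = (ww i j s * a * (ww i j s)⁻¹)⁻¹ := by group
    rw [h3]
    exact (Ua K n i j).inv_mem ha

end Cfsg.Agent.Lib.Helper41.Stn
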