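import Cfsg.Agent.Lib.Helper41.StnDefs

/-! # Stn hive (S2401, helper41): core of the leaf STN-W-PAIR (helper97),
with (R3) and STN-W-ONE as hypotheses. -/

set_option autoImplicit false

namespace Cfsg.Agent.Lib.Helper41.Stn

open Matrix

variable {K : Type*} [Field K] {n : ℕ}

/-- a third index -/
theorem wpair97_exists_third (hn : 3 ≤ n) (i j : Fin n) : ∃ k : Fin n, k ≠ i ∧ k ≠ j := by
  by_contra hcon
  push Not at hcon
  have hsub : (Finset.univ : Finset (Fin n)) ⊆ {i, j} := fun k _ => by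
    by_cases hk : k = i
    · simp [hk]
    · simp [hcon k hk]
  have h1 := Finset.card_le_card hsub
  have h2 : ({i, j} : Finset (Fin n)).card ≤ 2 := Finset.card_le_two
  rw [Finset.card_univ, Fintype.card_fin] at h1
  omega

/-- core of STN-W-PAIR, from the statements of `xx_comm3` and `ww_conj_xx_one` -/
theorem wpair97_core
    (hcomm3 : ∀ {i j l : Fin n}, i ≠ j → j ≠ l → i ≠ l → ∀ (t u : K),
      xx i j t * xx j l u * (xx i j t)⁻¹ * (xx j l u)⁻¹ = xx i l (t * u))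
    (hone : ∀ {i j k : Fin n}, i ≠ j → k ≠ i → k ≠ j → ∀ {t : K}, t ≠ 0 → ∀ (u : K),
      ww i j t * xx i k u * (ww i j t)⁻¹ = xx j k (-t⁻¹ * u) ∧
      ww i j t * xx j k u * (ww i j t)⁻¹ = xx i k (t * u) ∧
      ww i j t * xx k i u * (ww i j t)⁻¹ = xx k j (-t * u) ∧
      ww i j t * xx k j u * (ww i j t)⁻¹ = xx k i (t⁻¹ * u))
    (hn : 3 ≤ n) {i j : Fin n} (hij : i ≠ j) {t : K} (ht : t ≠ 0) (u : K) :
    ww i j t * xx i j u * (ww i j t)⁻¹ = xx j i (-(t ^ 2)⁻¹ * u) ∧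
    ww i j t * xx j i u * (ww i j t)⁻¹ = xx i j (-t ^ 2 * u) := by
  obtain ⟨k, hki, hkj⟩ := wpair97_exists_third hn i j
  have hconj : ∀ (w A B : St K n), w * (A * B * A⁻¹ * B⁻¹) * w⁻¹ =
      (w * A * w⁻¹) * (w * B * w⁻¹) * (w * A * w⁻¹)⁻¹ * (w * B * w⁻¹)⁻¹ := by
    intro w A B
    group
  constructor
  · have h3 := hcomm3 hki.symm hkj hij u 1
    rw [mul_one] at h3
    have e1 := (hone hij hki hkj ht u).1
    have e4 := (hone hij hki hkj ht 1).2.2.2
    rw [← h3, hconj, e1, e4, hcomm3 hkj.symm hki hij.symm]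
    congr 1
    field_simp
  · have h3 := hcomm3 hkj.symm hki hij.symm u 1
    rw [mul_one] at h3
    have e2 := (hone hij hki hkj ht u).2.1
    have e3 := (hone hij hki hkj ht 1).2.2.1
    rw [← h3, hconj, e2, e3, hcomm3 hki.symm hkj hij]
    congr 1
    ring

end Cfsg.Agent.Lib.Helper41.Stn
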