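import Mathlib
import Cfsg.Prelude.Def_Involutions
import Cfsg.Agent.Lib.Helper48.StronglyEmbedded

set_option autoImplicit false

namespace Cfsg.Agent.Lib.Helper97

open Cfsg

section basics

variable {G : Type*} [Group G]

theorem invol_sq {t : G} (ht : orderOf t = 2) : t * t = 1 := by
  have := pow_orderOf_eq_one t
  rw [ht, pow_two] at this
  exact this

theorem invol_inv {t : G} (ht : orderOf t = 2) : t⁻¹ = t :=
  inv_eq_of_mul_eq_one_left (invol_sq ht)

theorem invol_ne_one {t : G} (ht : orderOf t = 2) : t ≠ 1 := by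
  rintro rfl
  simp at ht

theorem orderOf_conj_two {t : G} (ht : orderOf t = 2) (g : G) : orderOf (g * t * g⁻¹) = 2 := by
  rw [Cfsg.Agent.Lib.Helper48.orderOf_conj', ht]

theorem orderOf_two_of_sq {e : G} (h : e * e = 1) (hne : e ≠ 1) : orderOf e = 2 := by
  apply orderOf_eq_prime
  · rw [pow_two]; exact h
  · exact hne

/-- Dihedral lemma, even case. -/
theorem dihedral_even {t w : G} (ht : orderOf t = 2) (hw : orderOf w = 2) {k : ℕ} (hk : 0 < k)
    (hr : orderOf (t * w) = 2 * k) :
    orderOf ((t * w) ^ k) = 2 ∧ Commute ((t * w) ^ k) t ∧ Commute ((t * w) ^ k) w := by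
  have htt := invol_sq ht
  have hww := invol_sq hw
  have hti := invol_inv ht
  have hwi := invol_inv hw
  set r := t * w with hrdef
  have hrinv : r⁻¹ = w * t := by rw [hrdef, mul_inv_rev, hti, hwi]
  have h2k : r ^ (2 * k) = 1 := by rw [← hr]; exact pow_orderOf_eq_one r
  have hz2 : r ^ k * r ^ k = 1 := by rw [← pow_add, ← two_mul]; exact h2k
  have hzinv : (r ^ k)⁻¹ = r ^ k := inv_eq_of_mul_eq_one_left hz2
  have hzne : r ^ k ≠ 1 := by
    intro h
    have := orderOf_dvd_of_pow_eq_one h
    rw [hr] at this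
    have := Nat.le_of_dvd hk this
    omega
  refine ⟨orderOf_two_of_sq hz2 hzne, ?_, ?_⟩
  · have h1 : t * r * t⁻¹ = r⁻¹ := by
      rw [hrinv, hrdef, hti]
      calc t * (t * w) * t = (t * t) * w * t := by group
        _ = w * t := by rw [htt, one_mul]
    have h2 : t * r ^ k * t⁻¹ = r ^ k := by
      rw [← conj_pow, h1, inv_pow, hzinv]
    show r ^ k * t = t * r ^ k
    calc r ^ k * t = (t * r ^ k * t⁻¹) * t := by rw [h2]
      _ = t * r ^ k := by group
  · have h1 : w * r * w⁻¹ = r⁻¹ := by
      rw [hrinv, hrdef, hwi]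
      calc w * (t * w) * w = w * t * (w * w) := by group
        _ = w * t := by rw [hww, mul_one]
    have h2 : w * r ^ k * w⁻¹ = r ^ k := by
      rw [← conj_pow, h1, inv_pow, hzinv]
    show r ^ k * w = w * r ^ k
    calc r ^ k * w = (w * r ^ k * w⁻¹) * w := by rw [h2]
      _ = w * r ^ k := by group

end basics

section se

variable {G : Type*} [Group G] [Finite G] {H : Subgroup G}

omit [Finite G] in
/-- Fact A : an involution of `H` conjugated into `H` is conjugated by an element of `H`. -/
theorem mem_of_conj_mem (hH : IsStronglyEmbedded H) {t g : G} (ht : orderOf t = 2) (htH : t ∈ H)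
    (hg : g⁻¹ * t * g ∈ H) : g ∈ H := by
  by_contra hgH
  have hodd := hH.2.2 g hgH
  have hmem : t ∈ H ⊓ H.map (MulAut.conj g).toMonoidHom := by
    refine ⟨htH, ⟨g⁻¹ * t * g, hg, ?_⟩⟩
    simp [MulAut.conj_apply, mul_assoc]
  have hdvd : 2 ∣ Nat.card ↥(H ⊓ H.map (MulAut.conj g).toMonoidHom) := by
    rw [← ht]
    exact Subgroup.orderOf_dvd_natCard _ hmem
  exact (Nat.not_even_iff_odd.mpr hodd) (even_iff_two_dvd.mpr hdvd)

theorem exists_invol_mem (hH : IsStronglyEmbedded H) : ∃ t ∈ H, orderOf t = 2 := by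
  have h2 : 2 ∣ Nat.card H := even_iff_two_dvd.mp hH.2.1
  have : Fact (Nat.Prime 2) := ⟨Nat.prime_two⟩
  obtain ⟨x, hx⟩ := exists_prime_orderOf_dvd_card' 2 h2
  exact ⟨x, x.2, by rw [← hx, Subgroup.orderOf_coe]⟩

/-- Every involution of `G` is conjugate into `H`. -/
theorem exists_conj_mem (hH : IsStronglyEmbedded H) {i : G} (hi : orderOf i = 2) :
    ∃ g : G, g⁻¹ * i * g ∈ H := by
  have : Fact (Nat.Prime 2) := ⟨Nat.prime_two⟩
  have h2 : 2 ∣ Nat.card H := even_iff_two_dvd.mp hH.2.1
  obtain ⟨S⟩ : Nonempty (Sylow 2 H) := Sylow.nonempty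
  have hSne : (S : Subgroup H) ≠ ⊥ := S.ne_bot_of_dvd_card h2
  set S' : Subgroup G := (S : Subgroup H).map H.subtype with hS'
  have hS'H : S' ≤ H := by
    rintro _ ⟨x, _, rfl⟩; exact x.2
  have hS'ne : S' ≠ ⊥ := by
    intro h
    apply hSne
    rw [hS', Subgroup.map_eq_bot_iff_of_injective _ H.subtype_injective] at h
    exact h
  have hS'p : IsPGroup 2 S' := S.2.map _
  obtain ⟨t, htS, ht⟩ := Cfsg.Agent.Lib.Helper48.exists_orderOf_eq_of_ne_bot hS'p hS'ne
  have hN : Subgroup.normalizer (S' : Set G) ≤ H := by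
    intro g hg
    have hg' : g⁻¹ ∈ Subgroup.normalizer (S' : Set G) := Subgroup.inv_mem _ hg
    have := (Subgroup.mem_normalizer_iff.mp hg' t).mp htS
    rw [inv_inv] at this
    exact mem_of_conj_mem hH ht (hS'H htS) (hS'H this)
  obtain ⟨P, hP⟩ := Cfsg.Agent.Lib.Helper48.exists_sylow_eq_map_of_normalizer_le S hN
  have hpi : IsPGroup 2 (Subgroup.zpowers i) :=
    Cfsg.Agent.Lib.Helper48.isPGroup_zpowers_of_orderOf_eq hi
  obtain ⟨Q, hQ⟩ := hpi.exists_le_sylow
  obtain ⟨g, hg⟩ := MulAction.exists_smul_eq G P Q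
  refine ⟨g, ?_⟩
  have hiQ : i ∈ ((g • P : Sylow 2 G) : Subgroup G) := by
    rw [hg]; exact hQ (Subgroup.mem_zpowers i)
  rw [Sylow.smul_def, Sylow.pointwise_smul_def, Subgroup.mem_pointwise_smul_iff_inv_smul_mem] at hiQ
  have : g⁻¹ * i * g ∈ (P : Subgroup G) := by
    simpa [MulAut.smul_def, MulAut.conj_apply] using hiQ
  rw [hP] at this
  exact hS'H this

omit [Finite G] in
theorem smul_mk_eq_iff (i a : G) : i • (a : G ⧸ H) = (a : G ⧸ H) ↔ a⁻¹ * i * a ∈ H := by
  rw [MulAction.Quotient.smul_mk, eq_comm, QuotientGroup.eq]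
  constructor
  · intro h; simpa [mul_assoc] using h
  · intro h; simpa [mul_assoc] using h

theorem exists_fix (hH : IsStronglyEmbedded H) {i : G} (hi : orderOf i = 2) :
    ∃ x : G ⧸ H, i • x = x := by
  obtain ⟨g, hg⟩ := exists_conj_mem hH hi
  exact ⟨(g : G ⧸ H), (smul_mk_eq_iff i g).mpr hg⟩

omit [Finite G] in
theorem fix_unique (hH : IsStronglyEmbedded H) {i : G} (hi : orderOf i = 2) {x y : G ⧸ H}
    (hx : i • x = x) (hy : i • y = y) : x = y := by
  induction x using QuotientGroup.induction_on with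
  | H a =>
  induction y using QuotientGroup.induction_on with
  | H b =>
  rw [smul_mk_eq_iff] at hx hy
  rw [QuotientGroup.eq]
  have ht : orderOf (a⁻¹ * i * a) = 2 := by
    have := orderOf_conj_two hi a⁻¹
    rwa [inv_inv] at this
  apply mem_of_conj_mem hH ht hx
  have : (a⁻¹ * b)⁻¹ * (a⁻¹ * i * a) * (a⁻¹ * b) = b⁻¹ * i * b := by group
  rw [this]; exact hy

omit [Finite G] in
theorem fix_of_commute (hH : IsStronglyEmbedded H) {i z : G} (hi : orderOf i = 2)
    (hc : Commute z i) {x : G ⧸ H} (hx : i • x = x) : z • x = x := by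
  apply fix_unique hH hi _ hx
  rw [← mul_smul, ← hc.eq, mul_smul, hx]

/-- Key injectivity lemma. -/
theorem swap_inj (hH : IsStronglyEmbedded H) {t w w' : G} (ht : orderOf t = 2) (hw : orderOf w = 2)
    (hw' : orderOf w' = 2) {x y : G ⧸ H} (hxy : x ≠ y) (htx : t • x = x) (hwx : w • x = y)
    (hw'x : w' • x = y) (heq : w * t * w = w' * t * w') : w = w' := by
  have htt := invol_sq ht
  have hww := invol_sq hw
  have hww' := invol_sq hw'
  have hwy : w • y = x := by rw [← hwx, ← mul_smul, hww, one_smul]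
  have hw'y : w' • y = x := by rw [← hw'x, ← mul_smul, hww', one_smul]
  obtain ⟨e, hedef⟩ : ∃ e, e = w * w' := ⟨_, rfl⟩
  have heinv : e⁻¹ = w' * w := by rw [hedef, mul_inv_rev, invol_inv hw, invol_inv hw']
  -- e commutes with t
  have het : Commute e t := by
    show e * t = t * e
    have h1 : t = w * (w' * t * w') * w := by
      rw [← heq]
      calc t = (w * w) * t * (w * w) := by rw [hww, one_mul, mul_one]
        _ = w * (w * t * w) * w := by group
    calc e * t = (w * w') * t * (w' * w') := by rw [hww', mul_one, hedef]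
      _ = w * (w' * t * w') * w' := by group
      _ = w * (w' * t * w') * (w * w) * w' := by rw [hww, mul_one]
      _ = (w * (w' * t * w') * w) * (w * w') := by group
      _ = t * e := by rw [← h1, hedef]
  -- e commutes with s = w t w
  have hes : Commute e (w * t * w) := by
    show e * (w * t * w) = (w * t * w) * e
    calc e * (w * t * w) = e * (w' * t * w') := by rw [heq]
      _ = w * (w' * w') * t * w' := by rw [hedef]; group
      _ = w * t * w' := by rw [hww', mul_one]
      _ = w * t * (w * w) * w' := by rw [hww, mul_one]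
      _ = (w * t * w) * e := by rw [hedef]; group
  obtain ⟨r, hrdef⟩ : ∃ r, r = t * w := ⟨_, rfl⟩
  have hrpos : 0 < orderOf r := orderOf_pos r
  have hrne : r ≠ 1 := by
    intro h
    have : w = t := by
      have h2 : t * r = t := by rw [h, mul_one]
      rw [hrdef, ← mul_assoc, htt, one_mul] at h2
      exact h2
    apply hxy
    rw [← hwx, this, htx]
  -- r has odd order
  have hodd : Odd (orderOf r) := by
    by_contra hne
    rw [Nat.not_odd_iff_even] at hne
    obtain ⟨k, hk⟩ := hne
    have hk2 : orderOf r = 2 * k := by omega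
    have hkpos : 0 < k := by omega
    rw [hrdef] at hk2
    obtain ⟨hz, hzt, hzw⟩ := dihedral_even ht hw hkpos hk2
    rw [← hrdef] at hz hzt hzw
    have hzx : (r ^ k) • x = x := fix_of_commute hH ht hzt htx
    obtain ⟨c, hc⟩ := exists_fix hH hw
    have hzc : (r ^ k) • c = c := fix_of_commute hH hw hzw hc
    have hxc : x = c := fix_unique hH hz hzx hzc
    apply hxy
    rw [← hwx, hxc, hc]
  obtain ⟨k, hk⟩ := hodd
  -- e commutes with r^2 = t * (w t w)
  have hr2 : r ^ 2 = t * (w * t * w) := by rw [pow_two, hrdef]; group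
  have her2 : Commute e (r ^ 2) := by rw [hr2]; exact het.mul_right hes
  have hrk : (r ^ 2) ^ (k + 1) = r := by
    rw [← pow_mul]
    have : 2 * (k + 1) = orderOf r + 1 := by omega
    rw [this, pow_succ, pow_orderOf_eq_one, one_mul]
  have her : Commute e r := by rw [← hrk]; exact her2.pow_right _
  have hew : Commute e w := by
    have : w = t * r := by rw [hrdef, ← mul_assoc, htt, one_mul]
    rw [this]; exact het.mul_right her
  -- w e w⁻¹ = e⁻¹
  have hee : e * e = 1 := by
    have h1 : w * e = e⁻¹ * w := by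
      rw [heinv, hedef]
      calc w * (w * w') = (w * w) * w' := by group
        _ = w' := by rw [hww, one_mul]
        _ = w' * (w * w) := by rw [hww, mul_one]
        _ = w' * w * w := by group
    have h2 : e * w = e⁻¹ * w := by rw [hew.eq]; exact h1
    have h3 : e = e⁻¹ := mul_right_cancel h2
    calc e * e = e * e⁻¹ := by rw [← h3]
      _ = 1 := mul_inv_cancel e
  by_cases he1 : e = 1
  · have : w' = w⁻¹ := by
      rw [hedef] at he1
      exact (inv_eq_of_mul_eq_one_right he1).symm
    rw [this, invol_inv hw]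
  · exfalso
    have he2 : orderOf e = 2 := orderOf_two_of_sq hee he1
    have hex : e • x = x := by rw [hedef, mul_smul, hw'x, hwy]
    have hey : e • y = y := by rw [hedef, mul_smul, hw'y, hwx]
    exact hxy (fix_unique hH he2 hex hey)

open Classical in
/-- Counting: for `x ≠ y` the number of involutions mapping `x` to `y` is the number of
involutions of `H`. -/
theorem card_swap (hH : IsStronglyEmbedded H) (x y : G ⧸ H) (hxy : x ≠ y) :
    Nat.card {i : G // orderOf i = 2 ∧ i • x = y} = Nat.card {t : G // orderOf t = 2 ∧ t ∈ H} := by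
  have : Fintype G := Fintype.ofFinite G
  have : Fintype (G ⧸ H) := Fintype.ofFinite _
  set I : Finset G := Finset.univ.filter (fun i : G => orderOf i = 2) with hI
  set M : ℕ := (Finset.univ.filter (fun t : G => orderOf t = 2 ∧ t ∈ H)).card with hM
  have hIm : ∀ i, i ∈ I ↔ orderOf i = 2 := fun i => by simp [hI]
  -- (a) number of involutions fixing a point
  have ha : ∀ z : G ⧸ H, (I.filter (fun i => i • z = z)).card = M := by
    intro z
    induction z using QuotientGroup.induction_on with
    | H a =>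
    rw [hM]
    apply Finset.card_nbij' (fun i => a⁻¹ * i * a) (fun t => a * t * a⁻¹)
    · intro i hi
      simp only [Finset.coe_filter, Set.mem_ofPred_eq, hIm] at hi
      simp only [Finset.coe_filter, Finset.mem_univ, true_and, Set.mem_ofPred_eq]
      refine ⟨?_, (smul_mk_eq_iff i a).mp hi.2⟩
      have := orderOf_conj_two hi.1 a⁻¹
      rwa [inv_inv] at this
    · intro t ht
      simp only [Finset.coe_filter, Finset.mem_univ, true_and, Set.mem_ofPred_eq] at ht
      simp only [Finset.coe_filter, Set.mem_ofPred_eq, hIm]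
      refine ⟨orderOf_conj_two ht.1 a, ?_⟩
      rw [smul_mk_eq_iff]
      have : a⁻¹ * (a * t * a⁻¹) * a = t := by group
      rw [this]; exact ht.2
    · intro i _; group
    · intro t _; group
  -- M is positive
  have hMpos : 0 < M := by
    obtain ⟨t, htH, ht⟩ := exists_invol_mem hH
    rw [hM, Finset.card_pos]
    exact ⟨t, by simp [ht, htH]⟩
  -- (b) upper bound
  have hb : ∀ x y : G ⧸ H, x ≠ y → (I.filter (fun i => i • x = y)).card ≤ M := by
    intro x y hxy
    have hx := ha x
    obtain ⟨t, htmem⟩ : (I.filter (fun i => i • x = x)).Nonempty := by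
      rw [← Finset.card_pos, hx]; exact hMpos
    simp only [Finset.mem_filter, hIm] at htmem
    obtain ⟨ht, htx⟩ := htmem
    rw [← ha y]
    apply Finset.card_le_card_of_injOn (fun w => w * t * w)
    · intro w hw
      simp only [Finset.coe_filter, Set.mem_ofPred_eq, hIm] at hw
      simp only [Finset.coe_filter, Set.mem_ofPred_eq, hIm]
      obtain ⟨hw2, hwx⟩ := hw
      have hwy : w • y = x := by rw [← hwx, ← mul_smul, invol_sq hw2, one_smul]
      refine ⟨?_, ?_⟩
      · have := orderOf_conj_two ht w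
        rwa [invol_inv hw2] at this
      · rw [mul_smul, mul_smul, hwy, htx, hwx]
    · intro w hw w' hw' heq
      simp only [Finset.coe_filter, Set.mem_ofPred_eq, hIm] at hw hw'
      exact swap_inj hH ht hw.1 hw'.1 hxy htx hw.2 hw'.2 heq
  -- (c) fiberwise
  have hc : I.card = ∑ z : G ⧸ H, (I.filter (fun i => i • x = z)).card :=
    Finset.card_eq_sum_card_fiberwise (f := fun i => i • x) (t := Finset.univ)
      (fun i _ => Finset.mem_univ _)
  -- (d) double counting
  have hd : I.card = ∑ z : G ⧸ H, (I.filter (fun i => i • z = z)).card := by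
    have h1 := Finset.sum_card_bipartiteAbove_eq_sum_card_bipartiteBelow
      (s := I) (t := (Finset.univ : Finset (G ⧸ H))) (fun i z => i • z = z)
    have h2 : ∀ i ∈ I, (Finset.bipartiteAbove (fun (i : G) (z : G ⧸ H) => i • z = z)
        Finset.univ i).card = 1 := by
      intro i hi
      rw [hIm] at hi
      obtain ⟨c, hc⟩ := exists_fix hH hi
      rw [Finset.card_eq_one]
      refine ⟨c, ?_⟩
      ext z
      simp only [Finset.bipartiteAbove, Finset.mem_filter, Finset.mem_univ, true_and,
        Finset.mem_singleton]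
      constructor
      · intro hz; exact fix_unique hH hi hz hc
      · rintro rfl; exact hc
    rw [Finset.sum_congr rfl h2] at h1
    simp only [Finset.sum_const, smul_eq_mul, mul_one] at h1
    rw [h1]
    rfl
  -- (e) conclude
  have he : ∑ z : G ⧸ H, (I.filter (fun i => i • x = z)).card = ∑ z : G ⧸ H, M := by
    rw [← hc, hd]
    exact Finset.sum_congr rfl (fun z _ => ha z)
  have hle : ∀ z ∈ (Finset.univ : Finset (G ⧸ H)), (I.filter (fun i => i • x = z)).card ≤ M := by
    intro z _
    by_cases hzx : x = z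
    · subst hzx; exact (ha x).le
    · exact hb x z hzx
  have hfin := (Finset.sum_eq_sum_iff_of_le hle).mp he y (Finset.mem_univ _)
  rw [Nat.card_eq_fintype_card, Nat.card_eq_fintype_card, Fintype.card_subtype,
    Fintype.card_subtype, ← hM, ← hfin, hI, Finset.filter_filter]

end se

end Cfsg.Agent.Lib.Helper97
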