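import Cfsg.Agent.Lib.Helper97.StrEmb

set_option autoImplicit false

namespace Cfsg.Agent.Lib.Helper97

open Cfsg

variable {G : Type*} [Group G] [Finite G] {H : Subgroup G}

omit [Finite G] in
/-- The involutions fixing a point are in bijection with the involutions of `H`. -/
theorem card_fix (z : G ⧸ H) :
    Nat.card {i : G // orderOf i = 2 ∧ i • z = z} = Nat.card {t : G // orderOf t = 2 ∧ t ∈ H} := by
  obtain ⟨a, rfl⟩ := QuotientGroup.mk_surjective z
  apply Nat.card_congr
  refine ⟨fun i => ⟨a⁻¹ * i.1 * a, ?_, ?_⟩, fun t => ⟨a * t.1 * a⁻¹, ?_, ?_⟩, ?_, ?_⟩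
  · have := orderOf_conj_two i.2.1 a⁻¹
    rwa [inv_inv] at this
  · exact (smul_mk_eq_iff i.1 a).mp i.2.2
  · exact orderOf_conj_two t.2.1 a
  · rw [smul_mk_eq_iff]
    have : a⁻¹ * (a * t.1 * a⁻¹) * a = t.1 := by group
    rw [this]; exact t.2.2
  · intro i; apply Subtype.ext; simp only; group
  · intro t; apply Subtype.ext; simp only; group

/-- For `x ≠ y`, an involution `t` fixing `x` and an involution `s` fixing `y`, there is an
involution `w` swapping `x` and `y` with `w t w = s`. -/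
theorem exists_swap_conj (hH : IsStronglyEmbedded H) {t s : G} {x y : G ⧸ H} (hxy : x ≠ y)
    (ht : orderOf t = 2) (htx : t • x = x) (hs : orderOf s = 2) (hsy : s • y = y) :
    ∃ w : G, orderOf w = 2 ∧ w • x = y ∧ w * t * w = s := by
  let f : {i : G // orderOf i = 2 ∧ i • x = y} → {i : G // orderOf i = 2 ∧ i • y = y} :=
    fun w => ⟨w.1 * t * w.1, by
      have hw2 := w.2.1
      have hwx := w.2.2
      have hwy : w.1 • y = x := by
        calc w.1 • y = w.1 • (w.1 • x) := by rw [hwx]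
          _ = x := by rw [← mul_smul, invol_sq hw2, one_smul]
      refine ⟨?_, ?_⟩
      · have := orderOf_conj_two ht w.1
        rwa [invol_inv hw2] at this
      · rw [mul_smul, mul_smul, hwy, htx, hwx]⟩
  have hinj : Function.Injective f := by
    intro w w' h
    apply Subtype.ext
    have h' : w.1 * t * w.1 = w'.1 * t * w'.1 := congrArg Subtype.val h
    exact swap_inj hH ht w.2.1 w'.2.1 hxy htx w.2.2 w'.2.2 h'
  have hcard : Nat.card {i : G // orderOf i = 2 ∧ i • y = y} ≤
      Nat.card {i : G // orderOf i = 2 ∧ i • x = y} := by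
    rw [card_fix, card_swap hH x y hxy]
  have hbij := hinj.bijective_of_nat_card_le hcard
  obtain ⟨w, hw⟩ := hbij.2 ⟨s, hs, hsy⟩
  exact ⟨w.1, w.2.1, w.2.2, congrArg Subtype.val hw⟩

/-- `D = H ∩ uHu⁻¹` is transitive on the involutions of `H`. -/
theorem exists_conj_in_D (hH : IsStronglyEmbedded H) {u s t : G} (hu : orderOf u = 2) (huH : u ∉ H)
    (hs : orderOf s = 2) (hsH : s ∈ H) (ht : orderOf t = 2) (htH : t ∈ H) :
    ∃ d ∈ (H ⊓ H.map (MulAut.conj u).toMonoidHom), d * s * d⁻¹ = t ∧ orderOf (u * d) = 2 := by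
  have huu := invol_sq hu
  have hui := invol_inv hu
  set x : G ⧸ H := ((1 : G) : G ⧸ H) with hx
  set y : G ⧸ H := u • x with hy
  have hmemH : ∀ g : G, g • x = x ↔ g ∈ H := by
    intro g
    rw [hx, smul_mk_eq_iff]
    simp
  have hxy : x ≠ y := by
    intro h
    exact huH ((hmemH u).mp h.symm)
  have huy : u • y = x := by rw [hy, ← mul_smul, huu, one_smul]
  have hsx : s • x = x := (hmemH s).mpr hsH
  have htx : t • x = x := (hmemH t).mpr htH
  have ht' : orderOf (u * t * u) = 2 := by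
    have := orderOf_conj_two ht u
    rwa [hui] at this
  have ht'y : (u * t * u) • y = y := by
    rw [mul_smul, mul_smul, huy, htx]
  obtain ⟨w, hw, hwx, hwst⟩ := exists_swap_conj hH hxy hs hsx ht' ht'y
  have hww := invol_sq hw
  have hwi := invol_inv hw
  have hwy : w • y = x := by rw [← hwx, ← mul_smul, hww, one_smul]
  refine ⟨u * w, ⟨?_, ?_⟩, ?_, ?_⟩
  · show u * w ∈ H
    rw [← hmemH, mul_smul, hwx, huy]
  · refine ⟨w * u, ?_, ?_⟩
    · show w * u ∈ H
      rw [← hmemH, mul_smul, ← hy, hwy]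
    · simp only [MulEquiv.coe_toMonoidHom, MulAut.conj_apply]
      rw [hui]
      calc u * (w * u) * u = u * w * (u * u) := by group
        _ = u * w := by rw [huu, mul_one]
  · rw [mul_inv_rev, hui, hwi]
    calc u * w * s * (w * u) = u * (w * s * w) * u := by group
      _ = u * (u * t * u) * u := by rw [hwst]
      _ = (u * u) * t * (u * u) := by group
      _ = t := by rw [huu, one_mul, mul_one]
  · have : u * (u * w) = w := by rw [← mul_assoc, huu, one_mul]
    rw [this]; exact hw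

theorem isConj_of_invol (hH : IsStronglyEmbedded H) {u : G} (hu : orderOf u = 2) (huH : u ∉ H)
    {a b : G} (ha : orderOf a = 2) (hb : orderOf b = 2) : IsConj a b := by
  obtain ⟨g, hg⟩ := exists_conj_mem hH ha
  obtain ⟨g', hg'⟩ := exists_conj_mem hH hb
  have ha' : orderOf (g⁻¹ * a * g) = 2 := by
    have := orderOf_conj_two ha g⁻¹
    rwa [inv_inv] at this
  have hb' : orderOf (g'⁻¹ * b * g') = 2 := by
    have := orderOf_conj_two hb g'⁻¹
    rwa [inv_inv] at this
  obtain ⟨d, -, hd, -⟩ := exists_conj_in_D hH hu huH ha' hg hb' hg'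
  rw [isConj_iff]
  refine ⟨g' * d * g⁻¹, ?_⟩
  calc g' * d * g⁻¹ * a * (g' * d * g⁻¹)⁻¹ = g' * (d * (g⁻¹ * a * g) * d⁻¹) * g'⁻¹ := by group
    _ = g' * (g'⁻¹ * b * g') * g'⁻¹ := by rw [hd]
    _ = b := by group

end Cfsg.Agent.Lib.Helper97
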