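import Mathlib
import Cfsg.Agent.Lib.Helper35.LinDLBasic
import Cfsg.Agent.Lib.Helper3.RepBasic

set_option autoImplicit false

/-! Reduction modulo `p` inside the complex numbers: a valuation subring of `ℂ` in which the prime
`p` is not a unit, lattices over it spanned by a group orbit, and the consequence that a vector
whose `P`-trace is primitive generates a free `P`-orbit. -/

namespace Cfsg.Agent.Lib.Helper97.ValLattice

open scoped BigOperators

/-- There is a valuation subring of `ℂ` in which the prime `p` is a non-unit. -/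
theorem exists_valuationSubring (p : ℕ) (hp : p.Prime) :
    ∃ 𝒱 : ValuationSubring ℂ, (p : ℂ) ∈ 𝒱.nonunits := by
  let A : Subring ℂ := ⊥
  have hpA : (p : ℂ) ∈ A := by
    rw [Subring.mem_bot]
    exact ⟨(p : ℤ), by simp⟩
  let I : Ideal A := Ideal.span {(⟨(p : ℂ), hpA⟩ : A)}
  have hI : I ≠ ⊤ := by
    intro h
    rw [Ideal.eq_top_iff_one, Ideal.mem_span_singleton'] at h
    obtain ⟨a, ha⟩ := h
    obtain ⟨n, hn⟩ := Subring.mem_bot.mp a.2
    have h1 : ((n : ℂ)) * (p : ℂ) = 1 := by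
      have := congrArg Subtype.val ha
      simp only [Subring.coe_mul, Subring.coe_one] at this
      rw [← hn] at this
      simpa using this
    have h2 : n * (p : ℤ) = 1 := by exact_mod_cast h1
    have h3 : (p : ℤ) ∣ 1 := ⟨n, by rw [mul_comm]; exact h2.symm⟩
    have h4 : p ∣ 1 := by exact_mod_cast h3
    exact hp.one_lt.ne' (Nat.dvd_one.mp h4)
  obtain ⟨B, -, hB⟩ := Ideal.image_subset_nonunits_valuationSubring I hI
  refine ⟨B, hB ⟨⟨(p : ℂ), hpA⟩, Ideal.subset_span rfl, rfl⟩⟩

section Lattice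

variable {G : Type*} [Group G] {V : Type*} [AddCommGroup V] [Module ℂ V]
variable (𝒱 : ValuationSubring ℂ)

/-- the lattice spanned by the orbit of `v` -/
noncomputable def orbitLattice (ρ : Representation ℂ G V) (v : V) : Submodule ↥𝒱 V :=
  Submodule.span ↥𝒱 (Set.range (fun g : G => ρ g v))

theorem mem_orbitLattice (ρ : Representation ℂ G V) (v : V) (g : G) :
    ρ g v ∈ orbitLattice 𝒱 ρ v :=
  Submodule.subset_span ⟨g, rfl⟩

theorem self_mem_orbitLattice (ρ : Representation ℂ G V) (v : V) : v ∈ orbitLattice 𝒱 ρ v := by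
  have := mem_orbitLattice 𝒱 ρ v 1
  simpa using this

/-- the lattice is stable under the group -/
theorem map_orbitLattice_le (ρ : Representation ℂ G V) (v : V) (g : G) :
    (orbitLattice 𝒱 ρ v).map ((ρ g).restrictScalars ↥𝒱) ≤ orbitLattice 𝒱 ρ v := by
  unfold orbitLattice
  rw [Submodule.map_span, Submodule.span_le]
  rintro _ ⟨_, ⟨h, rfl⟩, rfl⟩
  apply Submodule.subset_span
  refine ⟨g * h, ?_⟩
  simp [map_mul]

theorem apply_mem_orbitLattice (ρ : Representation ℂ G V) (v : V) (g : G) {x : V}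
    (hx : x ∈ orbitLattice 𝒱 ρ v) : ρ g x ∈ orbitLattice 𝒱 ρ v :=
  map_orbitLattice_le 𝒱 ρ v g ⟨x, hx, rfl⟩

theorem apply_mem_smul_orbitLattice (ρ : Representation ℂ G V) (v : V) (g : G) {x : V}
    (hx : x ∈ IsLocalRing.maximalIdeal ↥𝒱 • orbitLattice 𝒱 ρ v) :
    ρ g x ∈ IsLocalRing.maximalIdeal ↥𝒱 • orbitLattice 𝒱 ρ v := by
  have h1 : (IsLocalRing.maximalIdeal ↥𝒱 • orbitLattice 𝒱 ρ v).map ((ρ g).restrictScalars ↥𝒱) ≤
      IsLocalRing.maximalIdeal ↥𝒱 • orbitLattice 𝒱 ρ v := by
    rw [Submodule.map_smul'']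
    exact Submodule.smul_mono le_rfl (map_orbitLattice_le 𝒱 ρ v g)
  exact h1 ⟨x, hx, rfl⟩

/-- Nakayama: a nonzero vector is primitive in the lattice spanned by its orbit. -/
theorem not_mem_smul_orbitLattice [Finite G] (ρ : Representation ℂ G V) (v : V) (hv : v ≠ 0) :
    v ∉ IsLocalRing.maximalIdeal ↥𝒱 • orbitLattice 𝒱 ρ v := by
  intro hmem
  have hle : orbitLattice 𝒱 ρ v ≤ IsLocalRing.maximalIdeal ↥𝒱 • orbitLattice 𝒱 ρ v := by
    conv_lhs => unfold orbitLattice
    rw [Submodule.span_le]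
    rintro _ ⟨g, rfl⟩
    exact apply_mem_smul_orbitLattice 𝒱 ρ v g hmem
  have hfg : (orbitLattice 𝒱 ρ v).FG := Submodule.fg_span (Set.finite_range _)
  have hbot := Submodule.eq_bot_of_le_smul_of_le_jacobson_bot (IsLocalRing.maximalIdeal ↥𝒱)
    (orbitLattice 𝒱 ρ v) hfg hle (IsLocalRing.maximalIdeal_le_jacobson ⊥)
  have h1 := self_mem_orbitLattice 𝒱 ρ v
  rw [hbot, Submodule.mem_bot] at h1
  exact hv h1

end Lattice

section Dependence

/-- translation representation on functions -/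
noncomputable def transRep (k : Type*) [Field k] (Q : Type*) [Group Q] :
    Representation k Q (Q → k) where
  toFun s := LinearMap.funLeft k k (fun u => s⁻¹ * u)
  map_one' := by
    ext c u
    simp [LinearMap.funLeft]
  map_mul' s t := by
    ext c u
    simp [LinearMap.funLeft, mul_assoc]

theorem transRep_apply (k : Type*) [Field k] (Q : Type*) [Group Q] (s : Q) (c : Q → k) (u : Q) :
    transRep k Q s c u = c (s⁻¹ * u) := rfl

variable (𝒱 : ValuationSubring ℂ)

/-- normalisation of a nonzero finite family in a valuation ring -/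
theorem exists_normalize {ι : Type*} [Fintype ι] (c : ι → ℂ) (hc : ∃ i, c i ≠ 0) :
    ∃ i₀, c i₀ ≠ 0 ∧ ∀ i, c i / c i₀ ∈ 𝒱 := by
  classical
  obtain ⟨j, hj⟩ := hc
  obtain ⟨i₀, -, hmax⟩ := Finset.exists_max_image Finset.univ (fun i => 𝒱.valuation (c i))
    ⟨j, Finset.mem_univ _⟩
  have h0 : c i₀ ≠ 0 := by
    intro h
    have h1 := hmax j (Finset.mem_univ j)
    rw [h, map_zero] at h1
    have h2 : 𝒱.valuation (c j) = 0 := le_antisymm h1 zero_le
    exact hj ((map_eq_zero _).mp h2)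
  refine ⟨i₀, h0, fun i => ?_⟩
  rw [← ValuationSubring.valuation_le_one_iff, map_div₀]
  have h3 : 𝒱.valuation (c i₀) ≠ 0 := fun h => h0 ((map_eq_zero _).mp h)
  rw [div_le_iff₀ (zero_lt_iff.mpr h3), one_mul]
  exact hmax i (Finset.mem_univ i)

/-- **Free orbits**: if the `Q`-orbit of a lattice vector `w` is linearly dependent over `ℂ`,
for a `p`-group `Q` and `p` a non-unit of the valuation ring, then the `Q`-trace of `w` is
divisible by the maximal ideal. -/
theorem sum_mem_smul_of_not_linearIndependent {Q : Type*} [Group Q] [Fintype Q]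
    {V : Type*} [AddCommGroup V] [Module ℂ V] {p : ℕ} [Fact p.Prime] (hQ : IsPGroup p Q)
    (hp : (p : ℂ) ∈ 𝒱.nonunits) (σ : Representation ℂ Q V) (L : Submodule ↥𝒱 V)
    (hL : ∀ u : Q, ∀ x ∈ L, σ u x ∈ L) (w : V) (hw : w ∈ L)
    (hdep : ¬ LinearIndependent ℂ (fun u : Q => σ u w)) :
    ∑ u : Q, σ u w ∈ IsLocalRing.maximalIdeal ↥𝒱 • L := by
  classical
  rw [Fintype.not_linearIndependent_iff] at hdep
  obtain ⟨c, hc0, hc⟩ := hdep
  obtain ⟨u₀, hu₀, hint⟩ := exists_normalize 𝒱 c hc
  let d : Q → ↥𝒱 := fun u => ⟨c u / c u₀, hint u⟩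
  have hd0 : ∑ u, ((d u : ↥𝒱) : ℂ) • σ u w = 0 := by
    have h1 : ∑ u, (c u / c u₀) • σ u w = (c u₀)⁻¹ • ∑ u, c u • σ u w := by
      rw [Finset.smul_sum]
      apply Finset.sum_congr rfl
      intro u _
      rw [smul_smul]
      congr 1
      field_simp
    rw [hc0, smul_zero] at h1
    exact h1
  have hd1 : d u₀ = 1 := Subtype.ext (div_self hu₀)
  let k := IsLocalRing.ResidueField ↥𝒱
  let res : ↥𝒱 →+* k := IsLocalRing.residue ↥𝒱
  have hpk : (p : k) = 0 := by
    obtain ⟨hp1, hp2⟩ := ValuationSubring.mem_nonunits_iff_exists_mem_maximalIdeal.mp hp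
    have h1 : res ⟨(p : ℂ), hp1⟩ = 0 := (IsLocalRing.residue_eq_zero_iff _).mpr hp2
    have h2 : (⟨(p : ℂ), hp1⟩ : ↥𝒱) = ((p : ℕ) : ↥𝒱) := Subtype.ext (by simp)
    rw [h2, map_natCast] at h1
    exact h1
  -- the reductions of the dependence relations
  let 𝒟 : Submodule k (Q → k) :=
    { carrier := {cb | ∃ e : Q → ↥𝒱, (∑ u, ((e u : ↥𝒱) : ℂ) • σ u w = 0) ∧ ∀ u, res (e u) = cb u}
      zero_mem' := ⟨0, by simp, by simp⟩
      add_mem' := by
        rintro a b ⟨e, he, hea⟩ ⟨f, hf, hfb⟩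
        refine ⟨e + f, ?_, ?_⟩
        · simp only [Pi.add_apply, AddMemClass.coe_add, add_smul,
            Finset.sum_add_distrib, he, hf, add_zero]
        · intro u
          simp [hea u, hfb u]
      smul_mem' := by
        rintro l a ⟨e, he, hea⟩
        obtain ⟨l', rfl⟩ := IsLocalRing.residue_surjective l
        refine ⟨fun u => l' * e u, ?_, ?_⟩
        · simp only [MulMemClass.coe_mul, mul_smul]
          rw [← Finset.smul_sum, he, smul_zero]
        · intro u
          simp [hea u, res] }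
  have hmem𝒟 : ∀ cb : Q → k, cb ∈ 𝒟 ↔
      ∃ e : Q → ↥𝒱, (∑ u, ((e u : ↥𝒱) : ℂ) • σ u w = 0) ∧ ∀ u, res (e u) = cb u := fun _ => Iff.rfl
  have hstab : ∀ s : Q, 𝒟 ≤ 𝒟.comap (transRep k Q s) := by
    intro s cb hcb
    rw [Submodule.mem_comap, hmem𝒟]
    obtain ⟨e, he, hecb⟩ := (hmem𝒟 cb).mp hcb
    refine ⟨fun u => e (s⁻¹ * u), ?_, ?_⟩
    · have h1 : ∑ u, ((e (s⁻¹ * u) : ↥𝒱) : ℂ) • σ u w =
          ∑ u, ((e (s⁻¹ * (s * u)) : ↥𝒱) : ℂ) • σ (s * u) w :=
        (Fintype.sum_equiv (Equiv.mulLeft s) _ _ (fun u => rfl)).symm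
      rw [h1]
      have h2 : ∑ u, ((e (s⁻¹ * (s * u)) : ↥𝒱) : ℂ) • σ (s * u) w =
          σ s (∑ u, ((e u : ↥𝒱) : ℂ) • σ u w) := by
        rw [map_sum]
        apply Finset.sum_congr rfl
        intro u _
        rw [inv_mul_cancel_left, map_smul, map_mul, Module.End.mul_apply]
      rw [h2, he, map_zero]
    · intro u
      rw [transRep_apply]
      exact hecb _
  have hnt : Nontrivial ↥𝒟 := by
    refine ⟨⟨⟨fun u => res (d u), d, hd0, fun u => rfl⟩, 0, ?_⟩⟩
    intro h
    have h1 := congrArg (fun x : ↥𝒟 => (x : Q → k) u₀) h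
    simp only [Submodule.coe_zero, Pi.zero_apply] at h1
    rw [hd1, map_one] at h1
    exact one_ne_zero h1
  obtain ⟨x, hx0, hxfix⟩ := Cfsg.Agent.Lib.Helper35.LinDL.exists_fixed_ne_zero hQ hpk
    ((transRep k Q).subrepresentation 𝒟 hstab)
  -- a fixed vector is a constant function
  have hconst : ∀ s : Q, (x : Q → k) s = (x : Q → k) 1 := by
    intro s
    have h1 := congrArg (fun y : ↥𝒟 => (y : Q → k) s) (hxfix s)
    have h2 : (((transRep k Q).subrepresentation 𝒟 hstab s x : ↥𝒟) : Q → k) s =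
        (x : Q → k) (s⁻¹ * s) := rfl
    have h3 : (((transRep k Q).subrepresentation 𝒟 hstab s x : ↥𝒟) : Q → k) s =
        (x : Q → k) s := h1
    rw [h2, inv_mul_cancel] at h3
    exact h3.symm
  have hx1 : (x : Q → k) 1 ≠ 0 := by
    intro h
    apply hx0
    apply Subtype.ext
    funext s
    rw [hconst s, h]
    rfl
  obtain ⟨e, he, hex⟩ := (hmem𝒟 _).mp x.2
  have hunit : IsUnit (e 1) := by
    by_contra hnu
    have : e 1 ∈ IsLocalRing.maximalIdeal ↥𝒱 := (IsLocalRing.mem_maximalIdeal _).mpr hnu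
    apply hx1
    rw [← hex 1]
    exact (IsLocalRing.residue_eq_zero_iff _).mpr this
  have hdiff : ∀ u : Q, e 1 - e u ∈ IsLocalRing.maximalIdeal ↥𝒱 := by
    intro u
    rw [← IsLocalRing.residue_eq_zero_iff, map_sub, sub_eq_zero]
    show res (e 1) = res (e u)
    rw [hex 1, hex u, hconst u]
  have hkey : (e 1) • ∑ u, σ u w = ∑ u, (e 1 - e u) • σ u w := by
    have h1 : ∑ u, (e 1 - e u) • σ u w = ∑ u, (e 1) • σ u w - ∑ u, (e u) • σ u w := by
      rw [← Finset.sum_sub_distrib]
      apply Finset.sum_congr rfl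
      intro u _
      rw [sub_smul]
    have h2 : ∑ u, (e u) • σ u w = 0 := he
    rw [h1, h2, sub_zero, Finset.smul_sum]
  have hmem : (e 1) • ∑ u, σ u w ∈ IsLocalRing.maximalIdeal ↥𝒱 • L := by
    rw [hkey]
    apply Submodule.sum_mem
    intro u _
    exact Submodule.smul_mem_smul (hdiff u) (hL u w hw)
  obtain ⟨a, ha⟩ := hunit.exists_left_inv
  have h3 := Submodule.smul_mem _ a hmem
  rw [smul_smul, ha, one_smul] at h3
  exact h3

end Dependence

section OrbitSum

/-- sums over an invariant set on which the group acts freely, grouped by orbits -/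
theorem sum_mem_of_orbit_sums {Q : Type*} [Group Q] [Fintype Q] {Ω : Type*} [DecidableEq Ω]
    [MulAction Q Ω] {V : Type*} [AddCommGroup V] (A : AddSubgroup V) (f : Ω → V) :
    ∀ (T : Finset Ω), (∀ u : Q, ∀ q ∈ T, u • q ∈ T) →
      (∀ q ∈ T, ∀ u : Q, u • q = q → u = 1) →
      (∀ q ∈ T, ∑ u : Q, f (u • q) ∈ A) → ∑ q ∈ T, f q ∈ A := by
  intro T
  induction' hn : T.card using Nat.strong_induction_on with n ih generalizing T
  intro hT hfree hsum
  rcases T.eq_empty_or_nonempty with rfl | ⟨q, hq⟩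
  · simp
  · let O : Finset Ω := Finset.univ.image (fun u : Q => u • q)
    have hOT : O ⊆ T := by
      intro x hx
      obtain ⟨u, -, rfl⟩ := Finset.mem_image.mp hx
      exact hT u q hq
    have hinj : Function.Injective (fun u : Q => u • q) := by
      intro u u' h
      have h1 : (u'⁻¹ * u) • q = q := by
        rw [mul_smul]
        show u'⁻¹ • (u • q) = q
        have h' : u • q = u' • q := h
        rw [h', inv_smul_smul]
      have h2 := hfree q hq _ h1
      exact (inv_mul_eq_one.mp h2).symm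
    have hOsum : ∑ x ∈ O, f x = ∑ u : Q, f (u • q) :=
      Finset.sum_image (fun u _ u' _ h => hinj h)
    have hT' : ∀ u : Q, ∀ x ∈ T \ O, u • x ∈ T \ O := by
      intro u x hx
      rw [Finset.mem_sdiff] at hx ⊢
      refine ⟨hT u x hx.1, fun h => hx.2 ?_⟩
      obtain ⟨u', -, hu'⟩ := Finset.mem_image.mp h
      refine Finset.mem_image.mpr ⟨u⁻¹ * u', Finset.mem_univ _, ?_⟩
      show (u⁻¹ * u') • q = x
      rw [mul_smul, hu', inv_smul_smul]
    have hqO : q ∈ O := Finset.mem_image.mpr ⟨1, Finset.mem_univ _, one_smul _ _⟩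
    have hcard : (T \ O).card < T.card := by
      apply Finset.card_lt_card
      exact Finset.sdiff_ssubset hOT ⟨q, hqO⟩
    have h3 := ih (T \ O).card (by rw [← hn]; exact hcard) (T \ O) rfl hT'
      (fun x hx => hfree x (Finset.mem_sdiff.mp hx).1)
      (fun x hx => hsum x (Finset.mem_sdiff.mp hx).1)
    rw [← Finset.sum_sdiff hOT]
    exact A.add_mem h3 (by rw [hOsum]; exact hsum q hq)

end OrbitSum

section Main

open Cfsg.Agent.Lib.Helper3

/-- **Degree bound.** Let `ρ` be a nontrivial irreducible complex representation of the finite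
group `G` with a nonzero vector fixed by the subgroup `H`, and let `P ≤ H` be a `p`-subgroup
acting semiregularly on the nontrivial cosets of `H`. Then the degree of `ρ` is at least `|P|`. -/
theorem card_le_of_fixed {G : Type*} [Group G] [Fintype G] {n : ℕ}
    (ρ : Representation ℂ G (Fin n → ℂ)) (hρ : ρ.IsIrreducible) (hnt : ¬ ∀ g, ρ g = 1)
    {p : ℕ} [Fact p.Prime] (P H : Subgroup G) (hP : IsPGroup p P) (hPH : P ≤ H)
    (hsemi : ∀ g : G, g ∉ H → ∀ u ∈ P, g⁻¹ * u * g ∈ H → u = 1)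
    (v : Fin n → ℂ) (hv : v ≠ 0) (hfix : ∀ h ∈ H, ρ h v = v) : Nat.card P ≤ n := by
  classical
  have hp : p.Prime := Fact.out
  obtain ⟨𝒱, h𝒱⟩ := exists_valuationSubring p hp
  have := Fintype.ofFinite (G ⧸ H)
  have := Fintype.ofFinite ↥P
  -- the orbit map on cosets
  let f : G ⧸ H → (Fin n → ℂ) := fun q => Quotient.liftOn' q (fun g => ρ g v) (by
    intro a b hab
    rw [QuotientGroup.leftRel_apply] at hab
    have h1 : ρ b v = ρ a (ρ (a⁻¹ * b) v) := by
      rw [← Module.End.mul_apply, ← map_mul, mul_inv_cancel_left]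
    show ρ a v = ρ b v
    rw [h1, hfix _ hab])
  have hf_mk : ∀ g : G, f (QuotientGroup.mk g) = ρ g v := fun g => rfl
  have hf_smul : ∀ (g : G) (q : G ⧸ H), f (g • q) = ρ g (f q) := by
    intro g q
    induction q using QuotientGroup.induction_on with
    | H x =>
      rw [MulAction.Quotient.smul_mk, hf_mk, hf_mk, smul_eq_mul, map_mul, Module.End.mul_apply]
  -- the total sum vanishes
  have hsum0 : ∑ q : G ⧸ H, f q = 0 := by
    set s := ∑ q : G ⧸ H, f q with hs
    have hsfix : ∀ g : G, ρ g s = s := by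
      intro g
      rw [hs, map_sum]
      have h1 : ∑ q : G ⧸ H, ρ g (f q) = ∑ q : G ⧸ H, f (g • q) := by
        apply Finset.sum_congr rfl
        intro q _
        rw [hf_smul]
      rw [h1]
      exact Fintype.sum_equiv (MulAction.toPerm g) _ _ (fun q => rfl)
    by_contra hs0
    have hinv : ∀ g : G, ∀ x ∈ Submodule.span ℂ {s}, ρ g x ∈ Submodule.span ℂ {s} := by
      intro g x hx
      obtain ⟨a, rfl⟩ := Submodule.mem_span_singleton.mp hx
      rw [map_smul, hsfix]
      exact Submodule.smul_mem _ _ (Submodule.mem_span_singleton_self s)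
    rcases ((isIrreducible_iff ρ).mp hρ).2 _ hinv with h | h
    · apply hs0
      have := Submodule.mem_span_singleton_self (R := ℂ) s
      rw [h, Submodule.mem_bot] at this
      exact this
    · apply hnt
      intro g
      refine LinearMap.ext fun x => ?_
      have hx : x ∈ Submodule.span ℂ {s} := by rw [h]; trivial
      obtain ⟨a, rfl⟩ := Submodule.mem_span_singleton.mp hx
      rw [map_smul, hsfix]
      rfl
  -- the lattice
  set L := orbitLattice 𝒱 ρ v with hL
  have hprim := not_mem_smul_orbitLattice 𝒱 ρ v hv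
  let q₀ : G ⧸ H := QuotientGroup.mk 1
  have hq₀ : f q₀ = v := by
    show ρ 1 v = v
    simp
  let T : Finset (G ⧸ H) := Finset.univ.erase q₀
  have hfixq₀ : ∀ u : ↥P, u • q₀ = q₀ := by
    intro u
    show (u : G) • (QuotientGroup.mk 1 : G ⧸ H) = QuotientGroup.mk 1
    rw [MulAction.Quotient.smul_mk, smul_eq_mul, mul_one]
    apply (QuotientGroup.eq).mpr
    rw [mul_one]
    exact H.inv_mem (hPH u.2)
  have hT : ∀ u : ↥P, ∀ q ∈ T, u • q ∈ T := by
    intro u q hq
    rw [Finset.mem_erase] at hq ⊢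
    refine ⟨fun h => hq.1 ?_, Finset.mem_univ _⟩
    have h1 : q = u⁻¹ • (u • q) := by rw [inv_smul_smul]
    rw [h1, h, hfixq₀]
  have hfree : ∀ q ∈ T, ∀ u : ↥P, u • q = q → u = 1 := by
    intro q hq u hu
    induction q using QuotientGroup.induction_on with
    | H g =>
      have hg : g ∉ H := by
        intro hgH
        apply (Finset.mem_erase.mp hq).1
        apply (QuotientGroup.eq).mpr
        rw [mul_one]
        exact H.inv_mem hgH
      have h1 : ((u : G) • (QuotientGroup.mk g : G ⧸ H)) = QuotientGroup.mk g := hu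
      rw [MulAction.Quotient.smul_mk, smul_eq_mul] at h1
      have h2 := (QuotientGroup.eq).mp h1
      have h3 : g⁻¹ * (u : G)⁻¹ * g ∈ H := by
        rw [mul_inv_rev] at h2
        exact h2
      have h4 : g⁻¹ * (u : G) * g ∈ H := by
        have := H.inv_mem h3
        simpa [mul_assoc] using this
      have h5 := hsemi g hg (u : G) u.2 h4
      exact Subtype.ext h5
  -- some orbit sum is primitive
  have hex : ∃ q ∈ T, ∑ u : ↥P, f (u • q) ∉ IsLocalRing.maximalIdeal ↥𝒱 • L := by
    by_contra hall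
    push Not at hall
    have h1 := sum_mem_of_orbit_sums (Q := ↥P)
      (IsLocalRing.maximalIdeal ↥𝒱 • L).toAddSubgroup f T hT hfree hall
    apply hprim
    have h2 : v = -∑ q ∈ T, f q := by
      have h3 := Finset.add_sum_erase Finset.univ f (Finset.mem_univ q₀)
      rw [hsum0, hq₀] at h3
      exact eq_neg_of_add_eq_zero_left h3
    have h4 := (IsLocalRing.maximalIdeal ↥𝒱 • L).neg_mem h1
    rw [← h2] at h4
    exact h4
  obtain ⟨q, -, hq⟩ := hex
  induction q using QuotientGroup.induction_on with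
  | H g =>
    set w := ρ g v with hw
    have hwL : w ∈ L := mem_orbitLattice 𝒱 ρ v g
    let σ : Representation ℂ ↥P (Fin n → ℂ) := ρ.comp P.subtype
    have hσ : ∀ u : ↥P, σ u w = f (u • (QuotientGroup.mk g : G ⧸ H)) := by
      intro u
      show ρ (u : G) w = f ((u : G) • (QuotientGroup.mk g : G ⧸ H))
      rw [hf_smul, hf_mk]
    have hindep : LinearIndependent ℂ (fun u : ↥P => σ u w) := by
      by_contra hdep
      apply hq
      have h1 := sum_mem_smul_of_not_linearIndependent 𝒱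
        (IsPGroup.of_equiv hP (MulEquiv.refl _)) h𝒱 σ L
        (fun u x hx => apply_mem_orbitLattice 𝒱 ρ v (u : G) hx) w hwL hdep
      have h2 : ∑ u : ↥P, σ u w = ∑ u : ↥P, f (u • (QuotientGroup.mk g : G ⧸ H)) :=
        Finset.sum_congr rfl (fun u _ => hσ u)
      rw [← h2]
      exact h1
    have h3 := hindep.fintype_card_le_finrank
    rw [Module.finrank_fin_fun] at h3
    rw [Nat.card_eq_fintype_card]
    exact h3

end Main

end Cfsg.Agent.Lib.Helper97.ValLattice
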